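/- Corrected specifications of Bender-Glauberman Lemmas 12.8 and 12.11 (they replace `H46.T12_8` and
`H46.T12_11`, whose clauses (e), respectively (c), say more than the book). -/
import Cfsg.Agent.H46.Spec12

namespace H51
open Cfsg hiding pRank
open H46

universe u

/-- BG Lemma 12.8. -/
class T12_8b : Prop where
  /-- (c) -/
  abelian_tau2_sub_Fitting : ∀ {G : Type u} [Group G] [Finite G], IsMinSimpleOddOrder G →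
    ∀ {M E A S : Subgroup G} {p : ℕ}, IsCoatom M → IsPiHallOf (sigma M)ᶜ E M → p ∈ tau2 M →
    ElemAb p 2 A E → IsSylowOf p S ⊤ → A ≤ S → IsMulCommutative S →
    S ≤ ⁅Nrm S, Nrm S⁆ ∧ ⁅Nrm S, Nrm S⁆ ≤ fittingOf E ∧ fittingOf E ≤ Cent S ∧ Cent S ≤ E
  /-- (a), (b), (d), (e) -/
  abelian_tau2 : ∀ {G : Type u} [Group G] [Finite G], IsMinSimpleOddOrder G →
    ∀ {M E E₁ E₂ E₃ A S : Subgroup G} {p : ℕ}, IsCoatom M → SigmaCompl M E E₁ E₂ E₃ → p ∈ tau2 M →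
    ElemAb p 2 A E → IsSylowOf p S ⊤ → A ≤ S → IsMulCommutative S →
    (E₂ ⊴ E ∧ IsMulCommutative E₂) ∧ IsPiHallOf (tau2 M) E₂ ⊤ ∧
      (Nrm A = Nrm S ∧ Nrm S = Nrm E₂ ∧ Nrm E₂ = Nrm (E₃ ⊔ E₂) ∧ Nrm (E₃ ⊔ E₂) = Nrm (fittingOf E)) ∧
      ∀ X : Subgroup G, X ≤ E₁ → (Nat.card X).Prime → sigmaCore M ⊓ Cent X = ⊥ → X ≤ Zc E
  /-- (f) -/
  abelian_tau2_norm_Sylow : ∀ {G : Type u} [Group G] [Finite G], IsMinSimpleOddOrder G →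
    ∀ {M E A S : Subgroup G} {p : ℕ}, IsCoatom M → IsPiHallOf (sigma M)ᶜ E M → p ∈ tau2 M →
    ElemAb p 2 A E → IsSylowOf p S ⊤ → A ≤ S → IsMulCommutative S →
    ∀ X : Subgroup G, X ≤ Nrm S → (S ⊓ Cent X) ⊴ Nrm S ∧ ⁅S, X⁆ ⊴ Nrm S

/-- BG Lemma 12.11 (`primes_norm_tau2Elem`). -/
class T12_11b : Prop where
  out : ∀ {G : Type u} [Group G] [Finite G], IsMinSimpleOddOrder G →
    ∀ {M E A Mstar : Subgroup G} {p : ℕ}, IsCoatom M → IsPiHallOf (sigma M)ᶜ E M → p ∈ tau2 M →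
    ElemAb p 2 A E → IsCoatom Mstar → Nrm A ≤ Mstar →
    (∀ q ∈ tau2 M, q ∈ sigma Mstar ∧ q ∉ beta Mstar) ∧
      PNat (tau1 Mstar ∪ tau2 Mstar) ((E ⊓ Cent A).relIndex E) ∧
      ∀ q : ℕ, q.Prime → q ∣ (E ⊓ Cent A).relIndex E → q ∣ Nat.card ↥(E ⊓ Cent A) →
        q ∈ tau2 Mstar ∧ (∃ P : Subgroup G, IsSylowOf p P ⊤ ∧ P ⊴ Mstar) ∧
          ∃ Q : Subgroup G, IsSylowOf q Q ⊤ ∧ Q ≤ Mstar ∧ IsMulCommutative Q

end H51
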