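import Cfsg.Agent.H14.CompFinal
import Cfsg.Agent.H14.PTerm3
import Cfsg.Agent.H14.TwoBal
import Cfsg.Agent.H14.Std
import Cfsg.Agent.H14.LocBal
import Cfsg.Agent.S0205

/-! The top of the component theorem (S1308): a terminal pair exists under the `B`-property,
and the reduction to a standard subgroup whose centraliser has `2`-rank at least `2`. -/

set_option autoImplicit false
open Cfsg Subgroup H14

namespace H51.CT

universe u

variable {G : Type u} [Group G] [Finite G]

/-- The first alternative. -/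
def Alt1 (G : Type u) [Group G] : Prop :=
  ∃ z : G, orderOf z = 2 ∧ ∃ K : Subgroup G, K ≤ centralizer ({z} : Set G) ∧
    IsComponent (K.subgroupOf (centralizer ({z} : Set G))) ∧ PRankLE 2 1 K

/-- The wanted involution in the centraliser of the standard subgroup. -/
def Concl (K : Subgroup G) : Prop :=
  ∃ z ∈ centralizer (K : Set G), orderOf z = 2 ∧
    Group.IsSolvable ↥(centralizer ({z} : Set G) ⊓ centralizer (K : Set G)) ∧
    ∀ S : Sylow 2 ↥(centralizer ({z} : Set G) ⊓ centralizer (K : Set G)),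
      IsElementaryAbelian 2 (S : Subgroup ↥(centralizer ({z} : Set G) ⊓ centralizer (K : Set G))) ∨
      ∃ n : ℕ, Nonempty (↥(S : Subgroup ↥(centralizer ({z} : Set G) ⊓ centralizer (K : Set G))) ≃*
        DihedralGroup n)

/-- The core of the component theorem. -/
def Core : Prop := ∀ (G : Type u) [Group G] [Finite G] [IsSimpleGroup G], ¬ IsMulCommutative G →
  HasBProperty G → ∀ K : Subgroup G, IsStandardSubgroup K → ¬ PRankLE 2 1 K →
  ¬ PRankLE 2 1 (centralizer (K : Set G)) → Alt1 G ∨ Concl K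

theorem eq_bot_of_odd_perfect {J : Subgroup G} (h : ⁅J, J⁆ = J) (ho : (Nat.card J).Coprime 2) :
    J = ⊥ := by
  by_contra e
  have := Cfsg.Agent.S0205.result (G := J) (Nat.coprime_two_right.1 ho)
  exact (H2.commutator_lt_of_isSolvable e).ne h

theorem sch_two (H : Subgroup G) : Sch 2 H := fun K _ J T hJ hT hf => by
  have := odd_card_commutator_aut (H2.pPrimeCore_quotient_pPrimeCore 2 K) hT hf
  rw [hJ] at this
  rw [eq_bot_of_odd_perfect hJ this]
  exact bot_le

theorem two_dvd_quasi {K : Subgroup G} (hK : IsQuasisimple K) : 2 ∣ Nat.card K := by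
  by_contra h
  have hp := quasi_sub_commutator_ne_bot hK
  have e : ⁅K, K⁆ = K := by
    have := layerOf_perfect K
    rwa [layerOf_quasi hK] at this
  rw [e] at hp
  exact hp (eq_bot_of_odd_perfect e ((Nat.Prime.coprime_iff_not_dvd Nat.prime_two).2 h).symm)

theorem bprop (hO : oddCore G = ⊥) (hB : HasBProperty G) {y : G} (ho : orderOf y = 2)
    {J : Subgroup G} (hJ : PC 2 J (centralizer ({y} : Set G))) :
    ⁅J, opp 2 (centralizer ({y} : Set G))⁆ = ⊥ := by
  have := hB y ho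
  rw [hO, le_bot_iff, map_commutator] at this
  exact commutator_eq_bot_mono this hJ.le_pLayerOf le_rfl

theorem terminal_of (hO : oddCore G = ⊥) (hB : HasBProperty G) {x : G} {K : Subgroup G}
    (hT : IsPTerminal 2 x K) : IsTerminalPair 2 x K := by
  obtain ⟨hx, hK', h1, h2⟩ := isPTerminal_iff.mp hT
  have hq : IsQuasisimple K := hK'.quasi_iff.mpr (bprop hO hB hx hK')
  have hcp : CP K (centralizer ({x} : Set G)) := ⟨hK'.subN, hq⟩
  have hD := hcp.cpc_eq hK'.dvd_card
  have h3 : ∀ y ∈ cpc 2 x K, orderOf y = 2 → ∃ J, PC 2 J (centralizer ({y} : Set G)) ∧ K ≤ J ∧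
      J ≤ K ⊔ opp 2 J := by
    intro y hy ho
    obtain ⟨J, hJ, hle, ⟨e⟩⟩ := h1 y hy ho
    rw [inf_eq_left.mpr (le_centralizer_singleton_iff.mpr (hD.le hy).2),
      hK'.pquasi.pLayerOf_eq] at hle
    exact ⟨J, hJ, hle, le_sup_opp_of_qc_le hle (Nat.card_congr e.toEquiv).le⟩
  obtain ⟨Q, hQ, hxQ⟩ := H98.exists_isSyl_le (isPGroup_zpowers_of_orderOf hx)
    (zpowers_le.mpr (self_mem_cpc (p := 2) hK'.le))
  have hQK : Q ≤ centralizer (K : Set G) := hQ.le.trans (hD.le.trans inf_le_right)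
  have hQ' : H98.IsSyl 2 Q (centralizer (K : Set G)) := by
    apply H98.isSyl_of_isSyl_normalizer
    obtain ⟨R, hR, hQR⟩ := H98.exists_isSyl_le hQ.isPGroup (le_inf hQK le_normalizer)
    obtain ⟨y, hy, ho, hy1, hy2⟩ := exists_central_orderOf_eq hQ.isPGroup hR.isPGroup
      (hR.le.trans inf_le_right) (fun e => by
        rw [e, le_bot_iff, zpowers_eq_bot] at hxQ
        exact ne_one_of_orderOf hx hxQ)
    obtain ⟨J, hJ, h4, h5⟩ := h3 y (hQ.le hy) ho
    have h6 := h2 Q hQ y hy hy1 ho J hJ ((pLayerOf_le_self _).trans (inf_le_left.trans h4))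
    have h7 : R ≤ centralizer ({y} : Set G) := le_centralizer_singleton_iff.mpr hy2
    have h8 : R ≤ cpc 2 y J := (le_cpc hJ.le).mpr ⟨h7, hJ.commutator_le_of_le_sup h7
      (h5.trans (sup_le_sup_left hJ.opp_le _)) (h4.trans hJ.le) (by
        rw [commutator_eq_bot_symm (commutator_eq_bot_iff_le_centralizer.mpr
          (hR.le.trans inf_le_left))]
        exact bot_le)⟩
    rwa [h6.eq_of_le hR.isPGroup hQR h8] at hR
  refine ⟨hx, cp_iff.mp hcp, hK'.dvd_card, fun y hy ho => ?_⟩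
  obtain ⟨g, hg, h4⟩ := hQ'.exists_cj_le (isPGroup_zpowers_of_orderOf ho) (zpowers_le.mpr hy)
  have h5 : g * y * g⁻¹ ∈ Q := h4 (H98.conj_mem_cj (mem_zpowers y))
  have ho' : orderOf (g * y * g⁻¹) = 2 := by rw [orderOf_conj', ho]
  obtain ⟨J, hJ, h6, h7⟩ := h3 _ (hQ.le h5) ho'
  have h8 : J ≤ K := by
    rw [← hJ.pec_eq]
    have h9 : opp 2 J ≤ normalizer (K : Set G) := le_normalizer_of_commutator_eq_bot
      (commutator_eq_bot_symm (commutator_eq_bot_mono (bprop hO hB ho' hJ) h6 hJ.opp_le))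
    exact pec_le_of_le_sup_coprime (coprime_card_opp J) (Or.inr h9)
      (h7.trans (sup_le le_normalizer h9)) h7
  rw [← le_antisymm h6 h8] at hJ
  have h9 := CP.cj ⟨hJ.subN, hq⟩ g⁻¹
  rw [cj_centralizer_singleton, H98.cj_eq_self (centralizer_le_normalizer _ (inv_mem hg))] at h9
  have e : g⁻¹ * (g * y * g⁻¹) * g⁻¹⁻¹ = y := by group
  rw [e] at h9
  exact cp_iff.mp h9

theorem exists_terminal (hO : oddCore G = ⊥) (hB : HasBProperty G) {t : G} (ht : orderOf t = 2)
    (hE : layer ↥(centralizer ({t} : Set G)) ≠ ⊥) : ∃ (x : G) (K : Subgroup G),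
      IsTerminalPair 2 x K := by
  obtain ⟨K, hK⟩ : ∃ K, CP K (centralizer ({t} : Set G)) := by
    by_contra h
    push Not at h
    exact hE (layerOf_eq_bot_iff.1 (le_bot_iff.1 (layerOf_le fun K hK => absurd hK (h K))))
  obtain ⟨x, L, h⟩ := exists_isPTerminal (p := 2) (fun y _ => sch_two _)
    ⟨t, K, ht, hK.pc (two_dvd_quasi hK.quasi)⟩
  exact ⟨x, L, terminal_of hO hB h⟩

theorem oddCore_bot [IsSimpleGroup G] {t : G} (ht : orderOf t = 2) : oddCore G = ⊥ := by
  refine (IsSimpleGroup.eq_bot_or_eq_top_of_normal (pPrimeCore 2 G) inferInstance).resolve_right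
    fun e => ?_
  have h := coprime_card_opp (p := 2) (⊤ : Subgroup G)
  rw [opp_top, e, card_top] at h
  exact (Nat.Prime.coprime_iff_not_dvd Nat.prime_two).1 h.symm (ht ▸ orderOf_dvd_natCard t)

theorem top (core : Core.{u}) {G : Type u} [Group G] [Finite G] [IsSimpleGroup G]
    (hna : ¬ IsMulCommutative G) (hB : HasBProperty G) (t : G) (ht : orderOf t = 2)
    (hE : layer ↥(centralizer ({t} : Set G)) ≠ ⊥) :
    Alt1 G ∨
    (∃ z : G, orderOf z = 2 ∧ ∃ K : Subgroup G, K ≤ centralizer ({z} : Set G) ∧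
      IsComponent (K.subgroupOf (centralizer ({z} : Set G))) ∧ IsStandardSubgroup K ∧
      (PRankLE 2 1 ↥(centralizer ({z} : Set G) ⊓ centralizer (K : Set G)) ∨
        (Group.IsSolvable ↥(centralizer ({z} : Set G) ⊓ centralizer (K : Set G)) ∧
        ∀ S : Sylow 2 ↥(centralizer ({z} : Set G) ⊓ centralizer (K : Set G)),
          IsElementaryAbelian 2
            (S : Subgroup ↥(centralizer ({z} : Set G) ⊓ centralizer (K : Set G))) ∨
          ∃ n : ℕ, Nonempty (↥(S : Subgroup ↥(centralizer ({z} : Set G) ⊓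
            centralizer (K : Set G))) ≃* DihedralGroup n))) ∧
      (PRankLE 2 1 K ∨ (K.subgroupOf (centralizer ({z} : Set G))).Normal)) := by
  obtain ⟨x, K, hT⟩ := exists_terminal (oddCore_bot ht) hB ht hE
  by_cases h1 : PRankLE 2 1 K
  · exact .inl ⟨x, hT.1, K, hT.2.1.1, hT.2.1.2, h1⟩
  have hS : IsStandardSubgroup K := H14.CO.st1796 x K hT (by
    unfold PRankLE at h1
    push Not at h1
    obtain ⟨A, a1, a2, a3⟩ := h1
    refine ⟨A, a1, a2, ?_⟩
    obtain ⟨n, hn⟩ := (IsPGroup.iff_card (p := 2) (G := A)).1 fun a =>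
      ⟨1, Subtype.ext (by simpa using a2 a a.2)⟩
    rw [hn] at a3 ⊢
    exact Nat.pow_le_pow_right (by decide) ((Nat.pow_lt_pow_iff_right (by decide)).1 a3))
  have nm : ∀ z ∈ centralizer (K : Set G), orderOf z = 2 →
      (K.subgroupOf (centralizer ({z} : Set G))).Normal := fun z hz ho =>
    (normal_subgroupOf_iff_le_normalizer (le_centralizer_singleton_iff.mpr hz)).2
      (std_centralizer_le hS ho hz)
  have hx : x ∈ centralizer (K : Set G) := le_centralizer_singleton_iff.mp hT.2.1.1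
  by_cases h2 : PRankLE 2 1 (centralizer (K : Set G))
  · exact .inr ⟨x, hT.1, K, hT.2.1.1, hT.2.1.2, hS, .inl (prankLE_mono h2 inf_le_right),
      .inr (nm x hx hT.1)⟩
  refine (core G hna hB K hS h1 h2).imp_right fun ⟨z, hz, ho, h3⟩ => ?_
  exact ⟨z, ho, K, (hT.2.2.2 z hz ho).1, (hT.2.2.2 z hz ho).2, hS, .inr h3, .inr (nm z hz ho)⟩

end H51.CT
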