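import Cfsg.Agent.H14.NF0
import Cfsg.Agent.H14.FEKit

/-! Tower TE, part 2 (S1308): from the point geometry to case B. Proofs: job texts. -/

set_option autoImplicit false

namespace H51.TE

open Cfsg Subgroup MulAction H14 H98 H1.Gold H31.S2 H14.GC H14.FE H14.NF
open scoped commutatorElement

universe u

section Defs

variable {G : Type u} [Group G]

/-- Extra facts on the geometry, delivered by part 1. -/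
structure TX (Q E : Subgroup G) : Prop where
  bb : ∃ B : Subgroup G, B ≤ Q ∧ nor Q ≤ nor B ∧ IsSyl 2 E B
  zc : ∀ U ≤ Q, IsPGroup 2 U → E ≤ U → U ≤ cen E
  pp : ∀ Q₂ E₂, Pt Q E Q₂ E₂ → Q ≠ Q₂ → E₂ ≤ cen E → ¬ Col Q E Q E Q₂ E₂ →
    ∀ x ∈ Q, ∀ t ∈ E₂, ∀ P : Subgroup G, IsPGroup 2 P → x ∈ P → t ∈ P → x * t = t * x

/-- A line on which the 2-elements of the home act transitively. -/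
def Fw (Q₁ E₁ E₂ : Subgroup G) : Prop := ∀ t ∈ E₂, t ≠ 1 → ∀ r ∈ E₁, ∃ y ∈ Q₁ ⊓ cen E₁,
  (∃ n : ℕ, y ^ 2 ^ n = 1) ∧ (∀ s ∈ E₂, ⁅s, y⁆ ∈ E₁) ∧ ⁅t, y⁆ = r

/-- There is a full line. -/
def FL (Q E : Subgroup G) : Prop := ∃ Q₂ E₂, Col Q E Q E Q₂ E₂ ∧ Fw Q E E₂

/-- point involution -/
def Dv (E : Subgroup G) (d : G) : Prop := d ≠ 1 ∧ ∃ g : G, d ∈ cj g E

/-- The working form of the geometry. -/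
structure Gx (Q E : Subgroup G) : Prop where
  tg : TG Q E
  ne : ∀ Q₁ E₁, Pt Q E Q₁ E₁ → ∀ R, IsSyl 2 R Q₁ → ¬ El R
  zc : ∀ Q₁ E₁, Pt Q E Q₁ E₁ → ∀ U ≤ Q₁, IsPGroup 2 U → E₁ ≤ U → U ≤ cen E₁
  pp : ∀ Q₁ E₁ Q₂ E₂, Pt Q E Q₁ E₁ → Pt Q E Q₂ E₂ → Q₁ ≠ Q₂ → E₂ ≤ cen E₁ → ¬ Col Q E Q₁ E₁ Q₂ E₂ →
    ∀ x ∈ Q₁, ∀ t ∈ E₂, ∀ P : Subgroup G, IsPGroup 2 P → x ∈ P → t ∈ P → x * t = t * x
  f1 : ∀ Q₁ E₁ Q₂ E₂, Pt Q E Q₁ E₁ → Pt Q E Q₂ E₂ → ∀ d ∈ E₁, ∀ e ∈ E₂, e ∈ nor Q₁ →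
    ∀ P : Subgroup G, IsPGroup 2 P → d ∈ P → e ∈ P → d * e = e * d
  cu : ∀ Q₁ E₁ E₁', Pt Q E Q₁ E₁ → Pt Q E Q₁ E₁' → ∀ P : Subgroup G, IsPGroup 2 P → E₁ ≤ P →
    ∀ d ∈ E₁', d ∈ P → d ∈ E₁

/-- Point involutions in a 2-group commute. -/
def P1 (E : Subgroup G) : Prop := ∀ d e : G, Dv E d → Dv E e → ∀ P : Subgroup G, IsPGroup 2 P →
  d ∈ P → e ∈ P → d * e = e * d

/-- Two points that generate a group of class two with a nondegenerate commutator map. -/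
structure C2 (Q E Q₁ E₁ Q₂ E₂ : Subgroup G) : Prop where
  p1 : Pt Q E Q₁ E₁
  p2 : Pt Q E Q₂ E₂
  o1 : ∀ r ∈ E₁, r ≠ 1 → r ∉ nor Q₂
  o2 : ∀ a ∈ E₂, a ≠ 1 → a ∉ nor Q₁
  two : IsPGroup 2 (E₁ ⊔ E₂ : Subgroup G)
  cm : ∀ r ∈ E₁, ∀ a ∈ E₂, ⁅r, a⁆ ∈ cen E₁ ⊓ cen E₂

/-- `x` acts on `F` with fixed points `E₁` and trivially on `F / E₁`. -/
structure Tv (F E₁ : Subgroup G) (x : G) : Prop where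
  fix : ∀ f ∈ F, x * f = f * x ↔ f ∈ E₁
  cm : ∀ f ∈ F, ⁅f, x⁆ ∈ E₁

/-- conjugate of an involution of `T` under `X` -/
def DT (X T : Subgroup G) (x : G) : Prop := ∃ k ∈ X, ∃ t ∈ T, t ≠ 1 ∧ x = k * t * k⁻¹

/-- The setting of part (d): `X = K ⊔ T`. -/
structure Sd (K E Q₁ T : Subgroup G) : Prop where
  gx : Gx (cen K) E
  col : Col (cen K) E (cen K) E Q₁ T
  nk : T ≤ nor K
  ni : NI (Q₁ ⊓ K)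
  p1 : P1 E

end Defs

/-- A statement about all finite groups. -/
def AG (F : ∀ (G : Type u) [Group G], Prop) : Prop := ∀ (G : Type u) [Group G] [Finite G], F G

/-- A statement about all geometries. -/
def AX (F : ∀ (G : Type u) [Group G] (_ _ : Subgroup G), Prop) : Prop :=
  ∀ (G : Type u) [Group G] [Finite G] (Q E : Subgroup G), Gx Q E → F G Q E

/-- Part 1. -/
def Part1 : Prop := AllG.{u} fun G _ K => IsSimpleGroup G → TE K → ∃ E, TG (cen K) E ∧ OutK K E ∧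
  (∃ Q₁ T, Col (cen K) E (cen K) E Q₁ T) ∧ TX (cen K) E ∧ (FL (cen K) E → FU (cen K) E)

def KIT : Prop := AG.{u} fun G _ => ∀ Q E : Subgroup G, TG Q E → TX Q E →
  (∀ R, IsSyl 2 R Q → ¬ El R) → Gx Q E

def ODD : Prop := AG.{u} fun G _ => ∀ (F E₁ E₂ : Subgroup G) (x u : G), El F → E₁ ≤ F → E₂ ≤ F →
  E₁ ≠ ⊥ → E₁ ⊓ E₂ = ⊥ → Tv F E₁ x → Tv F E₂ u →
  (∀ g ∈ nor F, cj g E₁ ⊓ E₁ ≠ ⊥ → cj g E₁ = E₁) → (∀ g ∈ nor F, cj g E₂ ⊓ E₁ ≠ ⊥ → cj g E₂ = E₁) →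
  (∃ m : ℕ, Odd m ∧ (x * u) ^ m ∈ cen F) ∧
    ∃ g ∈ closure ({x, u} : Set G), (g * u * g⁻¹)⁻¹ * x ∈ cen F ∧ cj g E₂ = E₁

def DIH : Prop := AG.{u} fun G _ => ∀ (F : Subgroup G) (x u : G) (m : ℕ), El F → x ∈ nor F →
  u ∈ nor F → x * x ∈ cen F → u * u ∈ cen F → Odd m → (u * (x * u * x⁻¹)) ^ m ∈ cen F →
  (∃ e ∈ F, e ≠ 1 ∧ u * e = e * u) →
  ∃ g ∈ closure ({x, u} : Set G), ∃ e ∈ F, e ≠ 1 ∧ u * e = e * u ∧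
    x * (g * e * g⁻¹) = g * e * g⁻¹ * x

def RED : Prop := AG.{u} fun G _ => ∀ (d e : G) (P : Subgroup G), d * d = 1 → e * e = 1 →
  IsPGroup 2 P → d ∈ P → e ∈ P → d * e ≠ e * d → ∃ x : G, (x = d ∨ ∃ g : G, x = g * e * g⁻¹) ∧ x ∈ P ∧
    ⁅x, e⁆ ≠ 1 ∧ ⁅x, e⁆ * x = x * ⁅x, e⁆ ∧ ⁅x, e⁆ * e = e * ⁅x, e⁆

def C1 : Prop := AX.{u} fun G _ Q E => ∀ d e : G, Dv E d → Dv E e → ∀ P : Subgroup G, IsPGroup 2 P →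
  d ∈ P → e ∈ P → ⁅d, e⁆ ≠ 1 → ⁅d, e⁆ * d = d * ⁅d, e⁆ → ⁅d, e⁆ * e = e * ⁅d, e⁆ →
  ∃ Q₁ E₁ Q₂ E₂, C2 Q E Q₁ E₁ Q₂ E₂

/-- Two distinct perpendicular elements give a Sylow subgroup normalising four homes. -/
def CPa : Prop := AX.{u} fun _ _ Q E => ∀ Q₁ E₁ Q₂ E₂, C2 Q E Q₁ E₁ Q₂ E₂ → ∀ r ∈ E₁, ∀ s ∈ E₁,
  r ≠ 1 → s ≠ 1 → r ≠ s → ¬ Col Q E Q₂ E₂ (cj r Q₂) (cj r E₂) → ¬ Col Q E Q₂ E₂ (cj s Q₂) (cj s E₂) →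
  ∃ R, IsSyl 2 R Q₂ ∧ R ≤ nor (cj r Q₂) ⊓ nor (cj s Q₂) ⊓ nor (cj (r * s) Q₂)

def CPb : Prop := AX.{u} fun _ _ Q E => ∀ Q₁ E₁ Q₂ E₂, C2 Q E Q₁ E₁ Q₂ E₂ → ∀ r ∈ E₁, ∀ s ∈ E₁,
  r ≠ 1 → s ≠ 1 → r ≠ s → ∀ R, IsSyl 2 R Q₂ →
  ¬ R ≤ nor (cj r Q₂) ⊓ nor (cj s Q₂) ⊓ nor (cj (r * s) Q₂)

def C3 : Prop := AX.{u} fun G _ Q E => ∀ Q₁ E₁ Q₂ E₂, C2 Q E Q₁ E₁ Q₂ E₂ → ∀ a ∈ E₂, a ≠ 1 →
  Col Q E Q₁ E₁ (cj a Q₁) (cj a E₁) →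
  ∃ Q₀ V : Subgroup G, Col Q E Q₁ E₁ Q₀ V ∧ ∀ v : G, v ∈ V ↔ ∃ r ∈ E₁, v = ⁅r, a⁆

def C4a : Prop := AX.{u} fun G _ Q E => ∀ Q₁ E₁ Q₂ E₂, C2 Q E Q₁ E₁ Q₂ E₂ →
  ∃ Q₀ V : Subgroup G, Col Q E Q₀ V Q₁ E₁ ∧ Col Q E Q₀ V Q₂ E₂ ∧ Cm3 E₁ E₂ V

def C4b : Prop := AX.{u} fun _ _ Q E => ∀ Q₁ E₁ Q₂ E₂, C2 Q E Q₁ E₁ Q₂ E₂ → ∀ Q₀ V,
  Col Q E Q₀ V Q₁ E₁ → Col Q E Q₀ V Q₂ E₂ → Cm3 E₁ E₂ V → Fw Q₀ V E₁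

def KP : Prop := AX.{u} fun G _ Q E => ∀ Q₁ T, Col Q E Q E Q₁ T → ∀ x : G, x * x = 1 → x ∈ cen E →
  (∀ t ∈ T, ⁅t, x⁆ ∈ cen Q) → cj x Q₁ ≠ Q₁ → cj x T ≤ cen T →
  ∃ t ∈ T, t ≠ 1 ∧ ∃ r ∈ E, Dv E (⁅t, x⁆ * r)

def KX1 : Prop := AG.{u} fun G _ => ∀ K E Q₁ T : Subgroup G, Sd K E Q₁ T → ∀ x t₁ : G, x * x = 1 →
  DT (K ⊔ T) T t₁ → ∀ P ≤ K ⊔ T, IsPGroup 2 P → x ∈ P → t₁ ∈ P → x * t₁ ≠ t₁ * x →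
  ∃ t, DT (K ⊔ T) T t ∧ ⁅t, x⁆ ≠ 1 ∧ ⁅t, x⁆ * ⁅t, x⁆ = 1 ∧ ∃ r ∈ E, Dv E (⁅t, x⁆ * r)

def KX2 : Prop := AG.{u} fun G _ => ∀ K E Q₁ T : Subgroup G, Sd K E Q₁ T → ∀ W : Set G,
  (∀ w ∈ W, DT (K ⊔ T) T w) → IsPGroup 2 (closure W) → ∀ x ∈ closure W, ∀ t, DT (K ⊔ T) T t →
  ⁅t, x⁆ * ⁅t, x⁆ = 1 → ∀ r ∈ E, Dv E (⁅t, x⁆ * r) → ⁅t, x⁆ = 1

/-- An abelian strongly closed subgroup of `X` containing `T`. -/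
def ScX {G : Type u} [Group G] (X T : Subgroup G) : Prop := ∃ S W : Subgroup G, IsSyl 2 S X ∧ T ≤ W ∧
  W ≤ S ∧ Ab W ∧ ∀ a ∈ X, ∀ w ∈ W, a * w * a⁻¹ ∈ S → a * w * a⁻¹ ∈ W

def SC : Prop := AG.{u} fun G _ => ∀ K E Q₁ T : Subgroup G, Sd K E Q₁ T → ScX (K ⊔ T) T

def FIN : Prop := AG.{u} fun G _ => ∀ K T : Subgroup G, IsQuasisimple K → T ≤ nor K → Ab T →
  ScX (K ⊔ T) T → T ≤ K ⊔ cen K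

def JobC3 : Prop := ODD.{u} → DIH.{u} → C3.{u}
def JobC4a : Prop := CPa.{u} → CPb.{u} → C3.{u} → C4a.{u}
def JobC4b : Prop := ODD.{u} → C4b.{u}
def JobKP : Prop := ODD.{u} → DIH.{u} → KP.{u}
def JobKX1 : Prop := KP.{u} → KX1.{u}
def JobSC : Prop := KX1.{u} → KX2.{u} → SC.{u}

/-! ### Kit -/

section Kit

variable {G : Type u} [Group G] {Q E Q₁ E₁ Q₂ E₂ : Subgroup G}

theorem pt_cj (h : Pt Q E Q₁ E₁) (g : G) : Pt Q E (cj g Q₁) (cj g E₁) := by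
  obtain ⟨k, rfl, rfl⟩ := h
  exact ⟨g * k, cj_cj _ _ _, cj_cj _ _ _⟩

theorem pt_base (Q E : Subgroup G) : Pt Q E Q E := ⟨1, (cj_one _).symm, (cj_one _).symm⟩

theorem pt_le (t : TG Q E) (h : Pt Q E Q₁ E₁) : E₁ ≤ Q₁ := by
  obtain ⟨k, rfl, rfl⟩ := h
  exact cj_mono _ t.le

theorem pt_el (t : TG Q E) (h : Pt Q E Q₁ E₁) : El E₁ := by
  obtain ⟨k, rfl, rfl⟩ := h
  intro a ha
  have := t.el _ (mem_cj.1 ha)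
  calc a * a = k * (k⁻¹ * a * k * (k⁻¹ * a * k)) * k⁻¹ := by group
    _ = 1 := by rw [this]; group

theorem pt_four (t : TG Q E) (h : Pt Q E Q₁ E₁) : Four E₁ := by
  obtain ⟨k, rfl, rfl⟩ := h
  exact t.four.cj k

theorem pt_card (h : Pt Q E Q₁ E₁) : Nat.card E₁ = Nat.card E := by
  obtain ⟨k, rfl, rfl⟩ := h
  exact card_cj _ _

theorem pt_cen (t : TG Q E) (h : Pt Q E Q₁ E₁) {d : G} (hd : d ∈ Q₁) (h2 : Inv d) :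
    cen1 d ≤ nor Q₁ := by
  obtain ⟨k, rfl, rfl⟩ := h
  exact t.cen_le k d hd h2

theorem pt_ti (t : TG Q E) (h : Pt Q E Q₁ E₁) (h' : Pt Q E Q₂ E₂) (e : Q₁ ≠ Q₂) : NI (Q₁ ⊓ Q₂) := by
  obtain ⟨k, rfl, rfl⟩ := h
  obtain ⟨l, rfl, rfl⟩ := h'
  exact t.ti k l e

theorem dv_of (h : Pt Q E Q₁ E₁) {d : G} (hd : d ∈ E₁) (h1 : d ≠ 1) : Dv E d := by
  obtain ⟨k, rfl, rfl⟩ := h
  exact ⟨h1, k, hd⟩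

theorem Dv.pt {d : G} (h : Dv E d) (Q : Subgroup G) : ∃ Q₁ E₁, Pt Q E Q₁ E₁ ∧ d ∈ E₁ :=
  let ⟨_, g, hg⟩ := h
  ⟨_, _, ⟨g, rfl, rfl⟩, hg⟩

theorem Dv.conj {d : G} (h : Dv E d) (g : G) : Dv E (g * d * g⁻¹) := by
  obtain ⟨h1, k, hk⟩ := h
  refine ⟨fun e => h1 (by rwa [conj_eq_one_iff] at e), g * k, ?_⟩
  rw [← cj_cj]
  exact conj_mem_cj hk

theorem El.two {Y : Subgroup G} (h : El Y) : IsPGroup 2 Y := fun x =>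
  ⟨1, Subtype.ext (by simpa [pow_two] using h x x.2)⟩

theorem El.comm {Y : Subgroup G} (h : El Y) {a b : G} (ha : a ∈ Y) (hb : b ∈ Y) : a * b = b * a := by
  rw [eq_inv_of_mul_eq_one_left (h _ (Y.mul_mem ha hb)), mul_inv_rev,
    inv_eq_of_mul_eq_one_right (h _ ha), inv_eq_of_mul_eq_one_right (h _ hb)]

theorem cen_cj (g : G) (Y : Subgroup G) : cen (cj g Y) = cj g (cen Y) := (cj_centralizer g Y).symm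

theorem col_cj (h : Col Q E Q₁ E₁ Q₂ E₂) (g : G) :
    Col Q E (cj g Q₁) (cj g E₁) (cj g Q₂) (cj g E₂) := by
  obtain ⟨y, hy, ⟨n, hn⟩, h1, h2⟩ := h.mv
  refine ⟨pt_cj h.p1 g, pt_cj h.p2 g, fun e => h.ne (cj_inj.1 e), ?_, g * y * g⁻¹, ?_, ⟨n, ?_⟩, ?_, ?_⟩
  · rw [cen_cj]; exact cj_mono _ h.comm
  · rw [cen_cj, ← cj_inf]; exact conj_mem_cj hy
  · rw [conj_pow, hn, mul_one, mul_inv_cancel]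
  · intro t ht
    have := h1 _ (mem_cj.1 ht)
    rw [mem_cj]
    convert this using 1
    simp only [commutatorElement_def]; group
  · rw [cen_cj, conj_mem_cj_iff]; exact h2

theorem C2.symm (h : C2 Q E Q₁ E₁ Q₂ E₂) : C2 Q E Q₂ E₂ Q₁ E₁ :=
  ⟨h.p2, h.p1, h.o2, h.o1, sup_comm E₁ E₂ ▸ h.two, fun r hr a ha => by
    rw [← commutatorElement_inv, inf_comm]
    exact inv_mem (h.cm a ha r hr)⟩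

end Kit

end H51.TE
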