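/- The centralizer of an involution in `PGU₃(q)`, `q` even. -/
import Cfsg.Agent.H59.AutMat
import Cfsg.Agent.H59.Heis
import Cfsg.Agent.H55.Transport
import Cfsg.Agent.H85.U3Syl
import Cfsg.Agent.H99.BenderB
import Cfsg.Agent.H14.Std
import Cfsg.Agent.H46.Misc

set_option autoImplicit false
set_option linter.unusedSectionVars false

namespace H51

open Cfsg hiding pRank
open H59 Subgroup Module

/-- The properties of the centralizer of an involution in `PGU₃(q)`, `q` even, that are used. -/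
structure UC (C : Type*) [Group C] (q : ℕ) : Prop where
  cen : ∀ z : C, z * z = 1 → ∀ g, z * g = g * z
  cinv : Nat.card {z : C // z * z = 1} = q
  card : Nat.card C = q ^ 3 * (q + 1)
  mul : ∀ x y : C, IsPElt 2 x → IsPElt 2 y → IsPElt 2 (x * y)
  self : ∀ g : C, (∀ x, IsPElt 2 x → g * x = x * g) → IsPElt 2 g

theorem isPElt_equiv {C D : Type*} [Group C] [Group D] (e : C ≃* D) {x : C} :
    IsPElt 2 (e x) ↔ IsPElt 2 x :=
  exists_congr fun k => by rw [← map_pow, map_eq_one_iff _ e.injective]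

theorem UC.of_equiv {C D : Type*} [Group C] [Group D] {q : ℕ} (h : UC D q) (e : C ≃* D) : UC C q where
  cen z hz g := e.injective (by
    rw [map_mul, map_mul]; exact h.cen _ (by rw [← map_mul, hz, map_one]) _)
  cinv := by
    rw [← h.cinv]
    exact Nat.card_congr (e.toEquiv.subtypeEquiv fun z => by
      show _ ↔ e z * e z = 1
      rw [← map_mul, map_eq_one_iff _ e.injective])
  card := by rw [← h.card]; exact Nat.card_congr e.toEquiv
  mul x y hx hy := by
    rw [← isPElt_equiv e] at hx hy ⊢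
    rw [map_mul]; exact h.mul _ _ hx hy
  self g hg := by
    rw [← isPElt_equiv e]
    refine h.self _ fun x hx => ?_
    obtain ⟨x, rfl⟩ := e.surjective x
    rw [← map_mul, ← map_mul, hg x ((isPElt_equiv e).1 hx)]

section
variable {F : Type*} [Field F] [Fintype F] [CharP F 2] {q : ℕ} (hF : Fintype.card F = q ^ 2)
  {V : Type*} [AddCommGroup V] [Module F V] [FiniteDimensional F V] {B : V →ₛₗ[frob hF] V →ₗ[F] F}
  {e f : V}

/-- The stabilizer of a vector in the isometry group. -/
abbrev vStab (B : V →ₛₗ[frob hF] V →ₗ[F] F) (e : V) : Subgroup (V ≃ₗ[F] V) :=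
  isom B ⊓ fixSub (Submodule.span F {e})

theorem mem_vStab {g : V ≃ₗ[F] V} : g ∈ vStab hF B e ↔ g ∈ isom B ∧ g e = e := by
  refine and_congr_right fun _ => ⟨fun h => h e (Submodule.mem_span_singleton_self e), fun h x hx => ?_⟩
  obtain ⟨c, rfl⟩ := Submodule.mem_span_singleton.1 hx
  rw [map_smul, h]

theorem uc_vStab (H : IsHyp B e f) (hV : finrank F V = 3) : UC (vStab hF B e) q := by
  have hB := H.1
  have he : B e e = 0 := H.2
  have hef : B e f = 1 := H.4
  have h2 : (2 : F) = 0 := CharP.ofNat_eq_zero F 2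
  obtain ⟨w0, hw0, hww⟩ := hB.exists_self_ne_zero_perp (hB.disjoint_span_hyp he
    (hef ▸ one_ne_zero)) (by rw [hB.finrank_span_hyp he (hef ▸ one_ne_zero), hV]; norm_num)
  obtain ⟨w, rfl⟩ : ∃ w : hypPerp B e f, (w : V) = w0 := ⟨⟨w0, hw0⟩, rfl⟩
  have hw_ne : w ≠ 0 := by
    rintro rfl
    exact hww (by simp)
  have hspan : ∀ u : hypPerp B e f, ∃ p : F, u = p • w := by
    intro u
    have h1 := hB.finrank_hypPerp he hef
    rw [hV] at h1
    obtain ⟨p, hp⟩ := (finrank_eq_one_iff_of_nonzero' w hw_ne).1 (Nat.add_right_cancel (m := 2) h1) u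
    exact ⟨p, hp.symm⟩
  have hperp : ∀ x, B e x = 0 → ∃ a s : F, x = a • e + s • (w : V) := by
    intro x hx
    obtain ⟨p, hp⟩ := hspan (H.proj x)
    refine ⟨B f x, p, ?_⟩
    have := H.decomp x
    rwa [hx, zero_smul, add_zero, hp, Submodule.coe_smul] at this
  have hfe : ∀ g ∈ vStab hF B e, ∀ x, B e (g x) = B e x := by
    intro g hg x
    obtain ⟨h3, h4⟩ := (mem_vStab hF).1 hg
    rw [← mem_isom.1 h3 e x, h4]
  have hun : ∀ g ∈ vStab hF B e, (∃ c : F, g w = w + c • e) → g ∈ unipRad B e := by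
    rintro g hg ⟨c, hc⟩
    obtain ⟨h3, h4⟩ := (mem_vStab hF).1 hg
    refine ⟨h3, h4, fun x hx => ?_⟩
    obtain ⟨a, s, rfl⟩ := hperp x hx
    exact ⟨s * c, by rw [map_add, map_smul, map_smul, h4, hc]; module⟩
  have hpe : ∀ g ∈ vStab hF B e, IsPElt 2 g → g ∈ unipRad B e := by
    rintro g hg ⟨k, hk⟩
    obtain ⟨h3, h4⟩ := (mem_vStab hF).1 hg
    obtain ⟨a, s, h5⟩ := hperp (g w) (by rw [hfe g hg, IsHyp.ew w])
    have h6 : ∀ n : ℕ, ∃ c : F, (g ^ n) w = s ^ n • (w : V) + c • e := by
      intro n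
      induction n with
      | zero => exact ⟨0, by simp⟩
      | succ n ih =>
        obtain ⟨c, hc⟩ := ih
        exact ⟨c + s ^ n * a, by
          rw [pow_succ', LinearEquiv.mul_apply, hc, map_add, map_smul, map_smul, h4, h5]; module⟩
    obtain ⟨c, hc⟩ := h6 (2 ^ k)
    have h7 := congrArg (B w) hc
    rw [hk, map_add, map_smul, map_smul, H.we w, smul_zero, add_zero, smul_eq_mul] at h7
    have h8 : s ^ 2 ^ k = 1 := mul_right_cancel₀ hww (by rw [one_mul]; exact h7.symm)
    have h9 : s = 1 := by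
      have : (s - 1) ^ 2 ^ k = 0 := by rw [sub_pow_char_pow, h8, one_pow, sub_self]
      exact sub_eq_zero.1 (pow_eq_zero_iff (by positivity) |>.1 this)
    exact hun g hg ⟨a, by rw [h5, h9, one_smul, add_comm]⟩
  have hle : unipRad B e ≤ vStab hF B e := fun g hg => (mem_vStab hF).2 ⟨hg.1, hg.2.1⟩
  have hco : ∀ g : vStab hF B e, IsPElt 2 g ↔ IsPElt 2 (g : V ≃ₗ[F] V) := fun g =>
    exists_congr fun k => by rw [Subtype.ext_iff, coe_pow, coe_one]
  have hax : ∀ g ∈ vStab hF B e, g * g = 1 → g ∈ axisGrp B e := by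
    intro g hg hgg
    have h3 := hpe g hg ⟨1, by rw [pow_one, sq, hgg]⟩
    have h4 := H.ca_mul h3 h3
    rw [hgg, H.ca_eq (u := 0) (a := 0) (by simp), ← two_mul, h2, zero_mul, zero_add] at h4
    obtain ⟨p, hp⟩ := hspan (H.cu g)
    rw [H.mem_axisGrp_iff h3]
    rw [hp, Submodule.coe_smul, form_smul_left, form_smul_right] at h4
    rcases mul_eq_zero.1 h4.symm with h5 | h5
    · rw [hp, (map_eq_zero _).1 h5, zero_smul]
    · rw [hp, (mul_eq_zero.1 h5).resolve_right hww, zero_smul]
  refine ⟨fun z hz g => ?_, ?_, ?_, fun x y hx hy => ?_, fun g hg => ?_⟩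
  · obtain ⟨-, c, hc⟩ := mem_axisGrp'.1 (hax z z.2 (congrArg Subtype.val hz))
    obtain ⟨h3, h4⟩ := (mem_vStab hF).1 g.2
    apply Subtype.ext
    ext x
    rw [coe_mul, coe_mul, LinearEquiv.mul_apply, LinearEquiv.mul_apply, hc, hc, map_add, map_smul, h4,
      hfe _ g.2]
  · refine Eq.trans ?_ (card_fixed hF)
    have ht : ∀ c : {x : F // x ^ q = x}, ∃ g ∈ axisGrp B e, ∀ x, g x = x + (c.1 * B e x) • e := fun c =>
      hB.exists_transv he (by rw [frob_apply, c.2, ← two_mul, h2, zero_mul])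
    choose T hT1 hT2 using ht
    have hT3 : ∀ c, T c * T c = 1 := by
      intro c
      ext x
      show T c (T c x) = x
      rw [hT2, hT2, map_add, map_smul, he, smul_zero, add_zero, add_assoc, ← add_smul, ← two_mul, h2,
        zero_mul, zero_smul, add_zero]
    refine (Nat.card_congr (Equiv.ofBijective (fun c => (⟨⟨T c, hle (axisGrp_le_unipRad he (hT1 c))⟩,
      Subtype.ext (hT3 c)⟩ : {z : vStab hF B e // z * z = 1})) ⟨fun c d h => ?_, fun z => ?_⟩)).symm
    · have h3 : T c f = T d f := by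
        have : T c = T d := congrArg (fun z => z.1.1) h
        rw [this]
      rw [hT2, hT2, hef, mul_one, mul_one, add_right_inj] at h3
      exact Subtype.ext (smul_left_injective F H.e_ne h3)
    · obtain ⟨c, h3, hc⟩ := (hB.mem_axisGrp_isotropic he).1 (hax z.1 z.1.2 (congrArg Subtype.val z.2))
      refine ⟨⟨c, ?_⟩, Subtype.ext (Subtype.ext ?_)⟩
      · rw [frob_apply] at h3
        linear_combination h3 - c * h2
      · ext x
        show T _ x = _
        rw [hT2, hc]
  · rw [hB.card_fixSub hF 1 (by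
      rw [Submodule.span_singleton_le_iff_mem, mem_perp_singleton]; exact he)
      (finrank_span_singleton H.e_ne), hV]
    simp [ordGU]
  · rw [hco] at hx hy ⊢
    exact isPElt_of_mem_unipRad ((unipRad B e).mul_mem (hpe _ x.2 hx) (hpe _ y.2 hy))
  · rw [hco]
    obtain ⟨u, hu, h3⟩ := H.exists_cu w
    have h4 : g.1 * u.1 = u.1 * g.1 :=
      congrArg Subtype.val (hg ⟨u.1, hle hu⟩ ((hco _).2 (isPElt_of_mem_unipRad hu)))
    obtain ⟨h5, h6⟩ := (mem_vStab hF).1 g.2
    have h7 : g.1 (u.1 f) = u.1 (g.1 f) := by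
      rw [← LinearEquiv.mul_apply, h4, LinearEquiv.mul_apply]
    have h8 : B e (g.1 f) = 1 := by rw [hfe _ g.2, hef]
    rw [H.apply_eq hu (g.1 f), H.apply_f hu, h3, h8, map_sub, map_sub, map_smul, h6] at h7
    refine isPElt_of_mem_unipRad (hun _ g.2 ⟨- B w (g.1 f), ?_⟩)
    linear_combination (norm := module) -h7

/-- The centralizer in `PGU` of a transvection is isomorphic to the stabilizer of its axis vector. -/
theorem exists_cent_equiv (H : IsHyp B e f) (hV : finrank F V = 3) :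
    ∃ y : isom B ⧸ center (isom B), orderOf y = 2 ∧
      Nonempty (centralizer ({y} : Set (isom B ⧸ center (isom B))) ≃* vStab hF B e) := by
  have hB := H.1
  have he : B e e = 0 := H.2
  have hef : B e f = 1 := H.4
  have h2 : (2 : F) = 0 := CharP.ofNat_eq_zero F 2
  have h2v : ∀ v : V, v + v = 0 := fun v => by rw [← two_smul F v, h2, zero_smul]
  obtain ⟨T', hT1, hT2⟩ := hB.exists_transv he (c := 1) (by rw [map_one, one_add_one_eq_two, h2])
  simp only [one_mul] at hT2
  let T : isom B := ⟨T', axisGrp_le_isom e hT1⟩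
  have hTT : T * T = 1 := by
    apply Subtype.ext
    ext x
    show T' (T' x) = x
    rw [hT2, hT2, map_add, map_smul, he, smul_zero, add_zero, add_assoc, h2v, add_zero]
  have hc := fun g => hB.mem_center_isom_iff (by rw [hV]; norm_num) g
  have hsc : ∀ g : isom B, g ∈ center (isom B) → g.1 e = e → g = 1 := by
    intro g hg h3
    obtain ⟨a, ha⟩ := (hc g).1 hg
    have : a = 1 := smul_left_injective F H.e_ne (by
      show a • e = (1 : F) • e
      rw [← ha, h3, one_smul])
    apply Subtype.ext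
    ext x
    rw [ha, this, one_smul]; rfl
  let φ : vStab hF B e →* isom B ⧸ center (isom B) :=
    (QuotientGroup.mk' _).comp (inclusion inf_le_left)
  have hφ : Function.Injective φ := by
    rw [injective_iff_map_eq_one]
    intro g hg
    exact inclusion_injective inf_le_left ((hsc _ ((QuotientGroup.eq_one_iff _).1 hg)
      ((mem_vStab hF).1 g.2).2).trans (map_one _).symm)
  refine ⟨T, orderOf_eq_prime (by rw [sq, ← QuotientGroup.mk_mul, hTT, QuotientGroup.mk_one]) fun h => ?_,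
    ⟨(MulEquiv.subgroupCongr ?_).trans (MonoidHom.ofInjective hφ).symm⟩⟩
  · have h3 : T' f = f := by
      have : T' = 1 := congrArg Subtype.val (hsc T ((QuotientGroup.eq_one_iff _).1 h) (by
        show T' e = e
        rw [hT2, he, zero_smul, add_zero]))
      rw [this]; rfl
    rw [hT2, hef, one_smul, add_eq_left] at h3
    exact H.e_ne h3
  · ext g
    obtain ⟨g, rfl⟩ := QuotientGroup.mk_surjective g
    rw [mem_centralizer_singleton_iff, ← QuotientGroup.mk_mul, ← QuotientGroup.mk_mul, QuotientGroup.eq]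
    constructor
    · intro h
      obtain ⟨r, hr⟩ := (hc _).1 h
      have h3 : ∀ x, T' (g.1 x) = r • g.1 (T' x) := by
        intro x
        have : (T * g).1 x = (g * T * ((g * T)⁻¹ * (T * g))).1 x := by rw [mul_inv_cancel_left]
        rw [coe_mul _ (g * T), LinearEquiv.mul_apply, hr, map_smul] at this
        exact this
      have h4 : r = 1 := by
        have h5 : T' (T' (g.1 e)) = g.1 e := congrArg (fun u : isom B => u.1 (g.1 e)) hTT
        have h6 : T' e = e := by rw [hT2, he, zero_smul, add_zero]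
        rw [h3, h6, map_smul, h3, h6, smul_smul] at h5
        have h7 : r * r = 1 := smul_left_injective F (g.1.map_ne_zero_iff.2 H.e_ne) (by
          show (r * r) • g.1 e = (1 : F) • g.1 e
          rw [h5, one_smul])
        have : (r - 1) ^ 2 = 0 := by linear_combination h7 + (1 - r) * h2
        exact sub_eq_zero.1 (pow_eq_zero_iff two_ne_zero |>.1 this)
      have h5 := h3 f
      rw [h4, one_smul, hT2, hT2, hef, one_smul, map_add, add_right_inj] at h5
      obtain ⟨a, ha⟩ : ∃ a : F, a • e = g.1 e := ⟨_, h5⟩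
      have ha0 : a ≠ 0 := by
        rintro rfl
        exact g.1.map_ne_zero_iff.2 H.e_ne (by rw [← ha, zero_smul])
      have h6 : frob hF a * a = 1 := by
        have h7 := mem_isom.1 g.2 e f
        have h8 : B e (g.1 f) = a := smul_left_injective F H.e_ne (h5.trans ha.symm)
        rwa [← ha, form_smul_left, h8, hef] at h7
      let z : isom B := ⟨scalarEquiv V (Units.mk0 a ha0), scalarEquiv_mem_isom h6⟩
      have hz : z ∈ center (isom B) := (hc z).2 ⟨a, fun _ => rfl⟩
      refine ⟨⟨(g * z⁻¹).1, (mem_vStab hF).2 ⟨(g * z⁻¹).2, ?_⟩⟩, ?_⟩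
      · rw [mem_center_iff.1 (inv_mem hz) g, coe_mul, LinearEquiv.mul_apply, ← ha]
        show (scalarEquiv V (Units.mk0 a ha0))⁻¹ (scalarEquiv V (Units.mk0 a ha0) e) = e
        rw [← LinearEquiv.mul_apply, inv_mul_cancel]; rfl
      · show ((g * z⁻¹ : isom B) : isom B ⧸ center (isom B)) = g
        rw [QuotientGroup.eq, mul_inv_rev, inv_inv, inv_mul_cancel_right]
        exact hz
    · rintro ⟨u, hu⟩
      have h3 : (u : V ≃ₗ[F] V) * T' = T' * u := by
        obtain ⟨h4, h5⟩ := (mem_vStab hF).1 u.2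
        ext x
        rw [LinearEquiv.mul_apply, LinearEquiv.mul_apply, hT2, hT2, map_add, map_smul, h5,
          ← mem_isom.1 h4 e x, h5]
      rw [← QuotientGroup.eq, QuotientGroup.mk_mul, QuotientGroup.mk_mul, ← hu]
      exact congrArg QuotientGroup.mk (Subtype.ext h3 : inclusion inf_le_left u * T = T * inclusion inf_le_left u)

theorem exists_isHyp_three : ∃ e f, IsHyp (uForm hF 3) e f := by
  have hB := isHerm_uForm hF 3
  obtain ⟨e, -, he0, he⟩ := hB.exists_isotropic_mem (W := ⊤) (by rw [finrank_top]; simp)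
  obtain ⟨f, hef, hff⟩ := hB.exists_partner he he0
  exact ⟨e, f, hB, he, hff, hef⟩

include hF in
theorem exists_uc : ∃ y : GU 3 F q ⧸ center (GU 3 F q), orderOf y = 2 ∧
    UC (centralizer ({y} : Set (GU 3 F q ⧸ center (GU 3 F q)))) q := by
  obtain ⟨e, f, H⟩ := exists_isHyp_three hF
  obtain ⟨y, hy, ⟨φ⟩⟩ := exists_cent_equiv hF H (by simp)
  let ψ := quotCenterCongr (guEquiv hF 3)
  refine ⟨ψ.symm y, by rw [MulEquiv.orderOf_eq, hy], (uc_vStab hF H (by simp)).of_equiv
    ((subEquiv ψ _ _ fun g => ?_).trans φ)⟩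
  rw [mem_centralizer_singleton_iff, mem_centralizer_singleton_iff, ← ψ.injective.eq_iff, map_mul, map_mul,
    MulEquiv.apply_symm_apply]

include hF in
/-- A semilinear automorphism of `PSU₃(q)` fixing the transvections with a given axis has field part
of order at most two. -/
theorem exists_inv_psu : ∃ u : PSU 3 F q, orderOf u = 2 ∧ ∀ (g : GU 3 F q) (τ : RingAut F),
    (∀ v : PSU 3 F q, v * v = 1 → v * u = u * v → (psuDiag 3 F q g * psuField 3 F q τ) v = v) →
      τ ^ 2 = 1 := by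
  obtain ⟨e, f, H⟩ := exists_isHyp_three hF
  have hB := H.1
  have he := H.2
  have hef := H.4
  have h2 : (2 : F) = 0 := CharP.ofNat_eq_zero F 2
  have hZ : ∀ z ∈ center (SU 3 F q), z * z = 1 → z = 1 := by
    intro z hz h
    have h3 := (orderOf_dvd_natCard (⟨z, hz⟩ : center (SU 3 F q))).trans
      ((card_center_SU hF (n := 3) (by norm_num)).dvd.trans (Nat.gcd_dvd_left _ _))
    rw [orderOf_mk] at h3
    exact orderOf_eq_one_iff.1 (Nat.eq_one_of_dvd_coprimes (by norm_num) h3
      (orderOf_dvd_of_pow_eq_one (n := 2) (by rw [sq, h])))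
  have ht : ∀ a : F, frob hF a = a → ∃ s : SU 3 F q, (suEquiv hF 3 s).1 ∈ axisGrp (uForm hF 3) e ∧
      s * s = 1 ∧ ∀ x, Matrix.mulVec (s.1 : Matrix (Fin 3) (Fin 3) F) x = x + (a * uForm hF 3 e x) • e := by
    intro a ha
    obtain ⟨T, h3, h4⟩ := hB.exists_transv he (c := a) (by rw [ha, ← two_mul, h2, zero_mul])
    obtain ⟨s, hs⟩ := (suEquiv hF 3).surjective ⟨T, axisGrp_le_sisom he h3⟩
    refine ⟨s, by rw [hs]; exact h3, (suEquiv hF 3).injective ?_, fun x => by
      rw [← suEquiv_apply hF, hs]; exact h4 x⟩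
    rw [map_mul, map_one, hs]
    apply Subtype.ext
    apply LinearEquiv.ext
    intro x
    show T (T x) = x
    rw [h4, h4, map_add, map_smul, he, smul_zero, add_zero, add_assoc, ← add_smul, ← two_mul, h2,
      zero_mul, zero_smul, add_zero]
  obtain ⟨s, hs1, hs2, hs3⟩ := ht 1 (map_one _)
  refine ⟨s, orderOf_eq_prime (by rw [sq, ← QuotientGroup.mk_mul, hs2, QuotientGroup.mk_one]) fun h => ?_,
    fun g τ h => ?_⟩
  · have h3 := hs3 f
    rw [hZ s ((QuotientGroup.eq_one_iff _).1 h) hs2, hef, one_mul, one_smul] at h3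
    exact H.e_ne (by simpa using h3)
  · have key : ∀ a : F, frob hF a = a →
        (a * uForm hF 3 e (semiMap g.1 τ f)) • e = τ a • semiMap g.1 τ e := by
      intro a ha
      obtain ⟨r, h3, h4, h5⟩ := ht a ha
      have h6 := h r (by rw [← QuotientGroup.mk_mul, h4, QuotientGroup.mk_one]) (by
        rw [← QuotientGroup.mk_mul, ← QuotientGroup.mk_mul]
        congr 1
        apply (suEquiv hF 3).injective
        rw [map_mul, map_mul]
        exact Subtype.ext (axisGrp_comm e h3 hs1))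
      rw [MulAut.mul_apply, psuField_mk, psuDiag_mk, QuotientGroup.eq] at h6
      have h7 : suDiag 3 F q g (suField 3 F q τ r) * suDiag 3 F q g (suField 3 F q τ r) = 1 := by
        rw [← map_mul, ← map_mul, h4, map_one, map_one]
      have h8 := hZ _ h6 (by
        rw [← mul_assoc, ← mem_center_iff.1 h6, inv_eq_of_mul_eq_one_left h7, ← mul_assoc, h7, one_mul, h4])
      have h9 := mulVec_semiMap g τ r f
      rw [inv_mul_eq_one.1 h8, h5, h5, map_add, add_right_inj, semiMap_smul, hef, mul_one] at h9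
      exact h9
    have h3 : semiMap g.1 τ e ≠ 0 := fun h4 => by
      have := uForm_semiMap hF g τ e f
      rw [h4, hef, map_one] at this
      simp at this
    have h4 : ∀ a : F, frob hF a = a → τ a = a := by
      intro a ha
      have h5 := key 1 (map_one _)
      rw [one_mul, map_one, one_smul] at h5
      have h6 := key a ha
      rw [mul_smul, h5] at h6
      exact (smul_left_injective F h3 h6).symm
    have h5 : ∀ x, τ (frob hF x) = frob hF (τ x) := fun x => by rw [frob_apply, frob_apply, map_pow]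
    ext x
    have h6 := h4 (x + frob hF x) (by rw [map_add, frob_frob, add_comm])
    have h7 := h4 (x * frob hF x) (by rw [map_mul, frob_frob, mul_comm])
    rw [map_add] at h6
    rw [map_mul] at h7
    have h8 : (τ x - x) * (τ x - frob hF x) = 0 := by linear_combination τ x * h6 - h7
    show τ (τ x) = x
    rcases mul_eq_zero.1 h8 with h9 | h9 <;> rw [sub_eq_zero] at h9
    · rw [h9, h9]
    · rw [h9, h5, h9, frob_frob]

end

section
open H46 H69 MulAction
universe u
variable {G : Type u} [Group G] [Finite G] {q : ℕ}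
  (hC : ∀ x : G, orderOf x = 2 → UC (centralizer ({x} : Set G)) q)
include hC

theorem uc_cen {x z g : G} (hx : orderOf x = 2) (hz : z * z = 1) (h1 : z * x = x * z)
    (h2 : g * x = x * g) : z * g = g * z :=
  congrArg Subtype.val ((hC x hx).cen ⟨z, mem_centralizer_singleton_iff.2 h1⟩ (Subtype.ext hz)
    ⟨g, mem_centralizer_singleton_iff.2 h2⟩)

theorem uc_sylow (S : Sylow 2 G) {v : G} (hv : v ∈ (S : Subgroup G)) (h2 : orderOf v = 2) :
    (∀ s ∈ (S : Subgroup G), s * v = v * s) ∧
      ∀ x, IsPElt 2 x → x * v = v * x → x ∈ (S : Subgroup G) := by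
  obtain ⟨z, hz, hz2, hzc⟩ := H14.exists_central_involution S.isPGroup' (fun h => by
    rw [h, mem_bot] at hv
    exact H99.ne_one_of_orderOf_two h2 hv)
  have h3 : ∀ s ∈ (S : Subgroup G), s * v = v * s := fun s hs =>
    (uc_cen hC hz2 (H99.mul_self_of_orderOf_two h2) (hzc v hv) (hzc s hs)).symm
  have hco : ∀ g : centralizer ({v} : Set G), IsPElt 2 g ↔ IsPElt 2 (g : G) := fun g =>
    exists_congr fun k => by rw [Subtype.ext_iff, coe_pow, coe_one]
  let U : Subgroup G :=
    { carrier := {x | IsPElt 2 x ∧ x * v = v * x}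
      mul_mem' := fun {a b} ha hb => ⟨(hco (⟨a, mem_centralizer_singleton_iff.2 ha.2⟩ *
          ⟨b, mem_centralizer_singleton_iff.2 hb.2⟩)).1
          ((hC v h2).mul _ _ ((hco _).2 ha.1) ((hco _).2 hb.1)),
        by rw [mul_assoc, hb.2, ← mul_assoc, ha.2, mul_assoc]⟩
      one_mem' := ⟨⟨0, by simp⟩, by simp⟩
      inv_mem' := fun {a} ha => ⟨ha.1.imp fun k hk => by rw [inv_pow, hk, inv_one],
        (show Commute a v from ha.2).inv_left⟩ }
  have h4 : U = S := S.is_maximal' (fun x => x.2.1.imp fun k hk => Subtype.ext hk) fun s hs =>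
    ⟨(S.isPGroup' ⟨s, hs⟩).imp fun k hk => congrArg Subtype.val hk, h3 s hs⟩
  exact ⟨h3, fun x h5 h6 => h4 ▸ (⟨h5, h6⟩ : x ∈ U)⟩

theorem uc_se (heven : Even (Nat.card G)) (S : Sylow 2 G) (hS : ¬ (S : Subgroup G).Normal) :
    IsStronglyEmbedded (normalizer ((S : Subgroup G) : Set G)) := by
  have hn : ∀ t ∈ normalizer ((S : Subgroup G) : Set G), orderOf t = 2 → t ∈ (S : Subgroup G) := by
    intro t ht h2
    have h3 : IsPGroup 2 (zpowers t) := IsPGroup.of_card (n := 1) (by rw [Nat.card_zpowers, h2, pow_one])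
    have h4 : t ∈ zpowers t ⊓ normalizer ((S : Subgroup G) : Set G) := ⟨mem_zpowers t, ht⟩
    exact (show t ∈ zpowers t ⊓ (S : Subgroup G) from h3.inf_normalizer_sylow S ▸ h4).2
  rw [H88.isStronglyEmbedded_iff]
  refine ⟨fun h => hS (normalizer_eq_top_iff.1 h), ?_, fun t ht h2 g hg => ?_⟩
  · obtain ⟨t, ht, h2⟩ := H88.exists_involution_of_isPGroup S.isPGroup' (S.ne_bot_of_dvd_card heven.two_dvd)
    exact ⟨t, le_normalizer ht, h2⟩
  · have h3 : orderOf (g * t * g⁻¹) = 2 := by rw [← h2]; exact (MulAut.conj g).orderOf_eq t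
    refine mem_normalizer_fintype fun s hs => (uc_sylow hC S (hn _ hg h3) h3).2 _ ?_ ?_
    · exact (S.isPGroup' ⟨s, hs⟩).imp fun k hk => by
        rw [conj_pow, show s ^ 2 ^ k = 1 from congrArg Subtype.val hk, mul_one, mul_inv_cancel]
    · rw [conj_mul, conj_mul, (uc_sylow hC S (hn _ ht h2) h2).1 s hs]

theorem uc_twoRank (hq : 2 < q) (heven : Even (Nat.card G)) : TwoRank G := by
  obtain ⟨t, -, h2⟩ := (H88.even_card_iff_exists_involution (⊤ : Subgroup G)).1 (by rwa [card_top])
  have := Fintype.ofFinite {z : centralizer ({t} : Set G) // z * z = 1}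
  have h3 := (hC t h2).cinv
  rw [Nat.card_eq_fintype_card] at h3
  by_contra h4
  have h1 := H99.twoRankOne_of_not_twoRank h4
  have key : ∀ x y : {z : centralizer ({t} : Set G) // z * z = 1}, x ≠ ⟨1, mul_one 1⟩ →
      y ≠ ⟨1, mul_one 1⟩ → x = y := fun x y hx hy => Subtype.ext (Subtype.ext (h1 _ _
    (fun e => hx (Subtype.ext (Subtype.ext e))) (fun e => hy (Subtype.ext (Subtype.ext e)))
    (congrArg Subtype.val x.2) (congrArg Subtype.val y.2) (congrArg Subtype.val ((hC t h2).cen _ x.2 y.1))))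
  obtain ⟨x, y, z, h6, h7, h8⟩ := Fintype.two_lt_card_iff.1 (h3 ▸ hq)
  by_cases hx : x = ⟨1, mul_one 1⟩
  · exact h8 (key y z (fun e => h6 (hx.trans e.symm)) fun e => h7 (hx.trans e.symm))
  · by_cases hy : y = ⟨1, mul_one 1⟩
    · exact h7 (key x z hx fun e => h8 (hy.trans e.symm))
    · exact h6 (key x y hx hy)

variable {F : Type*} [Field F] [Fintype F] [CharP F 2] (hq : 2 < q) (hF : Fintype.card F = q ^ 2)
include hq hF

theorem ro_pgu {Ω : Type*} [MulAction G Ω] [FaithfulSMul G Ω] {a : Ω} {t : G} {Q : Subgroup G}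
    (hS : IsRankOneSetup G Ω a t Q) (h2 : TwoRank G) :
    Nonempty (G ≃* GU 3 F q ⧸ center (GU 3 F q)) := by
  obtain ⟨k, hk0, hk⟩ := H85.q_eq_pow hF 2
  obtain ⟨s, hs, r, hr, e⟩ := RO.exists_dist hS
  have hs2 : orderOf s = 2 := orderOf_eq_prime (by rw [sq, hs.2.2]) hs.2.1
  have hfix : ∀ c, c * s = s * c → c • a = a := fun c hc =>
    RO.fix_a_of_comm hS (RO.roI_subset_Q hS hs) hs.2.1 hc.symm
  have hCs : centralizer ({s} : Set G) = Q ⊔ roV a t := by
    refine le_antisymm (fun c hc => ?_) (sup_le (fun x hx => ?_) fun v hv => ?_)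
    · rw [mem_centralizer_singleton_iff] at hc
      obtain ⟨x, hx, d, h3, h4, rfl⟩ := RO.exists_QD hS (hfix c hc)
      refine mul_mem_sup hx (RO.mem_V_of_comm_dist hS hs hr e ⟨h3, h4⟩ (mul_left_cancel (a := x) ?_))
      rw [← mul_assoc, hc, ← mul_assoc, RO.roI_comm_Q hS h2 hs hx, mul_assoc]
    · exact mem_centralizer_singleton_iff.2 (RO.roI_comm_Q hS h2 hs hx).symm
    · exact mem_centralizer_singleton_iff.2 (RO.V_comm_dist hS hs hr e hv).1
  have h3 : Nat.card Q * Nat.card (roV a t) = q ^ 3 * (q + 1) := by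
    rw [← (hC s hs2).card, hCs, card_sup_of_disjoint (H := roV a t) (fun v hv => RO.mem_normalizer_Q hS hv.1.1)
      (eq_bot_iff.2 fun x hx => RO.eq_one_of_mem_Q_of_fix_ta hS hx.1 hx.2.1.2)]
  have h4 : Nat.card (roI G a) + 1 = q := by
    rw [← (hC s hs2).cinv, Nat.card_coe_set_eq,
      ← Set.ncard_insert_of_notMem (a := (1 : G)) (fun h => h.2.1 rfl), ← Nat.card_coe_set_eq]
    refine Nat.card_congr ⟨fun x => ⟨⟨x.1, mem_centralizer_singleton_iff.2 ?_⟩, Subtype.ext ?_⟩,
      fun z => ⟨z.1.1, ?_⟩, fun _ => rfl, fun _ => rfl⟩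
    · rcases x.2 with h | h
      · rw [h, one_mul, mul_one]
      · exact RO.roI_comm hS h2 h hs
    · rcases x.2 with h | h
      · show x.1 * x.1 = 1
        rw [h, one_mul]
      · exact h.2.2
    · by_cases h : z.1.1 = 1
      · exact Or.inl h
      · exact Or.inr ⟨hfix _ (mem_centralizer_singleton_iff.1 z.1.2), h, congrArg Subtype.val z.2⟩
  obtain ⟨hQ, hcase⟩ := thmA G Ω a t Q hS h2
  have hVo : Odd (Nat.card (roV a t)) := (H88.odd_card_iff_no_involution _).2 fun x hx h => by
    have := RO.odd_orderOf_of_mem_D hS hx.1.1 hx.1.2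
    rw [h] at this
    exact absurd this (by decide)
  have h5 : Nat.card Q = q ^ 3 := by
    obtain ⟨m, hm⟩ := IsPGroup.iff_card.1 hQ
    refine Nat.dvd_antisymm (Nat.Coprime.dvd_of_dvd_mul_right (k := Nat.card Q) ?_ ⟨_, h3.symm⟩)
      (Nat.Coprime.dvd_of_dvd_mul_right (k := q ^ 3) ?_ ⟨_, h3⟩)
    · rw [hm]
      exact Nat.Coprime.pow_left _ (Nat.coprime_two_left.2 (Even.add_one (hk ▸ (Nat.even_pow.2
        ⟨even_two, hk0.ne'⟩))))
    · rw [hk]
      exact Nat.Coprime.pow_left _ (Nat.Coprime.pow_left _ (Nat.coprime_two_left.2 hVo))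
  have h6 : Nat.card G = q ^ 3 * ((q ^ 2 - 1) * (q ^ 3 + 1)) := by
    rw [h5] at h3
    rw [RO.card_G hS, RO.card_D hS, RO.card_K hS, h5, Nat.eq_of_mul_eq_mul_left (by positivity) h3,
      Nat.eq_sub_of_add_eq h4, sq_sub_one_eq (by omega), mul_assoc]
  have hq3 : q < q ^ 3 := lt_self_pow₀ (by omega) (by norm_num)
  have hcase : CaseC a t Q := by
    rcases hcase with h | h | h
    · exfalso
      have h7 : (Q : Set G) ⊆ insert 1 (roI G a) := fun x hx => by
        by_cases h1 : x = 1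
        · exact Or.inl h1
        · exact Or.inr ⟨RO.smul_a_of_mem_Q hS hx, h1, h x hx⟩
      have h8 := Set.ncard_le_ncard h7
      rw [Set.ncard_insert_of_notMem (fun h => h.2.1 rfl), ← Nat.card_coe_set_eq, ← Nat.card_coe_set_eq, h4,
        SetLike.coe_sort_coe, h5] at h8
      omega
    · have h7 := h.2.1
      rw [h5, roq, h4] at h7
      exact absurd (Nat.pow_right_injective (by omega) h7) (by norm_num)
    · exact h
  obtain ⟨K, _, _, ⟨fs⟩⟩ := RO.exists_FS hS h2 ft
  obtain ⟨E, _, _, n, -, h7, h8, ⟨φ⟩⟩ := H85.jobD1 G Ω a t Q K fs hS h2 hQ hcase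
  rw [roq, h4] at h7
  subst h7
  set L := normalClosure (Q : Set G) with hL
  replace φ := φ.trans (H55.psuCongr (FiniteField.ringEquivOfCardEq (h8.trans hF.symm)) 3 (2 ^ n))
  let ψ : G →* MulAut (PSU 3 F (2 ^ n)) := (MulAut.congr φ).toMonoidHom.comp MulAut.conjNormal
  have hψ : ∀ (g : G) (l : L), ψ g (φ l) = φ (MulAut.conjNormal g l) := fun g l => by simp [ψ]
  have hQL : Q ≤ L := subset_normalClosure
  have htL := (RO.le_of_normal hS h2 (L := L) fun h => H99.ro_Q_ne_bot hS (le_bot_iff.1 (h ▸ hQL))).2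
  have hinj : Function.Injective ψ := by
    rw [← MonoidHom.ker_eq_bot_iff]
    by_contra h
    have h9 : ψ s = 1 := (RO.le_of_normal hS h2 h).1 (RO.roI_subset_Q hS hs)
    have h10 := hψ s ⟨t, htL⟩
    rw [h9, MulAut.one_apply, φ.injective.eq_iff, Subtype.ext_iff, MulAut.conjNormal_apply] at h10
    exact RO.ta_ne hS (hfix t (eq_mul_inv_iff_mul_eq.1 h10))
  obtain ⟨π, hπ1, hπ2⟩ := exists_aut_psu_proj hF (n := 3) le_rfl (fun h => by omega)
  have hLk : L ≤ (π.comp ψ).ker := by
    intro l hl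
    obtain ⟨y, hy⟩ := QuotientGroup.mk_surjective (φ ⟨l, hl⟩)
    show ψ l ∈ π.ker
    rw [hπ1]
    refine ⟨suToGU 3 F _ y, ?_⟩
    rw [psuDiag_suToGU, hy]
    ext x
    obtain ⟨x, rfl⟩ := φ.surjective x
    rw [hψ, MulAut.conj_apply, ← map_inv, ← map_mul, ← map_mul]
    rfl
  obtain ⟨u, hu, hu'⟩ := exists_inv_psu hF
  obtain ⟨u, rfl⟩ := φ.surjective u
  rw [MulEquiv.orderOf_eq] at hu
  have hle : ψ.range ≤ (psuDiag 3 F (2 ^ n)).range := by
    rintro _ ⟨g, rfl⟩
    rw [← hπ1]
    have hu1 := H99.ne_one_of_orderOf_two hu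
    have hu2 := H99.mul_self_of_orderOf_two hu
    obtain ⟨l, hl⟩ := RO.invol_conj (RO.setup_of_le hS hQL htL) hu1 hu2
      (v := MulAut.conjNormal g u) (by rwa [Ne, map_eq_one_iff _ (MulEquiv.injective _)])
      (by rw [← map_mul, hu2, map_one])
    have h9 : (l : G) * u * (l : G)⁻¹ = g * u * g⁻¹ := congrArg Subtype.val hl
    have h10 : ((l : G)⁻¹ * g) * u = u * ((l : G)⁻¹ * g) := by
      rw [mul_assoc, ← mul_inv_cancel_right (g * u) g⁻¹, ← h9]; group
    suffices h : (π.comp ψ) ((l : G)⁻¹ * g) = 1 by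
      rwa [map_mul, hLk (L.inv_mem l.2), one_mul] at h
    generalize (l : G)⁻¹ * g = c at h10
    obtain ⟨d, τ, h11⟩ := psu_aut hF (n := 3) le_rfl (fun h => by omega) (ψ c)
    have h12 := hu' d τ fun v h13 h14 => by
      obtain ⟨v, rfl⟩ := φ.surjective v
      rw [← map_mul, map_eq_one_iff _ φ.injective] at h13
      rw [← map_mul, ← map_mul, φ.injective.eq_iff] at h14
      rw [← h11, hψ]
      congr 1
      apply Subtype.ext
      rw [MulAut.conjNormal_apply, ← uc_cen hC ((orderOf_coe u).trans hu) (congrArg Subtype.val h13)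
        (congrArg Subtype.val h14) h10, mul_inv_cancel_right]
    have h13 : (π.comp ψ) c = τ := by
      have : π (psuDiag 3 F (2 ^ n) d) = 1 := by rw [← MonoidHom.mem_ker, hπ1]; exact ⟨d, rfl⟩
      rw [MonoidHom.comp_apply, h11, map_mul, this, one_mul, hπ2]
    have h14 : τ ^ L.index = 1 := by rw [← h13, ← map_pow]; exact hLk (L.pow_index_mem c)
    obtain ⟨j, hj⟩ := (suzuki hS h2).1
    rw [hj, pow_succ, pow_mul, h12, one_pow, one_mul] at h14
    rw [h13, h14]
  have heq : ψ.range = (psuDiag 3 F (2 ^ n)).range := eq_of_le_of_card_ge hle (by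
    rw [card_range_psuDiag hF (by norm_num), H85.card_PSU_three hF, ← h6,
      Nat.card_congr (MonoidHom.ofInjective hinj).toEquiv])
  exact ⟨(MonoidHom.ofInjective hinj).trans ((MulEquiv.subgroupCongr heq).trans
    ((QuotientGroup.quotientKerEquivRange _).symm.trans
      (QuotientGroup.quotientMulEquivOfEq (ker_psuDiag hF (by norm_num)))))⟩

theorem s2212 (hub : Hub.{u}) (heven : Even (Nat.card G)) (hS : ∀ P : Sylow 2 G, ¬ (P : Subgroup G).Normal) :
    Nonempty (G ≃* GU 3 F q ⧸ center (GU 3 F q)) := by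
  obtain ⟨S⟩ : Nonempty (Sylow 2 G) := inferInstance
  have hH := uc_se hC heven S (hS S)
  have h2 := uc_twoRank hC hq heven
  have hO : pPrimeCore 2 G = ⊥ := by
    rw [eq_bot_iff]
    intro x hx
    obtain ⟨z, hz, hz2⟩ := H88.exists_involution_of_isPGroup S.isPGroup' (S.ne_bot_of_dvd_card heven.two_dvd)
    have hd : Disjoint (pPrimeCore 2 G) (S : Subgroup G) := by
      obtain ⟨m, hm⟩ := IsPGroup.iff_card.1 S.isPGroup'
      exact disjoint_of_coprime_natCard (by
        rw [hm]; exact Nat.Coprime.pow_right _ (Nat.coprime_two_right.2 H99.odd_card_oddCore))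
    have h3 : ∀ s ∈ (S : Subgroup G), x * s = s * x := fun s hs => by
      have h4 : x * s * x⁻¹ * s⁻¹ = 1 := disjoint_def.1 hd (by
        rw [mul_assoc, mul_assoc]
        exact mul_mem hx (mul_assoc s x⁻¹ s⁻¹ ▸ H99.normal_pPrimeCore_two.conj_mem _ (inv_mem hx) s))
        (mul_mem ((mem_normalizer_iff.1 (H99.se_oddCore_le hH h2 hx) s).1 hs) (inv_mem hs))
      rwa [mul_inv_eq_one, mul_inv_eq_iff_eq_mul] at h4
    obtain ⟨k, hk⟩ := (hC z hz2).self ⟨x, mem_centralizer_singleton_iff.2 (h3 z hz)⟩ fun y hy =>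
      Subtype.ext (h3 _ ((uc_sylow hC S hz hz2).2 y (hy.imp fun k hk => congrArg Subtype.val hk)
        (mem_centralizer_singleton_iff.1 y.2)))
    exact orderOf_eq_one_iff.1 (Nat.eq_one_of_dvd_coprimes (Nat.Coprime.pow_right k
      (Nat.coprime_two_right.2 H99.odd_card_oddCore)) (orderOf_dvd_natCard _ hx)
      (orderOf_dvd_of_pow_eq_one (congrArg Subtype.val hk)))
  have hcore := le_bot_iff.1 (hO ▸ H99.se_normalCore_le hH)
  obtain ⟨t, Q, hR⟩ := hub G _ hH hcore h2
  have := H99.faithful_of_normalCore hcore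
  exact ro_pgu hC hq hF hR h2

end

end H51
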