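/- A coded model `M` of the Sylow 2-subgroup of `A₁₂` (blueprints/A12.md). -/
import Cfsg.Agent.H20.A16M
import Cfsg.Agent.H20.AFSpec

set_option autoImplicit false

namespace H51.X12

open H31 H20.X16.BV Equiv
open H20.X16 (BV pw bit map_pw pw_xor cnt card_cnt tbe_lt)
open H20.AF (P12)

/-- the value at `x` of a homomorphism with values `l i` at the unit vectors -/
def ev6 {H : Type*} [Mul H] [One H] (l : ℕ → H) (x : BV 6) : H :=
  pw (tb x 0) (l 0) * pw (tb x 1) (l 1) * pw (tb x 2) (l 2) * pw (tb x 3) (l 3) *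
    pw (tb x 4) (l 4) * pw (tb x 5) (l 5)

/-- the same in dimension five -/
def ev5 {H : Type*} [Mul H] [One H] (l : ℕ → H) (x : BV 5) : H :=
  pw (tb x 0) (l 0) * pw (tb x 1) (l 1) * pw (tb x 2) (l 2) * pw (tb x 3) (l 3) * pw (tb x 4) (l 4)

theorem map6 {H : Type*} [MulOneClass H] (f : BV 6 →* H) (x : BV 6) :
    f x = ev6 (fun i => f (el (2 ^ i))) x := by
  have h : ∀ x : BV 6, x = ev6 (fun i => el (2 ^ i)) x := by decide +kernel
  conv_lhs => rw [h x]
  simp only [ev6, map_mul, map_pw]

theorem map5 {H : Type*} [MulOneClass H] (f : BV 5 →* H) (x : BV 5) :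
    f x = ev5 (fun i => f (el (2 ^ i))) x := by
  have h : ∀ x : BV 5, x = ev5 (fun i => el (2 ^ i)) x := by decide +kernel
  conv_lhs => rw [h x]
  simp only [ev5, map_mul, map_pw]

theorem ext6 {H : Type*} [MulOneClass H] {f g : BV 6 →* H}
    (h : ∀ i < 6, f (el (2 ^ i)) = g (el (2 ^ i))) (x : BV 6) : f x = g x := by
  rw [map6 f, map6 g, ev6, ev6, h 0 (by decide), h 1 (by decide), h 2 (by decide), h 3 (by decide),
    h 4 (by decide), h 5 (by decide)]

theorem ext5 {H : Type*} [MulOneClass H] {f g : BV 5 →* H}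
    (h : ∀ i < 5, f (el (2 ^ i)) = g (el (2 ^ i))) (x : BV 5) : f x = g x := by
  rw [map5 f, map5 g, ev5, ev5, h 0 (by decide), h 1 (by decide), h 2 (by decide), h 3 (by decide),
    h 4 (by decide)]

/-! ### The dihedral group `R` of order 8 and its action on `BV 6` -/

def TR : ℕ := 0x1000203050406070001030204050706030200010706040502030100060705040405060700010203050407060100030206070405020300010706050403020100
def IR : ℕ := 0x607050403020100
def TA : ℕ := 0x3f373b333e363a323d3539313c3438301f171b131e161a121d1519111c1418102f272b232e262a222d2529212c2428200f070b030e060a020d0509010c0408003f3b37333d3935313e3a36323c3834301f1b17131d1915111e1a16121c1814102f2b27232d2925212e2a26222c2824200f0b07030d0905010e0a06020c0804003f373b333d3539313e363a323c3438302f272b232d2529212e262a222c2428201f171b131d1519111e161a121c1418100f070b030d0509010e060a020c0408003f3b37333e3a36323d3935313c3834302f2b27232e2a26222d2925212c2824201f1b17131e1a16121d1915111c1814100f0b07030e0a06020d0905010c0804003f3e3d3c373635343b3a3938333231301f1e1d1c171615141b1a1918131211102f2e2d2c272625242b2a2928232221200f0e0d0c070605040b0a0908030201003f3d3e3c3b393a3837353634333132301f1d1e1c1b191a1817151614131112102f2d2e2c2b292a2827252624232122200f0d0e0c0b090a0807050604030102003f3d3e3c373536343b393a38333132302f2d2e2c272526242b292a28232122201f1d1e1c171516141b191a18131112100f0d0e0c070506040b090a08030102003f3e3d3c3b3a393837363534333231302f2e2d2c2b2a292827262524232221201f1e1d1c1b1a191817161514131211100f0e0d0c0b0a09080706050403020100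
def PR : ℕ := 0xb0a080903020100070604050b0a080903020001070605040b0a090803020001070604050b0a090803020100070605040b0a080907060405030201000b0a080907060504030200010b0a090807060405030200010b0a09080706050403020100

def DR : TBD := ⟨8, TR, IR, [1, 2, 4]⟩

theorem okR : DR.OK := TBD.ok_of _ (by decide +kernel)

/-- Number `i + 2 j + 4 l` is `c^i k₁^j s₁^l`; on the coordinates `0..5` of `BV 6`:
`c = (01)(23)`, `k₁ = (01)(45)`, `s₁ = (02)(13)`. -/
abbrev R : Type := TB DR okR

/-- the element of `R` with number `k` -/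
def rr (k : ℕ) : R := TB.el k

theorem rr_num (r : R) : rr r.num = r := TB.el_val r

/-- `R` permutes the six coordinates. -/
def act (r : R) (a : BV 6) : BV 6 := el (tbe TA (Nat.add (Nat.mul 64 r.1) a.1))

theorem act_mul : ∀ (r : R) (a b : BV 6), act r (a * b) = act r a * act r b := by decide +kernel

/-- the action as a homomorphism -/
def actH (r : R) : BV 6 →* BV 6 := MonoidHom.mk' (act r) (act_mul r)

@[simp] theorem act_one' (r : R) : act r 1 = 1 := (actH r).map_one

@[simp] theorem one_act : ∀ a : BV 6, act 1 a = a := by decide +kernel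

theorem mul_act : ∀ (r r' : R) (a : BV 6), act (r * r') a = act r (act r' a) := by decide +kernel

/-! ### The group `M = BV 6 ⋊ R` -/

@[ext] structure M where
  a : BV 6
  r : R

namespace M

instance : Mul M := ⟨fun x y => ⟨x.a * act x.r y.a, x.r * y.r⟩⟩
instance : One M := ⟨⟨1, 1⟩⟩
instance : Inv M := ⟨fun x => ⟨act x.r⁻¹ x.a, x.r⁻¹⟩⟩

@[simp] theorem mul_a (x y : M) : (x * y).a = x.a * act x.r y.a := rfl
@[simp] theorem mul_r (x y : M) : (x * y).r = x.r * y.r := rfl
@[simp] theorem one_a : (1 : M).a = 1 := rfl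
@[simp] theorem one_r : (1 : M).r = 1 := rfl
@[simp] theorem inv_a (x : M) : x⁻¹.a = act x.r⁻¹ x.a := rfl
@[simp] theorem inv_r (x : M) : x⁻¹.r = x.r⁻¹ := rfl

instance : Group M := Group.ofLeftAxioms
  (fun x y z => M.ext (by simp [act_mul, mul_act, mul_assoc]) (mul_assoc _ _ _))
  (fun x => M.ext (by simp) (one_mul _)) (fun x => M.ext (by simp) (inv_mul_cancel _))

instance : DecidableEq M := fun x y =>
  decidable_of_iff (x.r = y.r ∧ x.a = y.a) ⟨fun h => M.ext h.2 h.1, fun h => h ▸ ⟨rfl, rfl⟩⟩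

/-- `M` as a product -/
def prodEquiv : M ≃ BV 6 × R := ⟨fun x => (x.a, x.r), fun p => ⟨p.1, p.2⟩, fun _ => rfl, fun _ => rfl⟩

instance : Fintype M := Fintype.ofEquiv _ prodEquiv.symm

instance (priority := high) decAll (p : M → Prop) [DecidablePred p] : Decidable (∀ x, p x) :=
  decidable_of_iff (∀ r : R, ∀ a : BV 6, p ⟨a, r⟩) ⟨fun H x => H x.r x.a, fun H _ _ => H _⟩

instance (priority := high) decEx (p : M → Prop) [DecidablePred p] : Decidable (∃ x, p x) :=
  decidable_of_iff (∃ r : R, ∃ a : BV 6, p ⟨a, r⟩) ⟨fun ⟨_, _, H⟩ => ⟨_, H⟩, fun ⟨x, H⟩ => ⟨x.r, x.a, H⟩⟩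

theorem card : Nat.card M = 512 := by
  rw [Nat.card_congr prodEquiv, Nat.card_prod, H20.X16.BV.card, TB.card]; rfl

end M

/-- `A` -/
def iA : BV 6 →* M := MonoidHom.mk' (fun a => ⟨a, 1⟩) fun a b => M.ext (by simp) (one_mul _).symm

/-- the complement -/
def iR : R →* M := MonoidHom.mk' (fun r => ⟨1, r⟩) fun a b => M.ext (by simp) rfl

/-- the projection -/
def pR : M →* R := MonoidHom.mk' M.r fun _ _ => rfl

@[simp] theorem iA_a (a : BV 6) : (iA a).a = a := rfl
@[simp] theorem iA_r (a : BV 6) : (iA a).r = 1 := rfl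
@[simp] theorem iR_a (r : R) : (iR r).a = 1 := rfl
@[simp] theorem iR_r (r : R) : (iR r).r = r := rfl
@[simp] theorem pR_apply (x : M) : pR x = x.r := rfl

theorem iA_inj : Function.Injective iA := fun _ _ e => congrArg M.a e

theorem iA_mul_iR (x : M) : iA x.a * iR x.r = x := M.ext (by simp) (by simp)

theorem eq_iA {x : M} (h : x.r = 1) : x = iA x.a := M.ext rfl h

/-- conjugation on `A` -/
theorem conj_iA (x : M) (a : BV 6) : x * iA a * x⁻¹ = iA (act x.r a) := by
  rw [mul_inv_eq_iff_eq_mul]
  exact M.ext (by simp [mul_comm]) (by simp)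

/-- homomorphisms out of `M` -/
def lift {H : Type*} [Group H] (f : BV 6 →* H) (g : R →* H)
    (h : ∀ r a, g r * f a = f (act r a) * g r) : M →* H :=
  MonoidHom.mk' (fun x => f x.a * g x.r) fun x y => by
    rw [M.mul_a, M.mul_r, map_mul, map_mul, mul_assoc, mul_assoc, ← mul_assoc (f (act _ _)), ← h,
      mul_assoc]

/-- the element `(i % 64, i / 64)` of `M` -/
def mm (i : ℕ) : M := ⟨el i, rr (i / 64)⟩

theorem card_M (p : M → Prop) [DecidablePred p] :
    Nat.card {x // p x} = cnt (fun i => decide (p (mm i))) 512 :=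
  card_cnt mm (fun x => x.a.num + 64 * x.r.num) (by decide +kernel) (fun i hi => by
    show i % 2 ^ 6 + 64 * (i / 64 % 8) = i
    omega) p

/-- a subgroup given by a test -/
def sub (p : M → Bool) (h : p 1 = true ∧ ∀ x, p x = true → ∀ y, p y = true → p (x * y⁻¹) = true) :
    Subgroup M := Subgroup.ofDiv {x | p x = true} ⟨1, h.1⟩ fun x hx y hy => h.2 x hx y hy

instance (p : M → Bool) (h) : DecidablePred (· ∈ sub p h) := fun x =>
  inferInstanceAs (Decidable (p x = true))

/-! ### Names -/

/-- the unit vectors `a₀, b₀, a₁, b₁, a₂, b₂` -/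
def ub (k : Fin 6) : BV 6 := el (Nat.pow 2 k.1)
/-- the central involution `t = z₀ z₁ z₂` -/
def tM : M := iA (el 63)
/-- the central involution `u = z₂` -/
def uM : M := iA (el 48)
/-- the central involution `w = z₀ z₁ = t u` -/
def wM : M := iA (el 15)
def cM : M := iR (rr 1)
def kM : M := iR (rr 2)
def sM : M := iR (rr 4)
/-- the frame: `tau 0 = t`, `tau (k + 1) = iA (ub k)`; the product of the seven is `1` -/
def tau (i : Fin 7) : M := iA (el (cond (Nat.beq i.1 0) 63 (Nat.pow 2 (Nat.pred i.1))))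

theorem tau_zero : tau 0 = tM := rfl
theorem tau_succ : ∀ k : Fin 6, tau k.succ = iA (ub k) := by decide +kernel

/-- the parity of the weight -/
def par (a : BV 6) : Bool := bit 0x6996966996696996 a.1
/-- the sign character with kernel `S0` -/
def lam (x : M) : Bool := par x.a
/-- the exponent of `k₁` -/
def kap (x : M) : Bool := bit x.r.1 1
/-- the block rotation `a_j ↦ a_{j+1}`, `b_j ↦ b_{j+1}` -/
def rot (a : BV 6) : BV 6 := el (Nat.add (Nat.mul 4 (Nat.land a.1 15)) (Nat.shiftRight a.1 4))

theorem par_mul : ∀ a b, par (a * b) = xor (par a) (par b) := by decide +kernel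
theorem par_act : ∀ r a, par (act r a) = par a := by decide +kernel
theorem lam_mul (x y : M) : lam (x * y) = xor (lam x) (lam y) := by
  rw [lam, M.mul_a, par_mul, par_act]; rfl
theorem kap_mul (x y : M) : kap (x * y) = xor (kap x) (kap y) :=
  (by decide +kernel : ∀ r s : R, bit (r * s).1 1 = xor (bit r.1 1) (bit s.1 1)) x.r y.r

/-- `E`: bits `0, 1, 2` give the exponents of `z₀, z₁, z₂`, bits `3, 4` those of `c, k₁`. -/
def iE : BV 5 →* M := MonoidHom.mk'
  (fun x => ⟨el (tbe 0x3f3c33300f0c0300 (Nat.land x.1 7)), rr (Nat.shiftRight x.1 3)⟩) (by decide +kernel)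

/-- a left inverse of `iE` -/
def unE (x : M) : BV 5 :=
  el ((tb x.a 0).toNat + 2 * (tb x.a 2).toNat + 4 * (tb x.a 4).toNat + 8 * x.r.1)

theorem unE_iE : ∀ x, unE (iE x) = x := by decide +kernel

theorem iE_inj : Function.Injective iE := Function.LeftInverse.injective unE_iE

/-- `E'`: bits `0..4` give the exponents of `w, a₂, b₂, c, s₁`. -/
def iF : BV 5 →* M := MonoidHom.mk'
  (fun x => ⟨el (tbe 0x3f302f201f100f00 (Nat.land x.1 7)),
    rr (tbe 0x05040100 (Nat.shiftRight x.1 3))⟩) (by decide +kernel)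

/-- a left inverse of `iF` -/
def unF (x : M) : BV 5 :=
  el ((tb x.a 0).toNat + 2 * (tb x.a 4).toNat + 4 * (tb x.a 5).toNat + 8 * (bit x.r.1 0).toNat +
    16 * (bit x.r.1 2).toNat)

theorem unF_iF : ∀ x, unF (iF x) = x := by decide +kernel

theorem iF_inj : Function.Injective iF := Function.LeftInverse.injective unF_iF

/-- The first three coordinates: `Z = E ⊓ A` inside `E`, and `E' ⊓ A` inside `E'`. -/
def low (x : BV 5) : Bool := Nat.ble x.1 7

/-- `t` in `E` -/
def tE : BV 5 := el 7

/-- the action on `E` -/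
def acE (m : M) (x : BV 5) : BV 5 := unE (m * iE x * m⁻¹)

theorem conj_iE : ∀ (m : M) (x : BV 5), m * iE x * m⁻¹ = iE (acE m x) := by decide +kernel

/-- the action on `E` as a homomorphism -/
def acH : M →* MulAut (BV 5) := MonoidHom.mk'
  (fun m => ⟨⟨acE m, acE m⁻¹, fun x => iE_inj (by rw [← conj_iE, ← conj_iE]; group),
    fun x => iE_inj (by rw [← conj_iE, ← conj_iE]; group)⟩,
    fun x y => iE_inj (by rw [map_mul, ← conj_iE, ← conj_iE, ← conj_iE, map_mul]; group)⟩)
  fun m n => MulEquiv.ext fun x => iE_inj (by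
    show iE (acE (m * n) x) = iE (acE m (acE n x))
    rw [← conj_iE, ← conj_iE, ← conj_iE]; group)

theorem acH_apply (m : M) (x : BV 5) : acH m x = acE m x := rfl

/-! ### Subgroups -/

def A : Subgroup M := sub (fun x => Nat.beq x.r.1 0) (by decide +kernel)
def E : Subgroup M := sub (fun x => decide (iE (unE x) = x)) (by decide +kernel)
def E' : Subgroup M := sub (fun x => decide (iF (unF x) = x)) (by decide +kernel)
/-- `C_A(r) ⟨r⟩` -/
def bq (k : ℕ) (x : M) : Bool := (Nat.beq x.r.1 0 || Nat.beq x.r.1 k) && decide (act (rr k) x.a = x.a)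
def Bc : Subgroup M := sub (bq 1) (by decide +kernel)
def Bk : Subgroup M := sub (bq 2) (by decide +kernel)
def Bs : Subgroup M := sub (bq 4) (by decide +kernel)
/-- the kernel of `lam` -/
def S0 : Subgroup M where
  carrier := {x | lam x = false}
  one_mem' := rfl
  mul_mem' := fun {x y} hx hy => by
    show lam _ = false
    rw [lam_mul, show lam x = false from hx, show lam y = false from hy]; rfl
  inv_mem' := fun {x} hx => by
    show par (act _ _) = false
    rw [par_act]; exact hx
def A0 : Subgroup M := A ⊓ S0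

instance : DecidablePred (· ∈ A) := inferInstanceAs (DecidablePred (· ∈ sub _ _))
instance : DecidablePred (· ∈ E) := inferInstanceAs (DecidablePred (· ∈ sub _ _))
instance : DecidablePred (· ∈ E') := inferInstanceAs (DecidablePred (· ∈ sub _ _))
instance : DecidablePred (· ∈ Bc) := inferInstanceAs (DecidablePred (· ∈ sub _ _))
instance : DecidablePred (· ∈ Bk) := inferInstanceAs (DecidablePred (· ∈ sub _ _))
instance : DecidablePred (· ∈ Bs) := inferInstanceAs (DecidablePred (· ∈ sub _ _))
instance : DecidablePred (· ∈ S0) := fun x => inferInstanceAs (Decidable (lam x = false))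
instance : DecidablePred (· ∈ A0) := fun x => inferInstanceAs (Decidable (x ∈ A ∧ x ∈ S0))

theorem range_iA : iA.range = A := Subgroup.ext fun x =>
  (by decide +kernel : ∀ x : M, (∃ a, iA a = x) ↔ x ∈ A) x
theorem range_iE : iE.range = E := Subgroup.ext fun x =>
  (by decide +kernel : ∀ x : M, (∃ a, iE a = x) ↔ x ∈ E) x
theorem range_iF : iF.range = E' := Subgroup.ext fun x =>
  (by decide +kernel : ∀ x : M, (∃ a, iF a = x) ↔ x ∈ E') x

theorem card_A : Nat.card A = 64 := (card_M _).trans (by decide +kernel)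
theorem card_E : Nat.card E = 32 := (card_M _).trans (by decide +kernel)
theorem card_E' : Nat.card E' = 32 := (card_M _).trans (by decide +kernel)
theorem card_S0 : Nat.card S0 = 256 := (card_M _).trans (by decide +kernel)
theorem card_A0 : Nat.card A0 = 32 := (card_M _).trans (by decide +kernel)

theorem cen_A : ∀ m : M, (∀ k, m * iA (ub k) = iA (ub k) * m) → m ∈ A := by decide +kernel
theorem cen_E : ∀ m : M, (∀ i < 5, m * iE (el (2 ^ i)) = iE (el (2 ^ i)) * m) → m ∈ E := by
  decide +kernel
theorem cen_t : ∀ m : M, m * tM = tM * m := by decide +kernel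
theorem cen_u : ∀ m : M, m * uM = uM * m := by decide +kernel
theorem t_nsq : ∀ m : M, m * m ≠ tM := by decide +kernel

/-- the twist `x ↦ x t^(lam x)` -/
def tw : M →* M := MonoidHom.mk' (fun x => x * pw (lam x) tM) fun x y => by
  rw [lam_mul, pw_xor (by decide +kernel), mul_assoc, mul_assoc, ← mul_assoc y, ← mul_assoc _ y]
  congr 2
  cases lam x
  · simp [pw]
  · exact cen_t y

theorem tw_tw : ∀ x, tw (tw x) = x := by decide +kernel

/-! ### The permutation representation on twelve points -/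

/-- the point with number `4 j + u` -/
def pt (n : ℕ) : P12 := (Fin.ofNat 3 (n / 4), Fin.ofNat 4 n)

/-- `a_j` is `u ↦ u xor 2`, `b_j` is `u ↦ u xor 3` on block `j` -/
def fA (a : BV 6) (p : P12) : P12 :=
  (p.1, Fin.ofNat 4 (Nat.xor p.2.1 (Nat.xor (cond (tb a (2 * p.1.1)) 2 0) (cond (tb a (2 * p.1.1 + 1)) 3 0))))

def fR (r : R) (p : P12) : P12 := pt (tbe PR (12 * r.1 + 4 * p.1.1 + p.2.1))

def psA : BV 6 →* Perm P12 := MonoidHom.mk'
  (fun a => ⟨fA a, fA a, (by decide +kernel : ∀ a p, fA a (fA a p) = p) a,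
    (by decide +kernel : ∀ a p, fA a (fA a p) = p) a⟩)
  fun a b => Equiv.ext ((by decide +kernel : ∀ a b p, fA (a * b) p = fA a (fA b p)) a b)

def psR : R →* Perm P12 := MonoidHom.mk'
  (fun r => ⟨fR r, fR r⁻¹, (by decide +kernel : ∀ r p, fR r⁻¹ (fR r p) = p) r,
    (by decide +kernel : ∀ r p, fR r (fR r⁻¹ p) = p) r⟩)
  fun r s => Equiv.ext ((by decide +kernel : ∀ r s p, fR (r * s) p = fR r (fR s p)) r s)

/-- `M` as a Sylow 2-subgroup of the alternating group on `P12` -/
def psi : M →* Perm P12 := lift psA psR fun r a =>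
  Equiv.ext ((by decide +kernel : ∀ r a p, fR r (fA a p) = fA (act r a) (fR r p)) r a)

theorem psi_apply (x : M) (p : P12) : psi x p = fA x.a (fR x.r p) := rfl

/-- a quarter of the number of points moved -/
def lab (x : M) : ℕ := cnt (fun n => decide (fA x.a (fR x.r (pt n)) ≠ pt n)) 12 / 4

/-- The point `(j, u)` has the label `2 j + u / 2` and the sign `u % 2`. -/
def lb : P12 ≃ Fin 6 × Fin 2 :=
  ⟨fun p => (Fin.ofNat 6 (2 * p.1.1 + p.2.1 / 2), Fin.ofNat 2 p.2.1),
    fun q => (Fin.ofNat 3 (q.1.1 / 2), Fin.ofNat 4 (2 * (q.1.1 % 2) + q.2.1)),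
    by decide +kernel, by decide +kernel⟩

/-- the change of the signs at the labels in `I` -/
def ep0 (I : Finset (Fin 6)) : Perm P12 :=
  lb.symm.permCongr (prodCongrRight fun i => if i ∈ I then swap 0 1 else 1)

/-- the permutation of the labels -/
def la0 : Perm (Fin 6) →* Perm P12 := MonoidHom.mk'
  (fun σ => lb.symm.permCongr (prodCongrLeft fun _ : Fin 2 => σ)) fun σ τ =>
    Equiv.ext fun p => by
      simp only [Perm.mul_apply, permCongr_apply, symm_symm, apply_symm_apply]; rfl

/-- the standard labelling of `E`: `z_j = {2 j, 2 j + 1}`, `c = {0, 2}`, `k₁ = {0, 4}` -/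
def epE (I : Finset (Fin 6)) : BV 5 :=
  pw (decide (1 ∈ I)) (el 1) * pw (decide (2 ∈ I)) (el 8) * pw (decide (3 ∈ I)) (el 10) *
    pw (decide (4 ∈ I)) (el 16) * pw (decide (5 ∈ I)) (el 20)

theorem psi_epE : ∀ I : Finset (Fin 6), Even I.card → ∀ p, psi (iE (epE I)) p = ep0 I p := by
  decide +kernel

end H51.X12
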