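/- Groups with a Sylow 2-subgroup of type `A₁₂`: interface, part 1 (blueprints/A12.md). -/
import Cfsg.Agent.H51.A12M
import Cfsg.Agent.H98.WeakClosed
import Cfsg.Agent.H12.ExtTransfer
import Cfsg.Agent.H86.Fusion
import Cfsg.Agent.H31.S2Kit

set_option autoImplicit false

namespace H51.X12

open Cfsg Subgroup H14 H98 H1.Gold H31.S2 H20.X16.BV Function Equiv
open H20.X16 (BV pw)
open H20.AF (P12 t0)
open H20.AR (Cen)
open scoped commutatorElement

universe u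

variable {G : Type u} [Group G]

/-- A chart of a Sylow 2-subgroup. -/
structure Sy (φ : M →* G) : Prop where
  inj : Injective φ
  syl : IsSyl 2 φ.range ⊤

/-- A chart in a group without subgroups of index two. -/
structure Ch (φ : M →* G) : Prop extends Sy φ where
  h2 : ∀ H : Subgroup G, H.index ≠ 2

/-- `g` conjugates `x` to `y`. -/
def Cj (φ : M →* G) (g : G) (x y : M) : Prop := g * φ x * g⁻¹ = φ y

/-- `x` and `y` are fused. -/
abbrev Fu (φ : M →* G) (x y : M) : Prop := IsConj (φ x) (φ y)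

/-- `g` induces `f` on the image of `ι`. -/
def Ind (φ : M →* G) {V : Type} [Group V] (ι : V →* M) (g : G) (f : V → V) : Prop :=
  ∀ x, Cj φ g (ι x) (ι (f x))

/-! ### Facts on the model -/

/-- The elementary abelian subgroups of `M` of order at least 32. -/
structure EA : Prop where
  e5 : ∀ B : Subgroup M, (∀ x ∈ B, x * x = 1) → 32 ≤ Nat.card B → B ≤ A ∨ ∃ m : M,
    cj m B = E ∨ cj m B = Bc ∨ cj m B = Bk ∨ cj m B = Bs ∨ cj m B = E'
  e6 : ∀ B : Subgroup M, (∀ x ∈ B, x * x = 1) → 64 ≤ Nat.card B → B = A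

/-- Facts on `psi`. -/
structure Psi : Prop where
  inj : Injective psi
  st : H20.AF.SyT psi.range
  supp : ∀ x, x * x = 1 → (psi x).support.card = 4 * lab x
  t : psi tM = t0
  A : A.map psi = H20.AF.A0 (Fin 3)
  le : ∀ x, psi x ∈ Cen t0

/-- `ε` labels a normal subgroup `2⁵`, `l` is a complement `S₆`; together they give `H`. -/
structure Wr {W : Type*} [Group W] (H : Subgroup W) (ε : Finset (Fin 6) → W)
    (l : Perm (Fin 6) →* W) : Prop where
  mul : ∀ I J : Finset (Fin 6), Even I.card → Even J.card → ε (symmDiff I J) = ε I * ε J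
  act : ∀ σ (I : Finset (Fin 6)), Even I.card → l σ * ε I * (l σ)⁻¹ = ε (I.map σ.toEmbedding)
  inj : ∀ σ (I : Finset (Fin 6)), Even I.card → ε I * l σ = 1 → I = ∅ ∧ σ = 1
  mem : ∀ w, w ∈ H ↔ ∃ (σ : Perm (Fin 6)) (I : Finset (Fin 6)), Even I.card ∧ w = ε I * l σ

/-- The centralizer `W(D₆)` of `t0`. -/
structure WM : Prop where
  wr : Wr (Cen t0) ep0 la0
  E : ∀ a, a ∈ E.map psi ↔ ∃ I : Finset (Fin 6), Even I.card ∧ a = ep0 I
  lam : ∀ (x : M) σ (I : Finset (Fin 6)), psi x = ep0 I * la0 σ → (lam x = false ↔ Perm.sign σ = 1)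
  odd : ∀ Y : Subgroup (Perm P12), Odd (Nat.card Y) → A.map psi ≤ nor Y → Y = ⊥

/-- Additive maps on even sets which preserve the pairs come from permutations. -/
def STAR : Prop := ∀ f : Finset (Fin 6) → Finset (Fin 6),
  (∀ I J : Finset (Fin 6), Even I.card → Even J.card → f (symmDiff I J) = symmDiff (f I) (f J)) →
  (∀ I : Finset (Fin 6), I.card = 2 → (f I).card = 2) →
  ∃ σ : Perm (Fin 6), ∀ I : Finset (Fin 6), Even I.card → f I = I.map σ.toEmbedding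

/-! ### Fusion in `E` -/

/-- `A` and `E` are weakly closed. -/
structure Wc (φ : M →* G) : Prop where
  a : WC 2 (A.map φ) ⊤
  e : WC 2 (E.map φ) ⊤

/-- `Z = E ⊓ A` is invariant under `N(E)`. -/
def ZI (φ : M →* G) : Prop := ∀ g f, Ind φ iE g f → ∀ x, low x = true → low (f x) = true

/-- `k₁` is fused in `N(E)` into `⟨Z, c⟩`. -/
def RK (φ : M →* G) : Prop := ∃ g f, Ind φ iE g f ∧ tb (f (el 16)) 4 = false

/-- A conjugate of `A` normalizes `E'`. -/
def NA (φ : M →* G) : Prop := ∃ y : G, cj y (A.map φ) ≤ nor (E'.map φ)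

/-- The stabilizer of `w` in `N(E')` leaves `E' ⊓ A` invariant. -/
def FA (φ : M →* G) : Prop :=
  ∀ g f, Ind φ iF g f → f (el 1) = el 1 → ∀ x, low x = true → low (f x) = true

/-- A labelling of `E` by the even subsets of six points. -/
structure Lb (ε : Finset (Fin 6) → BV 5) : Prop where
  mul : ∀ I J : Finset (Fin 6), Even I.card → Even J.card → ε (symmDiff I J) = ε I * ε J
  inj : ∀ I : Finset (Fin 6), Even I.card → ε I = 1 → I = ∅
  onto : ∀ x, ∃ I : Finset (Fin 6), Even I.card ∧ ε I = x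

/-- `f` permutes the labels by `σ`. -/
def By (ε : Finset (Fin 6) → BV 5) (f : BV 5 → BV 5) (σ : Perm (Fin 6)) : Prop :=
  ∀ I : Finset (Fin 6), Even I.card → f (ε I) = ε (I.map σ.toEmbedding)

/-- The linear algebra on `E`. -/
def LIN : Prop := ∀ Y : Subgroup (MulAut (BV 5)), IsSyl 2 acH.range Y →
  (∀ f ∈ Y, f tE = tE ∨ tb (f tE) 4 = true) → (∃ f ∈ Y, tb (f (el 16)) 4 = false) →
  (∃ f ∈ Y, ∃ x, low x = true ∧ low (f x) = false) →
  ∃ ε, Lb ε ∧ (∀ σ, ∃ f ∈ Y, By ε f σ) ∧ ∀ f ∈ Y, ∃ σ, By ε f σ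

/-- `N(E)` induces `S₆` on `E`. -/
structure Lab (φ : M →* G) (ε : Finset (Fin 6) → BV 5) : Prop extends Lb ε where
  full : ∀ σ, ∃ g f, Ind φ iE g f ∧ By ε f σ
  only : ∀ g f, Ind φ iE g f → ∃ σ, By ε f σ

/-- Recognition of `W(D₆)`. -/
def WD1 : Prop := ∀ (W : Type u) [Group W] (ε : Finset (Fin 6) → W) (l : Perm (Fin 6) →* W),
  Wr ⊤ ε l → ∃ p : W →* Perm P12, Injective p ∧ p.range = Cen t0 ∧
    ∀ I : Finset (Fin 6), Even I.card → p (ε I) = ep0 I

/-- `N(E) / O(N(E))` is `W(D₆)`, compatibly with the chart. -/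
structure YW (φ : M →* G) (N : Subgroup G) (p : N →* Perm P12) : Prop where
  eq : N = nor (E.map φ)
  range : p.range = Cen t0
  ker : Odd (Nat.card p.ker)
  val : ∀ m h, p ⟨φ m, h⟩ = psi m

/-- Elements of `W(D₆)` lift, together with their action on subgroups of `M`. -/
def Lf (φ : M →* G) (N : Subgroup G) (p : N →* Perm P12) : Prop :=
  ∀ (n₀ : N) (U : Subgroup M), (∀ x ∈ U, ∃ y, p n₀ * psi x * (p n₀)⁻¹ = psi y) →
    ∃ n : N, p n = p n₀ ∧ ∀ x ∈ U, ∀ y, p n₀ * psi x * (p n₀)⁻¹ = psi y → Cj φ n x y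

/-- The fusion of involutions is that of `A₁₂`. -/
def PatM (φ : M →* G) : Prop := ∀ x y : M, x * x = 1 → y * y = 1 → (Fu φ x y ↔ lab x = lab y)

/-- The conjugates of `t` in `M` are the seven elements of the frame. -/
def Frm (φ : M →* G) : Prop := ∀ x, Fu φ tM x ↔ ∃ i, x = tau i

/-- `G` is `A₁₂` or `A₁₃`. -/
def Alt (G : Type u) [Group G] : Prop :=
  Nonempty (G ≃* alternatingGroup (Fin 12)) ∨ Nonempty (G ≃* alternatingGroup (Fin 13))

/-- A perfect subgroup `P` of `N(E)` that covers `2⁵ : A₆`. -/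
structure Ps (φ : M →* G) (P : Subgroup G) : Prop where
  perf : ⁅P, P⁆ = P
  le : ∀ x ∈ S0, φ x ∈ P
  nor : P ≤ nor (E.map φ)
  tr : ∀ x y : BV 5, x ≠ 1 → x ≠ tE → y ≠ 1 → y ≠ tE →
    ∃ g ∈ P, Cj φ g (iE x) (iE y) ∨ Cj φ g (iE x) (iE y * tM)
  three : ∃ g ∈ P, Cj φ g uM uM ∧ Cj φ g (iA (el 3)) cM
  rot : ∃ g, Ind φ iA g rot

/-! ### The frame case -/

/-- The frame. -/
structure Fr (φ : M →* G) : Prop extends Sy φ where
  wc : WC 2 (A.map φ) ⊤
  cls : Frm φ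
  perm : ∀ g ∈ nor (A.map φ), ∃ σ : Perm (Fin 7), ∀ i, Cj φ g (tau i) (tau (σ i))
  two : ∀ i j k l : Fin 7, i ≠ j → k ≠ l →
    ∃ g ∈ nor (A.map φ), Cj φ g (tau i) (tau k) ∧ Cj φ g (tau j) (tau l)

/-- The facts on `C(t)` used for the signalizer functor. -/
structure KF (φ : M →* G) : Prop where
  k1 : opp 2 (cen1 (φ tM) ⊓ cen1 (φ (tau 1))) ≤ oc (φ tM)
  k4 : ∀ j k l : Fin 7, j ≠ 0 → k ≠ 0 → j ≠ k → l ≠ j → l ≠ k →
    ∀ y ∈ opp 2 (cen1 (φ tM) ⊓ cen1 (φ (tau j * tau k))), ⁅y, φ (tau l)⁆ ∈ oc (φ tM)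
  k5 : ∀ H : Subgroup G, oc (φ tM) ≤ H → cen1 (φ tM) ⊓ nor (A.map φ) ≤ H →
    (∀ j k : Fin 7, j ≠ 0 → k ≠ 0 → j ≠ k →
      cen1 (φ tM) ⊓ cen1 (φ (tau j)) ⊓ cen1 (φ (tau k)) ≤ H) → cen1 (φ tM) ≤ H

/-- `A`-invariant subgroups of odd order that are balanced at the frame. -/
def Good (φ : M →* G) (Y : Subgroup G) : Prop :=
  OI (A.map φ) Y ∧ ∀ i, Y ⊓ cen1 (φ (tau i)) ≤ oc (φ (tau i))

/-- The signalizer functor. -/
def th (φ : M →* G) (x : G) : Subgroup G := sSup {Y | Good φ Y ∧ Y ≤ cen1 x}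

/-- The functor at the frame and at the products of two frame elements. -/
structure C1 (φ : M →* G) : Prop where
  one : ∀ i, Good φ (oc (φ (tau i)))
  two : ∀ j k, j ≠ k → Good φ (th φ (φ (tau j * tau k)))
  nor : ∀ i j k, j ≠ k → i ≠ j → i ≠ k →
    cen1 (φ (tau i)) ⊓ cen1 (φ (tau j)) ⊓ cen1 (φ (tau k)) ≤ nor (th φ (φ (tau j * tau k)))

/-- The consequence of Holt's theorem. -/
def Ho (φ : M →* G) : Prop :=
  ∀ H : Subgroup G, cen1 (φ tM) ≤ H → nor (A.map φ) ≤ H → H = ⊤ ∨ Alt G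

/-- `π` is the map `C(t) → C(t) / O(C(t))` and `χ` is the induced chart. -/
structure Quo (φ : M →* G) {X : Type u} [Group X] (π : cen1 (φ tM) →* X) (χ : M →* X) : Prop where
  surj : Surjective π
  ker : ∀ g, π g = 1 ↔ (g : G) ∈ oc (φ tM)
  val : ∀ m h, π ⟨φ m, h⟩ = χ m

/-- The setting in `X = C(t) / O(C(t))`. -/
structure XS (φ : M →* G) : Prop extends Sy φ where
  wc : WC 2 (A.map φ) ⊤
  cen : ∀ g : G, g * φ tM = φ tM * g
  core : oddCore G = ⊥
  frm : ∀ i x, Fu φ (tau i) x → ∃ j, x = tau j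

/-- `KF` in `X`. -/
structure KX (φ : M →* G) : Prop where
  k1 : oc (φ (tau 1)) = ⊥
  k4 : ∀ j k l : Fin 7, j ≠ 0 → k ≠ 0 → j ≠ k → l ≠ j → l ≠ k →
    oc (φ (tau j * tau k)) ≤ cen1 (φ (tau l))
  k5 : ∀ H : Subgroup G, nor (A.map φ) ≤ H →
    (∀ j k : Fin 7, j ≠ 0 → k ≠ 0 → j ≠ k → cen1 (φ (tau j)) ⊓ cen1 (φ (tau k)) ≤ H) → H = ⊤

/-! ### Jobs -/

def JobEA : Prop := EA
def JobPSI : Prop := Psi
def JobWM : Prop := WM
def JobSTAR : Prop := STAR
def JobLIN : Prop := STAR → LIN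
def JobWD1 : Prop := WM → WD1.{u}

def JobWC : Prop := EA → ∀ (G : Type u) [Group G] [Finite G] (φ : M →* G), Sy φ → Wc φ

def JobRB2 : Prop := EA → ∀ (G : Type u) [Group G] [Finite G] (φ : M →* G), Sy φ → Wc φ → ZI φ →
  ¬ NA φ

def JobRB3 : Prop := ∀ (G : Type u) [Group G] [Finite G] (φ : M →* G), Sy φ → ¬ NA φ → FA φ

def JobRB1 : Prop := EA → ∀ (G : Type u) [Group G] [Finite G] [IsSimpleGroup G] (φ : M →* G),
  Sy φ → Wc φ → RK φ → ZI φ → ¬ NA φ → FA φ → False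

def JobYD : Prop := LIN → ∀ (G : Type u) [Group G] [Finite G] (φ : M →* G), Ch φ → Wc φ →
  RK φ ∧ (¬ ZI φ → ∃ ε, Lab φ ε)

def JobWD2 : Prop := Psi → WM → WD1.{u} → ∀ (G : Type u) [Group G] [Finite G] (φ : M →* G) ε,
  Sy φ → Lab φ ε → ∃ (α : MulAut M) (N : Subgroup G) (p : N →* Perm P12),
    YW (φ.comp α.toMonoidHom) N p

def JobLF : Prop := Psi → ∀ (G : Type u) [Group G] [Finite G] (φ : M →* G) (N : Subgroup G)
  (p : N →* Perm P12), Sy φ → YW φ N p → Lf φ N p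

def JobTW : Prop := Psi → WM → ∀ (G : Type u) [Group G] [Finite G] (φ : M →* G) (N : Subgroup G)
  (p : N →* Perm P12), YW φ N p → ∃ p' : N →* Perm P12, YW (φ.comp tw) N p'

def JobY1 : Prop := Psi → WM → ∀ (G : Type u) [Group G] [Finite G] (φ : M →* G) (N : Subgroup G)
  (p : N →* Perm P12), Sy φ → Wc φ → YW φ N p → Lf φ N p →
  (∀ x, Fu φ tM x → x = tM) ∨ PatM φ ∨ PatM (φ.comp tw) ∨ Frm φ ∨ Frm (φ.comp tw)

def JobPAT : Prop := Psi → ∀ (G : Type u) [Group G] [Finite G] [IsSimpleGroup G] (φ : M →* G),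
  Sy φ → PatM φ → Alt G

def JobPST : Prop := Psi → WM → ∀ (G : Type u) [Group G] [Finite G] (φ : M →* G) (N : Subgroup G)
  (p : N →* Perm P12), Sy φ → YW φ N p → Lf φ N p → ∃ P, Ps φ P

def JobFRM : Prop := ∀ (G : Type u) [Group G] [Finite G] (φ : M →* G), Sy φ → Wc φ → Frm φ →
  (∃ g, Ind φ iA g rot) → Fr φ

def JobHOLT : Prop := ∀ (G : Type u) [Group G] [Finite G] [IsSimpleGroup G] (φ : M →* G),
  Fr φ → Ho φ

def JobC1 : Prop := ∀ (G : Type u) [Group G] [Finite G] (φ : M →* G), Fr φ → KF φ → C1 φ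

def JobC2 : Prop := ∀ (G : Type u) [Group G] [Finite G] (φ : M →* G), Fr φ → KF φ → C1 φ →
  ∃ W : Subgroup G, Odd (Nat.card W) ∧ oc (φ tM) ≤ W ∧ cen1 (φ tM) ≤ nor W ∧ nor (A.map φ) ≤ nor W

def JobDOWN : Prop := EA → WM → ∀ (G : Type u) [Group G] [Finite G] (φ : M →* G) (N : Subgroup G)
  (p : N →* Perm P12) (X : Type u) [Group X] [Finite X] (π : cen1 (φ tM) →* X) (χ : M →* X),
  Psi → Fr φ → YW φ N p → Quo φ π χ →
  XS χ ∧ ∃ (N' : Subgroup X) (p' : N' →* Perm P12), YW χ N' p'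

def JobLIFT : Prop := ∀ (G : Type u) [Group G] [Finite G] (φ : M →* G) (X : Type u) [Group X]
  [Finite X] (π : cen1 (φ tM) →* X) (χ : M →* X), Sy φ → Quo φ π χ → KX χ → KF φ

def JobKFW : Prop := Psi → WM → ∀ (X : Type u) [Group X] [Finite X] (χ : M →* X) (N : Subgroup X)
  (p : N →* Perm P12), XS χ → YW χ N p → (E.map χ).Normal → KX χ ∧ Nonempty (X ≃* Cen t0)

def JobWFIN : Prop := ∀ (G : Type u) [Group G] [Finite G] [IsSimpleGroup G] (φ : M →* G), Sy φ →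
  Nonempty (cen1 (φ tM) ≃* Cen t0) →
  Alt G ∨ ∃ (F : Type) (_ : Field F) (_ : Fintype F), Fintype.card F = 2 ∧ Nonempty (G ≃* PSp 3 F)

/-! ### Kit -/

variable {φ : M →* G} {g k : G} {x y x' y' w : M}

theorem Cj.mul (h : Cj φ g x x') (h' : Cj φ g y y') : Cj φ g (x * y) (x' * y') := by
  rw [Cj, map_mul, map_mul, ← h, ← h']; group

theorem Cj.one : Cj φ g 1 1 := by simp [Cj]

theorem Cj.pw (h : Cj φ g x y) (c : Bool) : Cj φ g (pw c x) (pw c y) := by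
  cases c; exacts [Cj.one, h]

theorem Cj.inv (h : Cj φ g x y) : Cj φ g x⁻¹ y⁻¹ := by
  rw [Cj, map_inv, map_inv, ← h]; group

theorem Cj.trans (h : Cj φ g x y) (h' : Cj φ k y w) : Cj φ (k * g) x w := by
  rw [Cj, ← h', ← h]; group

theorem Cj.symm (h : Cj φ g x y) : Cj φ g⁻¹ y x := by
  rw [Cj, ← h]; group

theorem cj_self (φ : M →* G) (m x : M) : Cj φ (φ m) x (m * x * m⁻¹) := by simp [Cj]

theorem Cj.fu (h : Cj φ g x y) : Fu φ x y := isConj_iff.2 ⟨g, h⟩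

theorem Fu.ex (h : Fu φ x y) : ∃ g, Cj φ g x y := isConj_iff.1 h

theorem fu_self (φ : M →* G) (m x : M) : Fu φ x (m * x * m⁻¹) := (cj_self φ m x).fu

theorem Sy.uniq (c : Sy φ) (h : Cj φ g x y) (h' : Cj φ g x y') : y = y' :=
  c.inj ((Eq.symm h).trans h')

theorem Sy.uniq' (c : Sy φ) (h : Cj φ g x y) (h' : Cj φ g x' y) : x = x' := c.uniq h.symm h'.symm

theorem Sy.sq (c : Sy φ) (h : Cj φ g x y) (e : x * x = 1) : y * y = 1 :=
  c.uniq (h.mul h) (by rw [e]; exact Cj.one)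

theorem Sy.comm (c : Sy φ) (h : Cj φ g x x') (h' : Cj φ g y y') (e : x * y = y * x) :
    x' * y' = y' * x' := c.uniq (h.mul h') (e ▸ h'.mul h)

theorem Sy.ne_one (c : Sy φ) (h : Cj φ g x y) (e : x ≠ 1) : y ≠ 1 :=
  fun e' => e (c.uniq' (e' ▸ h) Cj.one)

theorem Sy.comp (c : Sy φ) {τ : M →* M} (hτ : Injective τ) : Sy (φ.comp τ) :=
  ⟨c.inj.comp hτ, by
    rw [MonoidHom.range_comp, MonoidHom.range_eq_top.2 (Finite.injective_iff_surjective.1 hτ),
      ← MonoidHom.range_eq_map]; exact c.syl⟩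

theorem Cj.mem {U : Subgroup M} (h : Cj φ g x y) (hx : x ∈ U) : φ y ∈ cj g (U.map φ) :=
  h ▸ conj_mem_cj (mem_map_of_mem φ hx)

theorem Sy.mem_map (c : Sy φ) {U : Subgroup M} : φ x ∈ U.map φ ↔ x ∈ U := mem_map_iff_mem c.inj

theorem Sy.card_map (c : Sy φ) (U : Subgroup M) : Nat.card (U.map φ) = Nat.card U :=
  card_map_of_injective c.inj

theorem Sy.pg (c : Sy φ) (U : Subgroup M) : IsPGroup 2 (U.map φ) :=
  c.syl.isPGroup.to_le (map_le_range φ U)

theorem Sy.card (c : Sy φ) : Nat.card φ.range = 512 :=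
  (Nat.card_congr (MonoidHom.ofInjective c.inj).toEquiv).symm.trans M.card

theorem Sy.ord (c : Sy φ) (h2 : x * x = 1) (h1 : x ≠ 1) : orderOf (φ x) = 2 := by
  rw [orderOf_injective φ c.inj]
  exact orderOf_eq_prime (by rw [pow_two, h2]) h1

theorem elem_map (φ : M →* G) {U : Subgroup M} (h : ∀ x ∈ U, x * x = 1) :
    IsElementaryAbelian 2 (U.map φ) := by
  have sq : ∀ a ∈ U.map φ, a * a = 1 := by
    rintro _ ⟨x, hx, rfl⟩; rw [← map_mul, h x hx, map_one]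
  refine ⟨⟨⟨fun a b => Subtype.ext ?_⟩⟩, fun a ha => by rw [pow_two]; exact sq a ha⟩
  have e := sq _ (mul_mem a.2 b.2)
  show a.1 * b.1 = b.1 * a.1
  rw [← inv_eq_of_mul_eq_one_right e, mul_inv_rev, inv_eq_of_mul_eq_one_right (sq _ a.2),
    inv_eq_of_mul_eq_one_right (sq _ b.2)]

theorem elem_A (φ : M →* G) : IsElementaryAbelian 2 (A.map φ) := elem_map φ (by decide +kernel)

theorem range_le_cen_t (φ : M →* G) : φ.range ≤ cen1 (φ tM) := by
  rintro _ ⟨m, rfl⟩; exact mem_cen1.2 (by rw [← map_mul, ← map_mul, cen_t])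

/-- If `g` maps `U` into `V`, this happens elementwise. -/
theorem cj_of_le {U V : Subgroup M} (h : cj g (U.map φ) ≤ V.map φ) (hx : x ∈ U) :
    ∃ y ∈ V, Cj φ g x y := by
  obtain ⟨y, hy, e⟩ := h (conj_mem_cj (mem_map_of_mem φ hx))
  exact ⟨y, hy, e.symm⟩

theorem le_of_cj {U V : Subgroup M} (h : ∀ x ∈ U, ∃ y ∈ V, Cj φ g x y) :
    cj g (U.map φ) ≤ V.map φ := by
  rintro _ ⟨_, ⟨x, hx, rfl⟩, rfl⟩
  obtain ⟨y, hy, e⟩ := h x hx
  exact ⟨y, hy, Eq.symm e⟩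

/-- The large elementary abelian subgroups of the Sylow subgroup. -/
theorem EA.big (ea : EA) (c : Sy φ) {D : Subgroup G} (hD : D ≤ φ.range) (h2 : ∀ d ∈ D, d * d = 1)
    (hc : 32 ≤ Nat.card D) : D ≤ A.map φ ∨ ∃ m : M, cj (φ m) D = E.map φ ∨
      cj (φ m) D = Bc.map φ ∨ cj (φ m) D = Bk.map φ ∨ cj (φ m) D = Bs.map φ ∨
      cj (φ m) D = E'.map φ := by
  have e : (D.comap φ).map φ = D := map_comap_eq_self hD
  rw [← e] at hc ⊢
  rcases ea.e5 (D.comap φ) (fun x hx => c.inj (by rw [map_mul, map_one]; exact h2 _ hx))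
    (c.card_map _ ▸ hc) with h | ⟨m, h⟩
  · exact Or.inl (map_mono h)
  · refine Or.inr ⟨m, ?_⟩
    rw [← map_cj]
    rcases h with h | h | h | h | h <;> rw [h] <;> simp

section Ind

variable {V : Type} [Group V] {ι : V →* M} {f f' : V → V}

theorem Ind.comp (h : Ind φ ι g f) (h' : Ind φ ι k f') : Ind φ ι (k * g) (f' ∘ f) :=
  fun x => (h x).trans (h' _)

theorem Ind.congr (h : Ind φ ι g f) (e : ∀ x, f x = f' x) : Ind φ ι g f' := fun x => e x ▸ h x

theorem Ind.inv (h : Ind φ ι g f) (e : ∀ x, f (f' x) = x) : Ind φ ι g⁻¹ f' := fun x => by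
  have := (h (f' x)).symm; rwa [e] at this

theorem Ind.fu (h : Ind φ ι g f) (x : V) : Fu φ (ι x) (ι (f x)) := (h x).fu

theorem Ind.map_mul (c : Sy φ) (hι : Injective ι) (h : Ind φ ι g f) (x y : V) :
    f (x * y) = f x * f y :=
  hι (c.uniq (h _) (by rw [_root_.map_mul, _root_.map_mul]; exact (h x).mul (h y)))

theorem Ind.injective (c : Sy φ) (hι : Injective ι) (h : Ind φ ι g f) : Injective f :=
  fun x y e => hι (c.uniq' (h x) (e ▸ h y))

/-- The induced map is an automorphism. -/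
theorem Ind.aut [Finite V] (c : Sy φ) (hι : Injective ι) (h : Ind φ ι g f) :
    ∃ F : MulAut V, ∀ x, F x = f x :=
  ⟨MulEquiv.ofBijective (MonoidHom.mk' f (h.map_mul c hι))
    (Finite.injective_iff_bijective.1 (h.injective c hι)), fun _ => rfl⟩

theorem Ind.nor [Finite G] (h : Ind φ ι g f) : g ∈ normalizer (ι.range.map φ : Set G) :=
  mem_normalizer_of_cj_le (le_of_cj fun _ ⟨x, e⟩ => ⟨_, ⟨f x, rfl⟩, e ▸ h x⟩)

theorem Sy.ind_of_le [Finite V] (c : Sy φ) (hι : Injective ι)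
    (h : cj g (ι.range.map φ) ≤ ι.range.map φ) : ∃ F : MulAut V, Ind φ ι g F := by
  have : ∀ x, ∃ y, Cj φ g (ι x) (ι y) := fun x => by
    obtain ⟨_, ⟨y, rfl⟩, e⟩ := cj_of_le h ⟨x, rfl⟩
    exact ⟨y, e⟩
  choose f hf using this
  obtain ⟨F, hF⟩ := Ind.aut c hι (f := f) hf
  exact ⟨F, Ind.congr (f := f) hf fun x => (hF x).symm⟩

/-- The action of the normalizer as a homomorphism. -/
theorem Sy.exists_rho [Finite V] (c : Sy φ) (hι : Injective ι) :
    ∃ ρ : nor (ι.range.map φ) →* MulAut V, ∀ n : nor (ι.range.map φ), Ind φ ι n (ρ n) := by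
  choose F hF using fun n : nor (ι.range.map φ) => c.ind_of_le hι (cj_eq_self n.2).le
  exact ⟨MonoidHom.mk' F fun m n => MulEquiv.ext fun x =>
    hι (c.uniq (hF (m * n) x) ((hF n x).trans (hF m _))), hF⟩

theorem ind_act (φ : M →* G) (m : M) : Ind φ iA (φ m) (act m.r) := fun a =>
  conj_iA m a ▸ cj_self φ m _

theorem ind_acE (φ : M →* G) (m : M) : Ind φ iE (φ m) (acE m) := fun a =>
  conj_iE m a ▸ cj_self φ m _

theorem Sy.indA (c : Sy φ) (h : cj g (A.map φ) ≤ A.map φ) : ∃ F : MulAut (BV 6), Ind φ iA g F :=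
  c.ind_of_le iA_inj (range_iA ▸ h)

theorem Sy.indE (c : Sy φ) (h : cj g (E.map φ) ≤ E.map φ) : ∃ F : MulAut (BV 5), Ind φ iE g F :=
  c.ind_of_le iE_inj (range_iE ▸ h)

theorem Sy.indF (c : Sy φ) (h : cj g (E'.map φ) ≤ E'.map φ) : ∃ F : MulAut (BV 5), Ind φ iF g F :=
  c.ind_of_le iF_inj (range_iF ▸ h)

variable [Finite G]

/-- The normalizer of a weakly closed subgroup `W` controls the fusion of subsets of `C(W)`. -/
theorem wc_ctl {W : Subgroup M} (hW : WC 2 (W.map φ) ⊤) {I : Type} {p q : I → M}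
    (h : ∀ i, Cj φ g (p i) (q i)) (hp : ∀ i, ∀ w ∈ W, w * p i = p i * w)
    (hq : ∀ i, ∀ w ∈ W, w * q i = q i * w) :
    ∃ n, cj n (W.map φ) = W.map φ ∧ ∀ i, Cj φ n (p i) (q i) := by
  have : Fact (Nat.Prime 2) := ⟨Nat.prime_two⟩
  obtain ⟨k, hk, e⟩ := hW.exists_cj_eq (K := centralizer (Set.range fun i => φ (q i))) (by
      rintro _ ⟨w, hw, rfl⟩ _ ⟨i, rfl⟩
      rw [← map_mul, ← map_mul, hq i w hw]) le_top (mem_top g) (by
      rintro _ ⟨_, ⟨w, hw, rfl⟩, rfl⟩ _ ⟨i, rfl⟩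
      show φ (q i) * (g * φ w * g⁻¹) = g * φ w * g⁻¹ * φ (q i)
      rw [← h i]
      calc _ = g * φ (p i * w) * g⁻¹ := by rw [map_mul]; group
        _ = _ := by rw [← hp i w hw, map_mul]; group)
  refine ⟨k⁻¹ * g, by rw [← cj_cj, e, cj_inv_cj], fun i => (h i).trans ?_⟩
  rw [Cj, mul_assoc, inv_inv, hk _ ⟨i, rfl⟩, inv_mul_cancel_left]

end Ind

variable [Finite G]

/-- `A` is weakly closed. -/
theorem EA.wcA (ea : EA) (c : Sy φ) : WC 2 (A.map φ) ⊤ := by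
  have : Fact (Nat.Prime 2) := ⟨Nat.prime_two⟩
  refine wc_of_isSyl c.syl (map_le_range φ A) fun g _ hg => ?_
  have e : ((cj g (A.map φ)).comap φ).map φ = cj g (A.map φ) := map_comap_eq_self hg
  rw [← e, ea.e6 (comap φ _) (fun x hx => c.inj ?_) ?_]
  · rw [← c.card_map, e, card_cj, c.card_map, card_A]
  · rw [map_mul, map_one]
    obtain ⟨y, hy, r⟩ := hx
    rw [← r]
    show g * y * g⁻¹ * (g * y * g⁻¹) = 1
    rw [conj_mul, elem_mul_self (elem_A φ) hy]; simp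

/-- No conjugate of `t` is a square. -/
theorem Sy.nsq (c : Sy φ) (x : M) : ¬ Fu φ tM (x * x) := fun h => by
  have : Fact (Nat.Prime 2) := ⟨Nat.prime_two⟩
  obtain ⟨g, e⟩ := Fu.ex h.symm
  obtain ⟨k, hk, l⟩ := (c.syl.of_le (range_le_cen_t φ) le_top).exists_cj_le
    (isPGroup_cj g (c.pg (zpowers x))) (by
      rw [cj, map_map, map_le_iff_le_comap, zpowers_le]
      refine mem_cen1.2 ?_
      show g * φ x * g⁻¹ * φ tM = φ tM * (g * φ x * g⁻¹)
      rw [← show _ = φ tM from e, map_mul]; group)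
  rw [cj_cj] at l
  obtain ⟨y, hy⟩ := l (conj_mem_cj (mem_map_of_mem φ (mem_zpowers x)))
  have h1 : Cj φ (k * g) x y := hy.symm
  exact t_nsq y (c.uniq (h1.mul h1) (e.trans (mul_inv_eq_iff_eq_mul.2 (mem_cen1.1 hk))))

/-- Thompson transfer with an extremal conjugate. -/
theorem Ch.thompson (c : Ch φ) {σ : M → Bool}
    (hσ : ∀ x y, σ (x * y) = xor (σ x) (σ y)) {v : M} (h2 : v * v = 1) (hv : σ v = true) :
    ∃ g y, Cj φ g v y ∧ σ y = false ∧ ∀ p, p * v = v * p → ∃ q, Cj φ g p q := by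
  have s1 : σ 1 = false := by have := hσ 1 1; rw [mul_one] at this; simpa using this
  have si : ∀ x, σ x⁻¹ = σ x := fun x => by
    have := hσ x x⁻¹; rw [mul_inv_cancel, s1] at this; revert this; cases σ x <;> cases σ x⁻¹ <;> simp
  let K : Subgroup M :=
    { carrier := {x | σ x = false}
      one_mem' := s1
      mul_mem' := fun {a b} ha hb => by
        show σ _ = false; rw [hσ, show σ a = false from ha, show σ b = false from hb]; rfl
      inv_mem' := fun {a} ha => (si a).trans ha }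
  obtain ⟨g, hP, hg⟩ : ∃ g : G, cj g (φ.range ⊓ centralizer {φ v}) ≤ φ.range ∧
      g * φ v * g⁻¹ * φ v ∉ K.map φ := by
    by_contra hn
    push Not at hn
    refine H12.not_mem_res_of_extremal c.syl (D := K.map φ) ?_ (y := φ v) (by rw [← map_mul, h2, map_one])
      ⟨v, rfl⟩ (fun h => by have : σ v = false := c.mem_map.1 h; rw [hv] at this; cases this)
      (R := φ.range ⊓ centralizer {φ v}) ⟨⟨v, rfl⟩, mem_centralizer_singleton_iff.2 rfl⟩
      (c.syl.isPGroup.to_le inf_le_left) (fun r hr => mem_centralizer_singleton_iff.1 hr.2) hn (by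
        rw [res_top, H86.pResidual_eq_top_of_index_ne_two c.h2]; trivial)
    rw [commutator_le]
    rintro _ ⟨a, rfl⟩ _ ⟨b, rfl⟩
    rw [← map_commutatorElement]
    refine mem_map_of_mem φ (show σ _ = false from ?_)
    rw [commutatorElement_def, hσ, hσ, hσ, si, si]
    cases σ a <;> cases σ b <;> rfl
  replace hP : ∀ p, p * v = v * p → ∃ q, Cj φ g p q := fun p e => by
    obtain ⟨q, hq⟩ := hP (conj_mem_cj ⟨⟨p, rfl⟩, mem_centralizer_singleton_iff.2 (by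
      rw [← map_mul, ← map_mul, e])⟩)
    exact ⟨q, hq.symm⟩
  obtain ⟨y, hy⟩ := hP v rfl
  refine ⟨g, y, hy, ?_, hP⟩
  by_contra hn
  refine hg ?_
  rw [show g * φ v * g⁻¹ = φ y from hy, ← map_mul]
  refine mem_map_of_mem φ (show σ _ = false from ?_)
  rw [hσ, hv, Bool.not_eq_false] at *
  rw [hn]; rfl

end H51.X12
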