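import Cfsg.Agent.H51.KLGeo

/-! Counting and normalising tools for the tower KL. -/

set_option autoImplicit false

namespace H51.KL

open Module Submodule H53.CK

universe u v

theorem dcount_le {α β : Type*} [Finite α] [Finite β] (s : Set α) (t : Set β) (r : α → β → Prop)
    {m n : ℕ} (hm : ∀ a ∈ s, m ≤ {b | b ∈ t ∧ r a b}.ncard)
    (hn : ∀ b ∈ t, {a | a ∈ s ∧ r a b}.ncard ≤ n) : s.ncard * m ≤ t.ncard * n := by
  classical
  rw [Set.ncard_eq_toFinset_card s, Set.ncard_eq_toFinset_card t]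
  refine Finset.card_mul_le_card_mul r (fun a ha => ?_) fun b hb => ?_
  · refine (hm a (by simpa using ha)).trans_eq ?_
    rw [← Set.ncard_coe_finset]
    congr 1
    ext b
    simp [Finset.bipartiteAbove]
  · refine le_of_eq_of_le ?_ (hn b (by simpa using hb))
    rw [← Set.ncard_coe_finset]
    congr 1
    ext a
    simp [Finset.bipartiteBelow]

theorem dcount {α β : Type*} [Finite α] [Finite β] (s : Set α) (t : Set β) (r : α → β → Prop)
    {m n : ℕ} (hm : ∀ a ∈ s, {b | b ∈ t ∧ r a b}.ncard = m)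
    (hn : ∀ b ∈ t, {a | a ∈ s ∧ r a b}.ncard = n) : s.ncard * m = t.ncard * n :=
  le_antisymm (dcount_le s t r (fun a h => (hm a h).ge) fun b h => (hn b h).le)
    (dcount_le t s (fun b a => r a b) (fun b h => (hn b h).ge) fun a h => (hm a h).le)

variable {F : Type u} [Field F] {V : Type v} [AddCommGroup V] [Module F V]

theorem ncard_sub [FiniteDimensional F V] (U : Submodule F V) :
    (U : Set V).ncard = Nat.card F ^ finrank F U := by
  rw [← Module.natCard_eq_pow_finrank]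
  rfl

theorem ncard_diff [Finite F] [FiniteDimensional F V] {U W : Submodule F V} (h : U ≤ W) :
    {y | y ∈ W ∧ y ∉ U}.ncard + Nat.card F ^ finrank F U = Nat.card F ^ finrank F W := by
  have := finV F V
  rw [← ncard_sub, ← ncard_sub, ← Set.ncard_sdiff_add_ncard_of_subset (s := (U : Set V)) h]
  rfl

theorem ncard_compl [Finite F] [FiniteDimensional F V] (U : Submodule F V) :
    {y | y ∉ U}.ncard + Nat.card F ^ finrank F U = Nat.card F ^ finrank F V := by
  simpa using ncard_diff (le_top : U ≤ ⊤)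

theorem ncard_ne_zero [Finite F] [FiniteDimensional F V] (U : Submodule F V) :
    {y | y ∈ U ∧ y ≠ 0}.ncard + 1 = Nat.card F ^ finrank F U := by
  simpa using ncard_diff (bot_le : ⊥ ≤ U)

theorem two_le_card (F : Type u) [Field F] [Finite F] : 2 ≤ Nat.card F := Finite.one_lt_card

/-- vectors on a line through `x`, counted by a parameter -/
theorem ncard_line {x : V} (hx : x ≠ 0) (y : V) (P : V → Prop) :
    {z | P z ∧ z - y ∈ F ∙ x}.ncard = {t : F | P (y + t • x)}.ncard := by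
  symm
  refine Set.ncard_congr (fun t _ => y + t • x) (fun t ht => ⟨ht, ?_⟩) (fun s t _ _ h => ?_) ?_
  · simpa using smul_mem _ t (mem_span_singleton_self x)
  · exact smul_left_injective F hx (add_left_cancel h)
  · rintro z ⟨hz, h⟩
    obtain ⟨t, ht⟩ := mem_span_singleton.1 h
    have : y + t • x = z := by rw [ht]; abel
    exact ⟨t, by rwa [Set.mem_ofPred_eq, this], this⟩

theorem add_smul_notMem {x y : V} (hy : y ∉ F ∙ x) (t : F) : y + t • x ∉ F ∙ x := fun h =>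
  hy (by simpa using sub_mem h (smul_mem _ t (mem_span_singleton_self x)))

theorem smul_notMem {U : Submodule F V} {y : V} (hy : y ∉ U) {c : F} (hc : c ≠ 0) : c • y ∉ U :=
  fun h => hy ((smul_mem_iff _ hc).1 h)

theorem exists_coef {g : V ≃ₗ[F] V} {x x' : V} (hx : x ≠ 0) (h : g x ∈ F ∙ x') :
    ∃ c : F, c ≠ 0 ∧ g x = c • x' := by
  obtain ⟨c, hc⟩ := mem_span_singleton.1 h
  exact ⟨c, fun h0 => hx (g.injective (by rw [← hc, h0, zero_smul, map_zero])), hc.symm⟩

theorem notMem_of_map {g : V ≃ₗ[F] V} {x x' y : V} (hxy : Ind F x y) (h : g x ∈ F ∙ x') :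
    g y ∉ F ∙ x' := fun h' => by
  obtain ⟨c, hc, h1⟩ := exists_coef hxy.1 h
  refine (hxy.map g).2 ?_
  rwa [h1, span_singleton_smul_eq hc.isUnit]

variable {K : Subgroup (V ≃ₗ[F] V)}

theorem sc_mul (hs : Sc K) {g : V ≃ₗ[F] V} (hg : g ∈ K) {c : F} (hc : c ≠ 0) :
    ∃ k ∈ K, ∀ v, k v = c • g v := by
  obtain ⟨s, hs1, hs2⟩ := hs c hc
  exact ⟨s * g, K.mul_mem hs1 hg, fun v => hs2 _⟩

/-- normalise the first vector -/
theorem norm_left (hs : Sc K) {g : V ≃ₗ[F] V} (hg : g ∈ K) {x x' : V} (hx : x ≠ 0)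
    (h : g x ∈ F ∙ x') : ∃ k ∈ K, ∃ c : F, c ≠ 0 ∧ k x = x' ∧ ∀ v, k v = c • g v := by
  obtain ⟨c, hc, h1⟩ := exists_coef hx h
  obtain ⟨k, hk, h2⟩ := sc_mul hs hg (inv_ne_zero hc)
  exact ⟨k, hk, c⁻¹, inv_ne_zero hc, by rw [h2, h1, smul_smul, inv_mul_cancel₀ hc, one_smul], h2⟩

/-- a flag equivalence, first vector normalised -/
theorem FlEq.left (hs : Sc K) {x y x' y' : V} (hxy : Ind F x y) (h : FlEq K x y x' y') :
    ∃ k ∈ K, ∃ c t : F, c ≠ 0 ∧ k x = x' ∧ k y = c • y' + t • x' := by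
  obtain ⟨g, hg, h1, h2⟩ := h
  obtain ⟨k, hk, c, hc, h3, h4⟩ := norm_left hs hg hxy.1 h1
  obtain ⟨a, b, h5⟩ := mem_span_pair.1 h2
  have hb : b ≠ 0 := fun h0 => notMem_of_map hxy h1 (by
    rw [← h5, h0, zero_smul, add_zero]
    exact smul_mem _ a (mem_span_singleton_self _))
  exact ⟨k, hk, c * b, c * a, mul_ne_zero hc hb, h3, by rw [h4, ← h5]; module⟩

/-- a flag equivalence, second vector normalised -/
theorem FlEq.right (hs : Sc K) {x y x' y' : V} (hxy : Ind F x y) (h : FlEq K x y x' y') :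
    ∃ k ∈ K, ∃ t : F, k x ∈ F ∙ x' ∧ k y = y' + t • x' := by
  obtain ⟨k, hk, c, t, hc, h1, h2⟩ := h.left hs hxy
  obtain ⟨l, hl, h3⟩ := sc_mul hs hk (inv_ne_zero hc)
  refine ⟨l, hl, c⁻¹ * t, by rw [h3, h1]; exact smul_mem _ _ (mem_span_singleton_self _), ?_⟩
  rw [h3, h2, smul_add, smul_smul, smul_smul, inv_mul_cancel₀ hc, one_smul]

theorem pt_of_fl [FiniteDimensional F V] (hs : Sc K) (hn : 2 ≤ finrank F V)
    (h : ∀ x y x' y', Ind F x y → Ind F x' y' → FlEq K x y x' y') : PT K := fun x x' hx hx' => by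
  obtain ⟨y, hy⟩ := exists_ind hn hx
  obtain ⟨y', hy'⟩ := exists_ind hn hx'
  obtain ⟨k, hk, -, -, -, h1, -⟩ := (h _ _ _ _ hy hy').left hs hy
  exact ⟨k, hk, h1⟩

theorem exists_ne_zero' [FiniteDimensional F V] (hn : 1 ≤ finrank F V) : ∃ x : V, x ≠ 0 := by
  have := Module.nontrivial_of_finrank_pos (R := F) (M := V) hn
  exact exists_ne 0

/-- the number of vectors of an invariant set on a hyperplane -/
theorem ncard_ker_eq {B : Set V} {g : V ≃ₗ[F] V} (hB : ∀ y, g y ∈ B ↔ y ∈ B) {φ ψ : Dual F V}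
    (h : ∀ v, ψ (g v) = φ v) : {y ∈ B | φ y = 0}.ncard = {y ∈ B | ψ y = 0}.ncard :=
  Set.ncard_congr (fun y _ => g y) (fun y hy => ⟨(hB y).2 hy.1, (h y).trans hy.2⟩)
    (fun _ _ _ _ e => g.injective e) fun y hy => ⟨g.symm y, ⟨(hB _).1 (by simpa using hy.1), by
      rw [← h]; simpa using hy.2⟩, by simp⟩

theorem iff_of_map {B : Set V} (hB : ∀ g ∈ K, ∀ y ∈ B, g y ∈ B) {g : V ≃ₗ[F] V} (hg : g ∈ K)
    (y : V) : g y ∈ B ↔ y ∈ B :=
  ⟨fun h => by simpa using hB _ (K.inv_mem hg) _ h, hB g hg y⟩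

end H51.KL
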