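/- A12SYL: ports of the jobs C6 and F3 of the tower R7 to a group in which `t 0` may be central. -/
import Cfsg.Agent.H10.R7B
import Cfsg.Agent.H77.R7F3

set_option autoImplicit false
set_option linter.unusedSectionVars false

namespace H51.OX7

open Subgroup Cfsg H98 H1.Gold H56 H58 H12.OW H27.R7 Module QuadraticMap Finset

universe u

/-- `H27.R7.OF` with the transitivity inside `C(t 0)` only. -/
structure OX {G : Type u} [Group G] (S M : Subgroup G) (t : Fin 7 → G) : Prop where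
  syl : IsSyl 2 S ⊤
  card : Nat.card S = 512
  sq : ∀ i, t i * t i = 1
  com : ∀ i j, t i * t j = t j * t i
  prod : t 0 * t 1 * t 2 * t 3 * t 4 * t 5 * t 6 = 1
  tr : ∀ {k l : Fin 6}, k ≠ l →
    ∃ g ∈ cen1 (t 0), g * t 1 * g⁻¹ = t k.succ ∧ g * t 2 * g⁻¹ = t l.succ
  ne0 : t 0 ≠ 1
  nc : ∀ k : Fin 6, ¬ IsConj (t k.succ) (t k.succ * t 0)
  Mc : M ≤ cen1 (t 0)
  cM : cen1 (t 0) ≤ nor M
  cc : cen1 (t 0) ⊓ cen M ≤ zpowers (t 0)
  tt : ∀ i j, i ≠ 0 → j ≠ 0 → t i * t j ∈ M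
  t1 : t 1 ∉ M
  SM : S ≤ M ⊔ zpowers (t 1)

variable {F V : Type} [Field F] [Finite F] [AddCommGroup V] [Module F V] [FiniteDimensional F V]
  {Q : QuadraticForm F V} {G : Type u} [Group G] {S M : Subgroup G} {t : Fin 7 → G} {c : F}
  {e : Fin 6 → V} {ψ : Om Q ≃* M}

theorem OX.t0_eq (h : OX S M t) : t 0 = t 1 * t 2 * (t 3 * t 4) * (t 5 * t 6) := by
  rw [← mul_one (t 0), ← h.prod]
  simp only [← mul_assoc, h.sq, one_mul]

theorem OX.t0_mem (h : OX S M t) : t 0 ∈ M := by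
  rw [h.t0_eq]
  exact mul_mem (mul_mem (h.tt _ _ (by decide) (by decide)) (h.tt _ _ (by decide) (by decide)))
    (h.tt _ _ (by decide) (by decide))

theorem OX.t_cen (h : OX S M t) (i : Fin 7) : t i ∈ cen1 (t 0) :=
  mem_centralizer_singleton_iff.2 (h.com i 0)

section C6

open H10.R7C

theorem exists_val (hF : Frm Q c e) (hA : Au Q) (h : OX S M t) (ψ0 : Om Q ≃* M) :
    ∃ ψ : Om Q ≃* M, ∀ k l : Fin 6, ∀ y : Om Q, (y : O Q) = refl Q (e k) * refl Q (e l) →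
      (ψ y : G) = t k.succ * t l.succ := by
  have gd := H59.OW.gd hF.nd hF.two
  obtain ⟨x, hx⟩ : ∃ x : Fin 6 → Fin 6 → Om Q, ∀ k l, (ψ0 (x k l) : G) = t k.succ * t l.succ :=
    ⟨fun k l => ψ0.symm ⟨_, h.tt _ _ k.succ_ne_zero l.succ_ne_zero⟩, fun k l => by simp⟩
  have inj : ∀ {a b : Om Q}, (ψ0 a : G) = ψ0 b → (a : O Q) = b := fun e =>
    congrArg Subtype.val (ψ0.injective (Subtype.ext e))
  have xm : ∀ k l, (x 0 k : O Q) * x 0 l = x k l := fun k l => inj (a := x 0 k * x 0 l) (by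
    rw [map_mul, Subgroup.coe_mul, hx, hx, hx, h.com _ k.succ, mul_assoc, ← mul_assoc _ _ (t l.succ), h.sq,
      one_mul])
  obtain ⟨b, hb, hd⟩ := hF.dim ▸ gd.diag (closure (Set.range fun k => (x 0 k : O Q))) (sq_closure
    (by rintro _ ⟨k, rfl⟩; exact (xm k k).trans (inj (b := 1) (by simp [hx, h.sq])))
    (by rintro _ ⟨k, rfl⟩ _ ⟨l, rfl⟩; simp only [xm]; exact inj (by rw [hx, hx, h.com])))
  choose ε hε using fun k => hd _ (subset_closure ⟨k, rfl⟩)
  have dg : ∀ k l, IsDg Q b (ε k + ε l) (x k l) := fun k l => xm k l ▸ (hε k).mul (hε l)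
  have hz : (ψ0 (x 0 1 * x 2 3 * x 4 5) : G) = t 0 := by
    rw [map_mul, map_mul, Subgroup.coe_mul, Subgroup.coe_mul, hx, hx, hx, h.t0_eq]; rfl
  have neg : ((x 0 1 * x 2 3 * x 4 5 : Om Q) : O Q) = O.negOne Q := by
    generalize x 0 1 * x 2 3 * x 4 5 = z at hz
    refine ((H59.OW.gs hF.nd hF.two).cen (by simp [hF.dim]) z fun y hy => ?_).resolve_left fun k => ?_
    · refine inj (a := z * ⟨y, hy⟩) (b := ⟨y, hy⟩ * z) ?_
      rw [map_mul, map_mul, Subgroup.coe_mul, Subgroup.coe_mul, hz]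
      exact (mem_centralizer_singleton_iff.1 (h.Mc (ψ0 _).2)).symm
    · exact h.ne0 (by rw [← hz, show z = 1 from Subtype.ext k]; simp)
  have sum := IsDg.inj hF.two (((dg 0 1).mul (dg 2 3)).mul (dg 4 5)) (neg.symm ▸ isDg_neg)
  obtain ⟨π, hπ⟩ := comb ε (x 0 1 : O Q).rk (fun j => by
      rw [Fin.sum_univ_six, ← show _ = (1 : ZMod 2) from congrFun sum j]
      simp only [Pi.add_apply, add_assoc]) fun k l kl => by
    obtain ⟨g, hg, h1, h2⟩ := h.tr kl
    obtain ⟨T, hT⟩ := exists_act hA ψ0 (h.cM hg)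
    rw [← rk_wt hF hb (dg k l), hT.val (x := x 0 1) (y := x k l) (by
      rw [hx, hx, ← h1, ← h2]; simp [mul_assoc]), (H59.OW.gt hF.nd hF.two).rk_conj]
  have ne := gd.ne _ b hb
  have xr : ∀ k l, (x k l : O Q) = refl Q (b (π k)) * refl Q (b (π l)) := fun k l =>
    (hπ k l ▸ dg k l).eq ((isDg_refl hb (ne _)).mul (isDg_refl hb (ne _)))
  choose a ha ha' using fun k => (sqcl_eq_iff (ne (π k)) (ne (π 0))).1 (by
    have := congrArg Prod.snd (ab_of_mem hF.nd (x k 0).2)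
    rw [xr, map_mul, ab_refl _ (ne _), ab_refl _ (ne _)] at this
    exact (eq_inv_of_mul_eq_one_left this).trans (SqCl.inv_eq _))
  obtain ⟨T, hT⟩ := frm_sim (f := fun k => a k • b (π k)) hF ⟨hF.two, hF.nd, ne (π 0),
    fun k => by rw [QuadraticMap.map_smul, ha' k, smul_eq_mul], fun i j n => by
      rw [polar_smul_left, polar_smul_right, hb _ _ (π.injective.ne n)]; simp, hF.dim⟩
  refine ⟨(cjO T).trans ψ0, fun k l y hy => ?_⟩
  rw [← hx, show x k l = cjO T y from Subtype.ext ?_]; · rfl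
  change _ = Gam.conjO Q T y
  rw [hy, map_mul, Gam.conjO_refl, Gam.conjO_refl, hT, hT, refl_smul (ha k), refl_smul (ha l), xr]

theorem c6 (hq : Nat.card F % 8 = 3 ∨ Nat.card F % 8 = 5) (hF : Frm Q c e) (hA : Au Q) (h : OX S M t)
    (val : ∀ k l : Fin 6, ∀ y : Om Q, (y : O Q) = refl Q (e k) * refl Q (e l) →
      (ψ y : G) = t k.succ * t l.succ) : C6 Q e M t ψ := by
  obtain ⟨b, rfl, hb⟩ := frm_basis hF
  have ne := (H59.OW.gd hF.nd hF.two).ne _ b hb
  let rr : Fin 6 → Fin 6 → Om Q := fun k l =>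
    ⟨_, refl_mul_refl_mem_commutator hF.nd (ne k) (ne l) (by rw [hF.norm, hF.norm])⟩
  have hr : ∀ k l, (ψ (rr k l) : G) = t k.succ * t l.succ := fun k l => val k l _ rfl
  have dr : ∀ k l, IsDg Q b (dl k + dl l) (rr k l) := fun k l =>
    (isDg_refl hb (ne _)).mul (isDg_refl hb (ne _))
  obtain ⟨T, hT⟩ := exists_act hA ψ (h.cM (h.t_cen 1))
  have hσ : T.σ = 1 := aut_one hq ((H59.OW.gs hF.nd hF.two).cs ∅ ⟨Set.finite_empty, by simp, by simp⟩
    (by simp [hF.dim]) (T * T) fun x hx => Or.inl ((h.sq 1 ▸ hT.mul hT).triv x hx.1)).1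
  have ln : ∀ i, T (b i) = b.repr (T (b i)) i • b i := fun i => b.ext_elem fun m => by
    by_cases mi : m = i
    · simp [mi]
    obtain ⟨j, h1, h2⟩ : ∃ j, (dl i + dl j) i ≠ 0 ∧ (dl i + dl j) m = 0 := by
      clear * - mi; revert i m; decide +kernel
    have k1 := hT.val (x := rr i j) (y := rr i j) (by
      rw [hr, mul_inv_eq_iff_eq_mul, ← mul_assoc, h.com 1, mul_assoc, h.com 1, mul_assoc])
    have k2 : (rr i j : O Q) (T (b i)) = -T (b i) := by
      rw [k1, Gam.conjO_apply, Gam.inv_apply_apply, dr i j i, if_neg h1]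
      exact map_neg T.toEquiv _
    have k3 := (dr i j).repr (T (b i)) m
    rw [k2, if_pos h2, map_neg, Finsupp.neg_apply, neg_eq_iff_add_eq_zero, ← two_mul] at k3
    simp [(mul_eq_zero.1 k3).resolve_left hF.two, Ne.symm mi]
  have hc : (T.c : F) = b.repr (T (b 0)) 0 ^ 2 := by
    have := Gam.map_Q_of hσ (b 0)
    rw [ln, QuadraticMap.map_smul, smul_eq_mul] at this
    rw [pow_two, mul_right_cancel₀ (ne 0) this]
  obtain ⟨s, D, hD⟩ : ∃ s D, T = Gam.sc Q s * Gam.ofO Q D :=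
    ⟨_, Gam.exists_eq_sc_mul hσ (s := Units.mk0 _ fun k => T.c.ne_zero (by simp [hc, k])) hc⟩
  obtain ⟨w, hw⟩ := isDg_of_smul (h := D) ne fun j => ⟨(s⁻¹ : Fˣ) * b.repr (T (b j)) j, by
    rw [mul_smul, ← ln, hD, Gam.mul_apply, Gam.sc_apply, Gam.ofO_apply, smul_smul]; simp⟩
  have h1 : Act ψ (t 1) (Gam.ofO Q D) := hT.congr fun x _ => by rw [hD, map_mul, Gam.conjO_sc, one_mul]
  have hk : ∀ k : Fin 6, Act ψ (t k.succ) (Gam.ofO Q (D * rr 0 k)) := fun k => by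
    have := h1.mul (act_self (rr 0 k))
    rwa [hr, ← map_mul, show t (Fin.succ 0) = t 1 from rfl, ← mul_assoc, h.sq, one_mul] at this
  have hD' : D = refl Q (b 0) ∨ D = O.negOne Q * refl Q (b 0) := by
    refine ((comb2 w fun k => ?_).resolve_left fun ev => ?_).imp (fun k => (k ▸ hw).eq (isDg_refl hb (ne 0)))
      fun k => (k ▸ hw).eq (isDg_neg.mul (isDg_refl hb (ne 0)))
    · obtain ⟨l, hl⟩ := exists_ne k
      obtain ⟨g, hg, e1, -⟩ := h.tr hl.symm
      obtain ⟨T', hT'⟩ := exists_act hA ψ (h.cM hg)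
      have := (hT'.mul h1).mul hT'.inv
      rw [e1, ← Gam.ofO_conjO] at this
      rw [← rk_wt hF hb hw, ← (H59.OW.gt hF.nd hF.two).rk_conj T' D, ← rk_wt hF hb (hw.mul (dr 0 k)),
        ← rk_wt hF hb (isDg_neg.mul (hw.mul (dr 0 k)))]
      exact (this.pm hF (hk k)).imp (fun e => by rw [e]) fun e => by rw [e]
    · have hD : D ∈ Om Q := (mem_Om_iff hF.nd hF.two).2 (by
        obtain ⟨m, hm⟩ := ev
        rw [(H59.OW.gd hF.nd hF.two).ab_dg _ b hb w D hw]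
        simp only [hF.norm, prod_const]
        rw [show Finset.card _ = m + m from hm ▸ by unfold wt; congr, pow_add, cl_mul_self])
      have k := h1.mul (act_self (ψ := ψ) ⟨D, hD⟩).inv
      rw [mul_inv_cancel] at k
      refine h.t1 ((mul_mem_cancel_right (inv_mem (ψ ⟨D, hD⟩).2)).1 (zpowers_le.2 (h.t0_mem) (h.cc
        ⟨(cen1 (t 0)).mul_mem (h.t_cen 1) (inv_mem (h.Mc (ψ _).2)), fun m hm => ?_⟩)))
      have := k (ψ.symm ⟨m, hm⟩) (ψ.symm ⟨m, hm⟩) (by simp)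
      rw [MulEquiv.apply_symm_apply] at this
      exact (mul_inv_eq_iff_eq_mul.1 this).symm
  refine ⟨fun k x y e => hk k x y ?_, fun k l _ => val k l⟩
  have : refl Q (b 0) * rr 0 k = refl Q (b k) := by
    change _ * (_ * _) = _
    rw [← mul_assoc, refl_mul_self, one_mul]
  rw [Gam.conjO_ofO, e]
  rcases hD' with rfl | rfl
  · rw [this, refl_inv]
  · rw [mul_assoc (O.negOne Q), this, mul_inv_rev, refl_inv, negOne_inv, ← mul_assoc, negOne_comm,
      ← mul_assoc, ← mul_assoc, ← mul_assoc, O.negOne_mul_self, one_mul]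

end C6

section F3

open H77.R7F3

theorem same (o : OX S M t) {h h' : G} {T : Gam Q} (a : Act ψ h T) (a' : Act ψ h' T)
    (c : h ∈ cen1 (t 0)) (c' : h' ∈ cen1 (t 0)) : h' = h ∨ h' = h * t 0 := by
  refine (zp2 (o.sq 0) (o.cc (mem_inf.2 ⟨mul_mem (inv_mem c) c', fun m hm => ?_⟩))).imp
    (fun e => (inv_mul_eq_one.1 e).symm) fun e => by rw [← e, mul_inv_cancel_left]
  have := (a.inv.mul a') (ψ.symm ⟨m, hm⟩) (ψ.symm ⟨m, hm⟩) (by simp)
  rw [MulEquiv.apply_symm_apply, mul_inv_eq_iff_eq_mul] at this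
  exact this.symm

theorem exists_act' (o : OX S M t) (au : Au Q) {h : G} (c : h ∈ cen1 (t 0)) : ∃ T, Act ψ h T := by
  obtain ⟨T, hT⟩ := au (ψ.trans ((M.normalizerMonoidHom ⟨h, o.cM c⟩ : M ≃* M).trans ψ.symm))
  refine ⟨T, fun x y e => ?_⟩
  rw [← hT] at e
  rw [Subtype.ext e]
  simp


variable [Finite G]

section
variable (o : OX S M t)
include o

theorem card2 : Nat.card ↥(M ⊔ zpowers (t 1)) = 2 * Nat.card M :=
  have : Fact (Nat.Prime 2) := ⟨Nat.prime_two⟩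
  H9.card_sup_zpowers_of_normalizes (o.cM (o.t_cen 1)) o.t1 (by rw [pow_two, o.sq]; exact one_mem _)

theorem fac : (Nat.card M).factorization 2 = 8 := by
  have : Fact (Nat.Prime 2) := ⟨Nat.prime_two⟩
  have h := (o.syl.of_le o.SM le_top).card_eq
  rw [o.card, card2 o, Nat.factorization_mul (by decide) Nat.card_pos.ne', Finsupp.add_apply,
    Nat.prime_two.factorization_self, show 512 = 2 ^ 9 from rfl] at h
  have := Nat.pow_right_injective le_rfl h
  omega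

theorem big (X : Subgroup G) : Nat.card X ≠ 2 * (2 * Nat.card M) := fun e => by
  have : Fact (Nat.Prime 2) := ⟨Nat.prime_two⟩
  have h := o.syl.card_eq
  rw [o.card, show 512 = 2 ^ 9 from rfl] at h
  have h1 : 2 ^ 8 ∣ Nat.card M := fac o ▸ Nat.ordProj_dvd _ _
  have h2 : 2 ^ 10 ∣ Nat.card (⊤ : Subgroup G) :=
    (e ▸ Nat.mul_dvd_mul_left 2 (Nat.mul_dvd_mul_left 2 h1) :).trans (card_dvd_of_le (H := X) le_top)
  have := (Nat.prime_two.pow_dvd_iff_le_factorization Nat.card_pos.ne').1 h2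
  have := Nat.pow_right_injective le_rfl h
  omega

end

theorem f3 (fr : Frm Q c e) (au : Au Q) (o : OX S M t) (c6 : C6 Q e M t ψ) : Fr3 M t := fun h hh => by
  have : Fact (Nat.Prime 2) := ⟨Nat.prime_two⟩
  have gs := H59.OW.gs fr.nd fr.two
  have gt := H59.OW.gt fr.nd fr.two
  have d3 : 3 ≤ finrank F V := by rw [fr.dim]; decide
  have at' : ∀ k : Fin 6, Act ψ (t k.succ) (Gam.ofO Q (refl Q (e k))) := fun k x y hy =>
    c6.act k x y (by rw [hy, Gam.conjO_ofO, refl_inv])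
  obtain ⟨T, hT⟩ := exists_act' (ψ := ψ) o au hh
  have a1 : Act ψ (t 1) _ := at' 0
  have a2 := hT.conj a1
  have c2 : h * t 1 * h⁻¹ ∈ cen1 (t 0) := mul_mem (mul_mem hh (o.t_cen 1)) (inv_mem hh)
  have s2 : h * t 1 * h⁻¹ * (h * t 1 * h⁻¹) = 1 := by rw [conj_mul, o.sq]; simp
  have n2 : h * t 1 * h⁻¹ ∉ M := fun k => o.t1 ((mem_normalizer_iff.1 (o.cM hh) _).2 k)
  generalize h * t 1 * h⁻¹ = s at a2 c2 s2 n2
  have m1 : s ∈ M ⊔ zpowers (t 1) := by
    by_contra k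
    have y : refl Q (e 0) * refl Q (T (e 0)) * (refl Q (e 0) * refl Q (T (e 0))) ∈ Om Q := by
      have := commutator_mem_commutator (mem_top (refl Q (e 0))) (mem_top (refl Q (T (e 0))))
      rwa [commutatorElement_def, refl_inv, refl_inv, mul_assoc] at this
    have a3 := (a1.mul a2).mul (a1.mul a2)
    rw [← map_mul, ← map_mul] at a3
    have c3 := mul_mem (o.t_cen 1) c2
    have m2 : t 1 * s * (t 1 * s) ∈ M := by
      rcases same o (act_ψ ⟨_, y⟩) a3 (o.Mc (ψ _).2) (mul_mem c3 c3) with k | k <;> rw [k]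
      exacts [(ψ _).2, mul_mem (ψ _).2 (o.t0_mem)]
    refine big o _ ((H9.card_sup_zpowers_of_normalizes (p := 2) ?_ k
      (by rw [pow_two, s2]; exact one_mem _)).trans (by rw [card2 o]))
    refine mem_normalizer_of_cj_le (cj_le_iff.2 (sup_le (cj_le_iff.1 ?_) (zpowers_le.2 ?_)))
    · exact (cj_eq_self (o.cM c2)).le.trans le_sup_left
    · rw [mem_cj, inv_inv, inv_eq_of_mul_eq_one_right s2,
        show s * t 1 * s = t 1 * (t 1 * s * (t 1 * s)) by
          rw [← mul_assoc, ← mul_assoc, ← mul_assoc, o.sq, one_mul]]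
      exact mul_mem (mem_sup_right (mem_zpowers _)) (mem_sup_left m2)
  have m3 : s * t 1 ∈ M := by
    obtain ⟨a, ha, k, rfl⟩ := (H9.mem_sup_zpowers_of_normalizes (o.cM (o.t_cen 1))).1 m1
    rcases zp2 (o.sq 1) (zpow_mem (mem_zpowers (t 1)) k) with k | k <;> rw [k] at n2 ⊢
    · exact absurd (by simpa using ha) n2
    · rwa [mul_assoc, o.sq, mul_one]
  have neg : O.negOne Q ∈ Om Q := by
    refine ((gs.cen d3 (ψ.symm ⟨_, o.t0_mem⟩ : Om Q) fun x hx => ?_).resolve_left fun k =>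
      o.ne0 ?_) ▸ (ψ.symm ⟨_, o.t0_mem⟩).2
    · refine congrArg Subtype.val (ψ.injective (a₁ := ψ.symm ⟨_, o.t0_mem⟩ * ⟨x, hx⟩)
        (a₂ := ⟨x, hx⟩ * ψ.symm ⟨_, o.t0_mem⟩) (Subtype.ext ?_))
      simpa using (mem_centralizer_singleton_iff.1 (o.Mc (ψ ⟨x, hx⟩).2)).symm
    · simpa using congrArg (fun x => (ψ x : G)) (Subtype.ext k : ψ.symm ⟨_, o.t0_mem⟩ = 1)
  have m4 : refl Q (T (e 0)) * refl Q (e 0) ∈ Om Q := by
    have a3 := a2.mul a1
    have a4 := act_ψ (ψ := ψ) (ψ.symm ⟨_, m3⟩)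
    rw [MulEquiv.apply_symm_apply] at a4
    rw [← map_mul] at a3
    refine (mul_mem_cancel_left (inv_mem (ψ.symm ⟨_, m3⟩).2)).1 ?_
    rcases gs.cen d3 _ (a4.uniq a3) with k | k
    exacts [k.symm ▸ one_mem _, k.symm ▸ neg]
  have q0 : ∀ k, Q (T (e k)) = Q (T (e 0)) := fun k => by rw [T.map_Q, T.map_Q, fr.norm, fr.norm]
  obtain ⟨a, a0, ha⟩ : ∃ a : F, a ≠ 0 ∧ Q (T (e 0)) = a * a * c := by
    have := ((mem_commutator_iff_of_two_ne fr.nd fr.two _).1 m4).2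
    rw [map_mul, spinor_refl, spinor_refl, fr.norm, mul_eq_one_iff_eq_inv, SqCl.inv_eq] at this
    exact (sqcl_eq_iff fr.ne (mt T.Q_apply_eq_zero.1 (fr.norm 0 ▸ fr.ne))).1 this.symm
  have qu : ∀ k, Q (a⁻¹ • T (e k)) = c := fun k => by
    rw [Q.map_smul, q0, ha, smul_eq_mul]; field_simp
  obtain ⟨g, hg, hge⟩ := gt.trf 3 (fun k => a⁻¹ • T (e (k.castLE (by decide))))
    (fun k => e (k.castLE (by decide))) (by rw [fr.dim]; decide) (fun k => by rw [qu]; exact fr.ne)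
    (fun k => by rw [qu, fr.norm]) (fun i j hij => by
      rw [polar_smul_left, polar_smul_right, T.polar_apply_eq_zero.2
        (fr.orth _ _ ((Fin.castLE_injective _).ne hij))]
      simp) fun i j hij => fr.orth _ _ ((Fin.castLE_injective _).ne hij)
  have c4 := mul_mem (o.Mc (ψ ⟨g, hg⟩).2) hh
  refine ⟨ψ ⟨g, hg⟩, (ψ _).2, fun k hk => ?_⟩
  rcases Fin.eq_zero_or_eq_succ k with rfl | ⟨k, rfl⟩
  · exact mem_centralizer_singleton_iff.1 c4
  have a5 := ((act_ψ ⟨g, hg⟩).mul hT).conj (at' k)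
  have e5 : (Gam.ofO Q g * T) (e k) = a • e k := by
    have := hge ⟨k, by simp at hk; omega⟩
    rw [map_smul] at this
    exact (inv_smul_eq_iff₀ a0).1 this
  rw [e5, refl_smul a0] at a5
  rcases same o (at' k) a5 (o.t_cen _) (mul_mem (mul_mem c4 (o.t_cen _)) (inv_mem c4)) with k' | k'
  · exact mul_inv_eq_iff_eq_mul.1 k'
  · exact absurd (isConj_iff.2 ⟨_, k'⟩) (o.nc k)

end F3

end H51.OX7
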