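/- Tower EA (S4546, S4577), job Quo: the dominated block of a major subsection. -/
import Cfsg.Agent.H68.EaSpec

set_option autoImplicit false
set_option linter.unusedSectionVars false

open scoped MonoidAlgebra ComplexConjugate

namespace H51.EA

open Cfsg H28 H34 H35 H36 H39 Subgroup H24.Ols H24.KB

universe u

variable {G : Type u} [Group G] [Fintype G] {p : ℕ} {M : Ideal AlgInt} [M.IsMaximal]
  {B : Set (IrrCharacter G)} {D : Subgroup G} {e : (F M)[G]}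

theorem lat_up {Q : Type u} [Group Q] [Fintype Q] {π : G →* Q}
    (hM : IsPModular p M) (hB : IsPBlock M B) (hπ : H41.PCQ p π) (hc : π.ker ≤ center G)
    (v : G → ℂ) (hv : v ∈ LB p B) :
    ∃ w ∈ LB p (H41.qb hπ.surj B), QB p B v v = QB p (H41.qb hπ.surj B) w w := by
  obtain ⟨θ, h1, h2, rfl⟩ := exists_genChar_of_mem_LB hv
  obtain ⟨θ', h3, h4⟩ := H39.KB.jobDS G Q p π θ hM.1 hπ.surj hπ.pk hc h1
  have h5 : pRegularPart p θ = pRegularPart p fun g =>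
      pRegularPart p (blockPart (H41.qb hπ.surj B) θ') (π g) := by
    rw [← h2.blockPart_eq_self, ← blockPart_pReg hM hB, (pReg_eq_pReg_iff (ψ := fun g => θ' (π g))).2
      fun y hy => (h4 y hy).symm, blockPart_pReg hM hB]
    exact pReg_eq_pReg_iff.2 fun y hy => by
      rw [pReg_of_reg _ (H41.not_dvd_orderOf_map π hy), H41.blockPart_comp hπ.surj B h3.isClassFunction]
  exact ⟨_, mem_LB_blockPart h3, by rw [h5, QB_comp hM hπ hB (pReg_pReg _)]⟩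

theorem aux (h : BD p M B D e) {z : D} (hz : z ∈ center D) [Fintype (Cen (zpowers (z : G)))]
    {b : Set (IrrCharacter (Cen (zpowers (z : G))))} (hi : IsPBlock M b)
    (h3 : eS M _ b = subP p D e (zpowers (z : G))) :
    ∃ (Q : Type u) (_ : Group Q) (_ : Fintype Q) (c : Set (IrrCharacter Q))
      (E : Subgroup Q) (f : (F M)[Q]) (π : D →* E), BD p M c E f ∧ Qt π z ∧
        Lifts π z (AI ⊤ D e) (AI ⊤ E f) ∧
        (∀ φ ∈ AI ⊤ D e, φ z = z → ∃ ψ ∈ AI ⊤ E f, ∀ x, π (φ x) = ψ (π x)) ∧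
        blockRank p c = blockRank p b ∧
        ∀ v ∈ LB p b, ∃ w ∈ LB p c, QB p b v v = QB p c w w := by
  have := Fact.mk h.hM.1
  have := charP_F h.hM
  have h1 := H34.Kb.le_cen_of_center hz
  have h2 := h.hm.local_of_le_cen (h.sub z.2) h1
  rw [top_inf_eq] at h2
  have hC : ∀ g, g ∈ Cen (zpowers (z : G)) ↔ g * z * g⁻¹ = z := fun g =>
    ⟨fun hg => cen_conj_eq hg (mem_zpowers _), fun hg => by
      rintro _ ⟨k, rfl⟩
      exact ((Commute.zpow_right (mul_inv_eq_iff_eq_mul.1 hg) k).eq).symm⟩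
  generalize Cen (zpowers (z : G)) = C at *
  obtain ⟨f, h4, h5, h6⟩ := down h.hM h2
  rw [← eS_inj hi h5.hB (h3.trans h4)] at h5
  let Z : Subgroup C := zpowers ⟨z, h1 z.2⟩
  have hZ : Z ≤ center C := zpowers_le.2
    (mem_center_iff.2 fun g => Subtype.ext (mul_inv_eq_iff_eq_mul.1 ((hC g).1 g.2)))
  have : Z.Normal := ⟨fun n hn g => by rwa [mem_center_iff.1 (hZ hn) g, mul_inv_cancel_right]⟩
  have := Fintype.ofFinite (C ⧸ Z)
  have hq := H41.pcq_of_le_center (h5.hm.bp.pQ.to_le (zpowers_le.2 z.2)) hZ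
  have hk := QuotientGroup.ker_mk' Z
  generalize QuotientGroup.mk' Z = π at hq hk
  obtain ⟨f', h7, h8, h8'⟩ := exists_bd_quot' hq h5
  let ι := (subgroupOfEquivOfLe h1).symm
  refine ⟨_, _, this, _, _, f', (π.subgroupMap _).comp ι.toMonoidHom, h7,
    ⟨hz, (π.subgroupMap_surjective _).comp ι.surjective, Subgroup.ext fun y => ?_⟩,
    fun ψ hψ => ?_, fun φ hφ hφz => ?_, hq.blockRank_qb h.hM hi,
    lat_up h.hM hi hq (hk ▸ hZ)⟩
  · rw [MonoidHom.mem_ker, Subtype.ext_iff, ← mem_zpowers_coe]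
    exact (SetLike.ext_iff.1 hk ⟨y, h1 y.2⟩).trans
      (mem_zpowers_coe (D := C) (u := ⟨y, h1 y.2⟩) (v := ⟨z, h1 z.2⟩)).symm
  · obtain ⟨g, h9, h10⟩ := mem_AI.1 hψ
    obtain ⟨g, rfl⟩ := hq.surj g
    obtain ⟨t, h11, h12⟩ := h8 g h9
    have h13 := (h6 t).1 h11
    obtain ⟨φ, h14, h15⟩ := exists_AI (C := ⊤) (D := D) (e := e) ⟨⟨trivial, h13.1.2⟩, h13.2⟩
    refine ⟨φ, h14, Subtype.ext ((h15 z).trans ((hC t).1 t.2)), fun y => Subtype.ext ?_⟩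
    rw [h10]
    change π ⟨φ y, h1 (φ y).2⟩ = π g * π ⟨y, h1 y.2⟩ * (π g)⁻¹
    rw [show (⟨φ y, h1 (φ y).2⟩ : C) = t * ⟨y, h1 y.2⟩ * t⁻¹ from Subtype.ext (h15 y), map_mul,
      map_mul]
    conv_lhs => rw [← cen_conj_eq h12 (mem_map_of_mem π (x := ⟨y, h1 y.2⟩) y.2)]
    simp only [map_mul, map_inv]
    group
  · obtain ⟨g, h9, h10⟩ := mem_AI.1 hφ
    have hg : g ∈ C := (hC g).2 ((h10 z).symm.trans (congrArg Subtype.val hφz))
    obtain ⟨ψ, h11, h12⟩ := exists_AI (h8' ⟨g, hg⟩ ((h6 ⟨g, hg⟩).2 ⟨⟨hg, h9.1.2⟩, h9.2⟩))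
    refine ⟨ψ, h11, fun y => Subtype.ext ?_⟩
    rw [h12]
    change π ⟨φ y, h1 (φ y).2⟩ = π ⟨g, hg⟩ * π ⟨y, h1 y.2⟩ * (π ⟨g, hg⟩)⁻¹
    rw [show (⟨φ y, h1 (φ y).2⟩ : C) = ⟨g, hg⟩ * ⟨y, h1 y.2⟩ * ⟨g, hg⟩⁻¹ from Subtype.ext (h10 y),
      map_mul, map_mul, map_inv]

theorem jobQuo : H68.EA.JobQuo.{u} := fun _ _ _ _ _ _ _ _ _ h z hz =>
  @aux _ _ _ _ _ _ _ _ _ h z hz (SS.instFintypeC (h.s z)) _ (h.s z).ind.1 (h.s_e z)

end H51.EA
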