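import Cfsg.Agent.H51.KLGram
import Cfsg.Agent.H53.CKMain

/-! Translation between double cosets and geometry for the tower KL. -/

set_option autoImplicit false

namespace H51.KL

open Module Submodule H53.CK

universe u v

structure Jobs : Prop where
  dcj : JobDC.{u, v}
  idx : JobIdx.{u, v}
  line : JobLine.{u, v}
  div : JobDiv.{u, v}
  a : JobA.{u, v}
  mom : JobMom.{u, v}
  bor : JobBor.{u, v}
  d10 : JobD10.{u, v}
  pol : JobPol.{u, v}
  ic : JobIc.{u, v}
  af : JobAF.{u, v}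
  sp : JobSp.{u, v}
  f4 : JobF4.{u, v}
  ar : JobAr

variable {F : Type u} [Field F] {V : Type v} [AddCommGroup V] [Module F V]

theorem stabSub_le (S : Subgroup (V ≃ₗ[F] V)) (U : Submodule F V) : stabSub S U ≤ S :=
  fun _ h => h.1

theorem symm_mem_span {g : V ≃ₗ[F] V} {s : Set V} {w : V} :
    g⁻¹ w ∈ span F s ↔ w ∈ span F (g '' s) := by
  rw [show (g : V → V) '' s = (g : V →ₗ[F] V) '' s from rfl, span_image, mem_map_equiv]
  rfl

theorem tl_map {K : Subgroup (V ≃ₗ[F] V)} {k : V ≃ₗ[F] V} (hk : k ∈ K) (x y : V) :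
    Tl K (k x) (k y) = Tl K x y := by
  ext t
  constructor
  · rintro ⟨g, hg, h1, h2⟩
    refine ⟨k⁻¹ * g * k, K.mul_mem (K.mul_mem (K.inv_mem hk) hg) hk, ?_, ?_⟩
    · change k.symm (g (k x)) = x
      simp [h1]
    · change k.symm (g (k y)) = _
      simp [h2]
  · rintro ⟨g, hg, h1, h2⟩
    refine ⟨k * g * k⁻¹, K.mul_mem (K.mul_mem hk hg) (K.inv_mem hk), ?_, ?_⟩
    · change k (g (k.symm (k x))) = _
      simp [h1]
    · change k (g (k.symm (k y))) = _
      simp [h2]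

theorem exists_ind3 (h : 3 ≤ finrank F V) [FiniteDimensional F V] {x y : V} (hxy : Ind F x y) :
    ∃ z, Ind3 F x y z := by
  obtain ⟨z, -, hz⟩ := H62.exists_mem_notMem (W := (⊤ : Submodule F V)) (Z := span F {x, y}) (by
    have := H62.finrank_span_list_le (F := F) [x, y]
    rw [show {a | a ∈ [x, y]} = ({x, y} : Set V) by ext; simp] at this
    rw [finrank_top]
    simp only [List.length_cons, List.length_nil] at this
    omega)
  exact ⟨z, hxy, hz⟩

theorem span_eq_of_ind {x y a b : V} (h : Ind F a b) (ha : a ∈ span F {x, y})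
    (hb : b ∈ span F {x, y}) : span F {a, b} = span F ({x, y} : Set V) := by
  have h2 : finrank F (span F ({a, b} : Set V)) = 2 := by
    have := finrank_span_eq_card (H62.linearIndependent_pair_of_notMem h.1 h.2)
    rwa [Matrix.range_cons_cons_empty, Fintype.card_fin] at this
  have h3 := H62.finrank_span_list_le (F := F) [x, y]
  rw [show {a | a ∈ [x, y]} = ({x, y} : Set V) by ext; simp] at h3
  have : FiniteDimensional F (span F ({x, y} : Set V)) := .span_of_finite F (Set.toFinite _)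
  exact eq_of_le_of_finrank_le (span_le.2 (by rintro _ (rfl | rfl) <;> assumption))
    (by rw [h2]; exact h3)

variable [FiniteDimensional F V] {S K : Subgroup (V ≃ₗ[F] V)}

theorem mem_stab_span {s : Set V} {g : V ≃ₗ[F] V} :
    g ∈ stabSub S (span F s) ↔ g ∈ S ∧ ∀ v ∈ s, g v ∈ span F s := by
  rw [mem_stabSub]
  refine and_congr_right fun _ => ⟨fun h v hv => h v (subset_span hv), fun h v hv => ?_⟩
  exact (span_le (p := (span F s).comap (g : V →ₗ[F] V))).2 h hv

theorem mem_Pt {x : V} {g : V ≃ₗ[F] V} : g ∈ Pt S x ↔ g ∈ S ∧ g x ∈ F ∙ x := by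
  simp [Pt, mem_stab_span]

theorem mem_Ln {x y : V} {g : V ≃ₗ[F] V} :
    g ∈ Ln S x y ↔ g ∈ S ∧ g x ∈ span F {x, y} ∧ g y ∈ span F {x, y} := by
  simp [Ln, mem_stab_span]

theorem mem_Fl {x y : V} {g : V ≃ₗ[F] V} :
    g ∈ Fl S x y ↔ g ∈ S ∧ g x ∈ F ∙ x ∧ g y ∈ span F {x, y} := by
  rw [Fl, Subgroup.mem_inf, mem_Pt, mem_Ln]
  exact ⟨fun h => ⟨h.1.1, h.1.2, h.2.2.2⟩,
    fun h => ⟨⟨h.1, h.2.1⟩, h.1, span_mono (by simp) h.2.1, h.2.2⟩⟩

theorem Rl_le_Fl (x y : V) : Rl S x y ≤ Fl S x y := by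
  rintro g ⟨hg, c, h1, h2⟩
  exact mem_Fl.2 ⟨hg, h1 ▸ smul_mem _ _ (mem_span_singleton_self x),
    h2 ▸ smul_mem _ _ (subset_span (by simp))⟩

theorem Rl_le_Ln (x y : V) : Rl S x y ≤ Ln S x y := (Rl_le_Fl x y).trans inf_le_right

theorem Hl_le (x y : V) : Hl S K x y ≤ Ln S x y := sup_le inf_le_right (Rl_le_Ln x y)

omit [FiniteDimensional F V] in
theorem Rl_apply {x y : V} {g : V ≃ₗ[F] V} {c : F} (h1 : g x = c • x) (h2 : g y = c • y) {v : V}
    (hv : v ∈ span F {x, y}) : g v = c • v := by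
  obtain ⟨a, b, rfl⟩ := mem_span_pair.1 hv
  simp only [map_add, map_smul, h1, h2]
  module

omit [FiniteDimensional F V] in
theorem Rl_normal (x y : V) : ∀ p ∈ Ln S x y, ∀ r ∈ Rl S x y, p * r * p⁻¹ ∈ Rl S x y := by
  rintro p hp r ⟨hr, c, h1, h2⟩
  have hi := (Ln S x y).inv_mem hp
  have : ∀ v ∈ span F {x, y}, (p * r * p⁻¹) v = (c : F) • v := fun v hv => by
    rw [LinearEquiv.mul_apply, LinearEquiv.mul_apply, Rl_apply h1 h2 ((hi.2 v).2 hv), map_smul]
    change _ • p (p.symm v) = _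
    rw [p.apply_symm_apply]
  exact ⟨S.mul_mem (S.mul_mem hp.1 hr) (S.inv_mem hp.1), c, this x (subset_span (by simp)),
    this y (subset_span (by simp))⟩

omit [FiniteDimensional F V] in
theorem Hl_congr {x y a b : V} (h : span F {a, b} = span F ({x, y} : Set V)) :
    Ln S a b = Ln S x y ∧ Hl S K a b = Hl S K x y := by
  have h1 : Ln S a b = Ln S x y := by rw [Ln, Ln, h]
  have h2 : ∀ {x y a b : V}, span F {a, b} = span F ({x, y} : Set V) → Rl S x y ≤ Rl S a b := by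
    rintro x y a b h g ⟨hg, c, h1, h2⟩
    exact ⟨hg, c, Rl_apply h1 h2 (h ▸ subset_span (by simp)),
      Rl_apply h1 h2 (h ▸ subset_span (by simp))⟩
  exact ⟨h1, by rw [Hl, Hl, h1, le_antisymm (h2 h) (h2 h.symm)]⟩

theorem DC_Pt (hK : K ≤ S) {g g' : V ≃ₗ[F] V} (hg : g ∈ S) (hg' : g' ∈ S) {x : V} :
    DC K (Pt S x) g g' ↔ ∃ k ∈ K, k (g x) ∈ F ∙ g' x := by
  rw [DC_iff]
  refine exists_congr fun k => and_congr_right fun hk => ?_
  rw [mem_Pt, and_iff_right (S.mul_mem (S.mul_mem (S.inv_mem hg') (hK hk)) hg)]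
  simpa using symm_mem_span (g := g') (s := {x}) (w := k (g x))

theorem DC_Ln (hK : K ≤ S) {g g' : V ≃ₗ[F] V} (hg : g ∈ S) (hg' : g' ∈ S) {x y : V} :
    DC K (Ln S x y) g g' ↔ LnEq K (g x) (g y) (g' x) (g' y) := by
  rw [DC_iff]
  refine exists_congr fun k => and_congr_right fun hk => ?_
  rw [mem_Ln, and_iff_right (S.mul_mem (S.mul_mem (S.inv_mem hg') (hK hk)) hg),
    ← Set.image_pair, ← symm_mem_span, ← symm_mem_span]
  rfl

theorem DC_Fl (hK : K ≤ S) {g g' : V ≃ₗ[F] V} (hg : g ∈ S) (hg' : g' ∈ S) {x y : V} :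
    DC K (Fl S x y) g g' ↔ FlEq K (g x) (g y) (g' x) (g' y) := by
  rw [DC_iff]
  refine exists_congr fun k => and_congr_right fun hk => ?_
  rw [mem_Fl, and_iff_right (S.mul_mem (S.mul_mem (S.inv_mem hg') (hK hk)) hg),
    ← Set.image_pair, ← Set.image_singleton, ← symm_mem_span, ← symm_mem_span]
  rfl

/-- `K` induces the whole linear group on the line -/
def FullL (K : Subgroup (V ≃ₗ[F] V)) (x y : V) : Prop :=
  ∀ a b, Ind F a b → a ∈ span F {x, y} → b ∈ span F {x, y} → ∃ k ∈ K, k x = a ∧ k y = b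

theorem FullL.hl (hK : K ≤ S) {x y : V} (hxy : Ind F x y) (h : FullL K x y) :
    Hl S K x y = Ln S x y := by
  refine le_antisymm (Hl_le x y) fun p hp => ?_
  obtain ⟨h0, h1, h2⟩ := mem_Ln.1 hp
  obtain ⟨k, hk, e1, e2⟩ := h _ _ (hxy.map p) h1 h2
  rw [show p = k * (k⁻¹ * p) by group]
  refine Subgroup.mul_mem_sup ⟨hk, mem_Ln.2 ⟨hK hk, e1 ▸ h1, e2 ▸ h2⟩⟩
    ⟨S.mul_mem (S.inv_mem (hK hk)) h0, 1, ?_, ?_⟩
  · change k.symm (p x) = _
    simp [← e1]
  · change k.symm (p y) = _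
    simp [← e2]

omit [FiniteDimensional F V] in
theorem FullL.cj {g : V ≃ₗ[F] V} {x y : V} :
    FullL (cj K g) x y ↔ FullL K (g x) (g y) := by
  constructor
  · intro h a b hab ha hb
    rw [← Set.image_pair, ← symm_mem_span] at ha hb
    obtain ⟨k, hk, h1, h2⟩ := h _ _ (hab.map g⁻¹) ha hb
    refine ⟨_, hk, ?_, ?_⟩
    · change g (k (g.symm (g x))) = a
      rw [g.symm_apply_apply, h1]
      exact g.apply_symm_apply a
    · change g (k (g.symm (g y))) = b
      rw [g.symm_apply_apply, h2]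
      exact g.apply_symm_apply b
  · intro h a b hab ha hb
    obtain ⟨k, hk, h1, h2⟩ := h _ _ (hab.map g)
      (by rw [← Set.image_pair, ← symm_mem_span]; exact (g.symm_apply_apply a).symm ▸ ha)
      (by rw [← Set.image_pair, ← symm_mem_span]; exact (g.symm_apply_apply b).symm ▸ hb)
    refine ⟨g⁻¹ * k * g, by simpa [mem_cj, mul_assoc] using hk, ?_, ?_⟩
    · change g.symm (k (g x)) = a
      simp [h1]
    · change g.symm (k (g y)) = b
      simp [h2]

omit [FiniteDimensional F V] in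
theorem PrEq.symm {x y a b : V} (hx : x ≠ 0) (hy : y ≠ 0) (h : PrEq K x y a b) :
    PrEq K a b x y := by
  obtain ⟨k, hk, h1, h2⟩ := h
  have : ∀ {x a : V}, x ≠ 0 → k x ∈ F ∙ a → k⁻¹ a ∈ F ∙ x := fun {x a} hx h => by
    obtain ⟨c, hc⟩ := mem_span_singleton.1 h
    have h0 : c ≠ 0 := by
      rintro rfl
      exact hx (by simpa using hc.symm)
    refine mem_span_singleton.2 ⟨c⁻¹, k.injective ?_⟩
    change _ = k (k.symm a)
    rw [map_smul, ← hc, k.apply_symm_apply, smul_smul, inv_mul_cancel₀ h0, one_smul]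
  exact ⟨k⁻¹, K.inv_mem hk, this hx h1, this hy h2⟩

omit [FiniteDimensional F V] in
theorem PrEq.trans {x y a b c d : V} (h : PrEq K x y a b) (h' : PrEq K a b c d) :
    PrEq K x y c d := by
  obtain ⟨k, hk, h1, h2⟩ := h
  obtain ⟨k', hk', h3, h4⟩ := h'
  obtain ⟨s, hs⟩ := mem_span_singleton.1 h1
  obtain ⟨t, ht⟩ := mem_span_singleton.1 h2
  refine ⟨k' * k, K.mul_mem hk' hk, ?_, ?_⟩
  · rw [LinearEquiv.mul_apply, ← hs, map_smul]
    exact smul_mem _ _ h3
  · rw [LinearEquiv.mul_apply, ← ht, map_smul]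
    exact smul_mem _ _ h4

omit [FiniteDimensional F V] in
/-- pairs on conjugate lines, when all pairs on the line `x y` are conjugate -/
theorem prEq_of {x y : V} (h : ∀ a b, Ind F a b → a ∈ span F {x, y} → b ∈ span F {x, y} →
    PrEq K a b x y) {a b c d : V} (hab : Ind F a b) (hcd : Ind F c d) (h1 : LnEq K a b x y)
    (h2 : LnEq K c d x y) : PrEq K a b c d := by
  have : ∀ {a b : V}, Ind F a b → LnEq K a b x y → PrEq K a b x y := by
    rintro a b hab ⟨k, hk, h1, h2⟩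
    exact PrEq.trans ⟨k, hk, mem_span_singleton_self _, mem_span_singleton_self _⟩
      (h _ _ (hab.map k) h1 h2)
  exact (this hab h1).trans ((this hcd h2).symm hcd.1 hcd.symm.1)

omit [FiniteDimensional F V] in
theorem tl_bot {x y a b : V} (hab : Ind F a b) (h : FlEq K a b x y) (h0 : Tl K x y = ⊥) :
    Tl K a b = ⊥ := by
  obtain ⟨k, hk, h1, h2⟩ := h
  rw [← tl_map hk, eq_bot_iff]
  rintro t ⟨g, hg, e1, e2⟩
  have hi := hab.map k
  obtain ⟨α, hα⟩ := mem_span_singleton.1 h1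
  obtain ⟨γ, β, hβ⟩ := mem_span_pair.1 h2
  rw [← hα, ← hβ] at hi e2
  rw [← hα] at e1
  have a0 : α ≠ 0 := by
    rintro rfl
    exact hi.1 (zero_smul _ _)
  have b0 : β ≠ 0 := by
    rintro rfl
    exact hi.2 (mem_span_singleton.2 ⟨γ * α⁻¹, by simp [smul_smul, a0]⟩)
  have e3 : g x = x := smul_right_injective V a0 (by simpa using e1)
  have : t * α * β⁻¹ ∈ Tl K x y := ⟨g, hg, e3, smul_right_injective V b0 (by
    simp only [map_add, map_smul, e3] at e2
    simp only [smul_add, smul_smul]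
    rw [show β * (t * α * β⁻¹) = t * α by field_simp]
    linear_combination (norm := module) e2)⟩
  rw [h0, AddSubgroup.mem_bot] at this
  simpa [a0, b0] using this

end H51.KL
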