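import Cfsg.Agent.H51.KLSpec

/-! Gram matrices of permutation characters; Mackey formula for double cosets. -/

set_option autoImplicit false

namespace H51.KL

open Finset

variable {G : Type*} [Group G] [Finite G]

/-- the permutation character of `S` on the cosets of `A` -/
noncomputable def pc (S A : Subgroup G) (g : G) : ℚ :=
  ({c : G | c ∈ S ∧ c⁻¹ * g * c ∈ A}.ncard : ℚ) / Nat.card A

/-- the inner product on `S` -/
noncomputable def ip (S : Subgroup G) (f f' : G → ℚ) : ℚ :=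
  (∑ᶠ g ∈ (S : Set G), f g * f' g) / Nat.card S

theorem ip_def (S : Subgroup G) (f f' : G → ℚ) :
    ip S f f' = (∑ g ∈ (Set.toFinite (S : Set G)).toFinset, f g * f' g) / Nat.card S := by
  rw [ip, finsum_mem_eq_finite_toFinset_sum _ (Set.toFinite _)]

theorem ip_comm (S : Subgroup G) (f f' : G → ℚ) : ip S f f' = ip S f' f := by
  simp only [ip_def, mul_comm]

theorem ip_add (S : Subgroup G) (f f' h : G → ℚ) : ip S (f + f') h = ip S f h + ip S f' h := by
  simp only [ip_def, Pi.add_apply, add_mul, sum_add_distrib, add_div]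

theorem ip_sub (S : Subgroup G) (f f' h : G → ℚ) : ip S (f - f') h = ip S f h - ip S f' h := by
  simp only [ip_def, Pi.sub_apply, sub_mul, sum_sub_distrib, sub_div]

theorem ip_smul (S : Subgroup G) (c : ℚ) (f h : G → ℚ) : ip S (c • f) h = c * ip S f h := by
  simp only [ip_def, Pi.smul_apply, smul_eq_mul, mul_assoc, ← mul_sum, mul_div_assoc]

theorem ip_add' (S : Subgroup G) (f f' h : G → ℚ) : ip S h (f + f') = ip S h f + ip S h f' := by
  rw [ip_comm, ip_add, ip_comm S f, ip_comm S f']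

theorem ip_sub' (S : Subgroup G) (f f' h : G → ℚ) : ip S h (f - f') = ip S h f - ip S h f' := by
  rw [ip_comm, ip_sub, ip_comm S f, ip_comm S f']

theorem ip_smul' (S : Subgroup G) (c : ℚ) (f h : G → ℚ) : ip S h (c • f) = c * ip S h f := by
  rw [ip_comm, ip_smul, ip_comm]

theorem ip_nonneg (S : Subgroup G) (f : G → ℚ) : 0 ≤ ip S f f := by
  rw [ip_def]
  exact div_nonneg (sum_nonneg fun g _ => mul_self_nonneg _) (Nat.cast_nonneg _)

theorem eq_zero_of_ip {S : Subgroup G} {f : G → ℚ} (h : ip S f f ≤ 0) : f 1 = 0 := by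
  have h0 := le_antisymm h (ip_nonneg S f)
  rw [ip_def, div_eq_zero_iff] at h0
  rcases h0 with h0 | h0
  · exact mul_self_eq_zero.1 ((sum_eq_zero_iff_of_nonneg fun g _ => mul_self_nonneg _).1 h0 1
      (by simp))
  · exact absurd h0 (Nat.cast_ne_zero.2 Nat.card_pos.ne')

theorem pc_one {S A : Subgroup G} (h : A ≤ S) : pc S A 1 = A.relIndex S := by
  have h1 : {c : G | c ∈ S ∧ c⁻¹ * 1 * c ∈ A} = S := by
    ext c
    simp [A.one_mem]
  have h2 : Nat.card A * A.relIndex S = Nat.card S := by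
    rw [Subgroup.relIndex, ← Subgroup.card_mul_index (A.subgroupOf S),
      Nat.card_congr (Subgroup.subgroupOfEquivOfLe h).toEquiv]
  rw [pc, h1, ← Nat.card_coe_set_eq, div_eq_iff (Nat.cast_ne_zero.2 Nat.card_pos.ne')]
  change ((Nat.card S : ℕ) : ℚ) = _
  rw [← h2]
  push_cast
  ring

omit [Finite G] in
open Classical in
theorem sum_DC {A B : Subgroup G} [Fintype G] (g : G) :
    ∑ x ∈ univ.filter (DC A B g), (univ.filter fun a => a ∈ A ∧ x⁻¹ * a * x ∈ B).card =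
      Nat.card A * Nat.card B := by
  have h1 : Nat.card A * Nat.card B =
      ((univ.filter (· ∈ A)) ×ˢ (univ.filter (· ∈ B))).card := by
    rw [card_product, Nat.card_eq_fintype_card, Nat.card_eq_fintype_card, Fintype.card_subtype,
      Fintype.card_subtype]
  rw [h1, card_eq_sum_card_fiberwise (f := fun p : G × G => p.1 * g * p.2)
    (t := univ.filter (DC A B g))]
  · refine sum_congr rfl fun x hx => ?_
    obtain ⟨a, ha, b, hb, rfl⟩ := (mem_filter.1 hx).2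
    refine card_bij (fun c _ => (c⁻¹ * a, b * ((a * g * b)⁻¹ * c * (a * g * b)))) ?_ ?_ ?_
    · intro c hc
      obtain ⟨h1, h2⟩ := (mem_filter.1 hc).2
      simp only [mem_filter, mem_product, mem_univ, true_and]
      exact ⟨⟨A.mul_mem (A.inv_mem h1) ha, B.mul_mem hb h2⟩, by group⟩
    · intro c _ d _ e
      simpa using congrArg Prod.fst e
    · rintro ⟨a', b'⟩ hp
      simp only [mem_filter, mem_product, mem_univ, true_and] at hp
      obtain ⟨⟨h1, h2⟩, h3⟩ := hp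
      have h4 : (a * g * b)⁻¹ * (a * a'⁻¹) * (a * g * b) = b⁻¹ * b' := by
        conv_lhs => rw [show (a * g * b)⁻¹ * (a * a'⁻¹) * (a * g * b) =
          b⁻¹ * g⁻¹ * a'⁻¹ * (a * g * b) by group, ← h3]
        group
      refine ⟨a * a'⁻¹, mem_filter.2 ⟨mem_univ _, A.mul_mem ha (A.inv_mem h1), ?_⟩, ?_⟩
      · rw [h4]
        exact B.mul_mem (B.inv_mem hb) h2
      · rw [h4]
        simp
  · rintro ⟨a, b⟩ hp
    simp only [coe_product, coe_filter, Set.mem_prod, Set.mem_ofPred_eq, mem_univ, true_and] at hp ⊢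
    exact ⟨a, hp.1, b, hp.2, rfl⟩

theorem ip_pc {S A B : Subgroup G} (hA : A ≤ S) (hB : B ≤ S) :
    ip S (pc S A) (pc S B) = dc S A B := by
  classical
  have := Fintype.ofFinite G
  set T : Finset G := univ.filter (· ∈ S) with hT
  have hS : (Set.toFinite (S : Set G)).toFinset = T := by
    ext g
    simp [hT]
  have hn : ∀ (C : Subgroup G) g, ({c : G | c ∈ S ∧ c⁻¹ * g * c ∈ C}.ncard : ℚ) =
      ∑ c ∈ T, if c⁻¹ * g * c ∈ C then 1 else 0 := fun C g => by
    rw [sum_boole, ← Set.ncard_coe_finset]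
    congr 2
    ext c
    simp [hT]
  set w : G → ℕ := fun x => (univ.filter fun a => a ∈ A ∧ x⁻¹ * a * x ∈ B).card with hw
  have h1 : ∀ c ∈ T, ∀ d ∈ T, (∑ g ∈ T, (if c⁻¹ * g * c ∈ A then (1 : ℚ) else 0) *
      if d⁻¹ * g * d ∈ B then 1 else 0) = w (c⁻¹ * d) := fun c hc d _ => by
    simp only [ite_mul, one_mul, zero_mul, ← ite_and, sum_boole, hw, Nat.cast_inj]
    refine card_bij (fun g _ => c⁻¹ * g * c) ?_ ?_ ?_
    · intro g hg
      obtain ⟨-, h1, h2⟩ := mem_filter.1 hg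
      refine mem_filter.2 ⟨mem_univ _, h1, ?_⟩
      convert h2 using 1
      group
    · intro g _ g' _ e
      simpa using e
    · intro a ha
      obtain ⟨-, h1, h2⟩ := mem_filter.1 ha
      have hc' : c ∈ S := (mem_filter.1 hc).2
      refine ⟨c * a * c⁻¹, mem_filter.2 ⟨mem_filter.2 ⟨mem_univ _,
        S.mul_mem (S.mul_mem hc' (hA h1)) (S.inv_mem hc')⟩, ?_, ?_⟩, by group⟩
      · convert h1 using 1
        group
      · convert h2 using 1
        group
  have h2 : ∀ c ∈ T, ∑ d ∈ T, (w (c⁻¹ * d) : ℚ) = ∑ x ∈ T, (w x : ℚ) := fun c hc => by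
    have hc' : c ∈ S := (mem_filter.1 hc).2
    refine sum_bij (fun d _ => c⁻¹ * d) ?_ ?_ ?_ fun _ _ => rfl
    · exact fun d hd => mem_filter.2 ⟨mem_univ _, S.mul_mem (S.inv_mem hc') (mem_filter.1 hd).2⟩
    · intro d _ d' _ e
      simpa using e
    · exact fun x hx => ⟨c * x, mem_filter.2 ⟨mem_univ _, S.mul_mem hc' (mem_filter.1 hx).2⟩,
        by group⟩
  have h3 : ∑ x ∈ T, w x = dc S A B * (Nat.card A * Nat.card B) := by
    rw [← sum_fiberwise_of_maps_to (g := fun g => {g' | DC A B g g'})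
      (t := T.image fun g => {g' | DC A B g g'}) fun x hx => mem_image_of_mem _ hx,
      sum_congr rfl (g := fun _ => Nat.card A * Nat.card B), sum_const, smul_eq_mul, dc,
      ← Set.ncard_coe_finset, coe_image]
    · congr 3
      ext g
      simp [hT]
    · intro D hD
      obtain ⟨g, hg, rfl⟩ := mem_image.1 hD
      rw [← sum_DC g]
      refine sum_congr ?_ fun _ _ => rfl
      ext x
      simp only [mem_filter, setOf_DC_eq, mem_univ, true_and, hT]
      refine ⟨fun h => h.2.symm, fun h => ⟨?_, h.symm⟩⟩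
      obtain ⟨a, ha, b, hb, rfl⟩ := h
      exact S.mul_mem (S.mul_mem (hA ha) (mem_filter.1 hg).2) (hB hb)
  have hc : (T.card : ℚ) = Nat.card S := by
    rw [Nat.card_eq_fintype_card, Fintype.card_subtype]
  have h4 : ∑ g ∈ T, pc S A g * pc S B g =
      (Nat.card S : ℚ) * (dc S A B * (Nat.card A * Nat.card B)) / (Nat.card A * Nat.card B) := by
    simp only [pc, hn, div_mul_div_comm, ← sum_div, sum_mul_sum]
    congr 1
    rw [sum_comm]
    rw [sum_congr rfl fun c hc => sum_comm, sum_congr rfl fun c hc =>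
      (sum_congr rfl fun d hd => h1 c hc d hd).trans (h2 c hc), sum_const, nsmul_eq_mul, hc]
    rw [← Nat.cast_sum, h3]
    push_cast
    ring
  have hpos : ∀ C : Subgroup G, (Nat.card C : ℚ) ≠ 0 := fun C => Nat.cast_ne_zero.2 Nat.card_pos.ne'
  rw [ip_def, hS, h4]
  field_simp [hpos]

omit [Finite G] in
theorem dc_self_left [Finite G] (S B : Subgroup G) : dc S S B = 1 :=
  dc_eq_one.2 fun g hg => ⟨g, hg, 1, B.one_mem, by simp⟩

theorem dc_self_right (S A : Subgroup G) : dc S A S = 1 := by rw [dc_comm, dc_self_left]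

/-- conjugate subgroup `g⁻¹ K g` -/
def cj (K : Subgroup G) (g : G) : Subgroup G := K.comap (MulAut.conj g).toMonoidHom

omit [Finite G] in
theorem mem_cj {K : Subgroup G} {g k : G} : k ∈ cj K g ↔ g * k * g⁻¹ ∈ K := Iff.rfl

omit [Finite G] in
theorem cj_le {S K : Subgroup G} (h : K ≤ S) {g : G} (hg : g ∈ S) : cj K g ≤ S := fun k hk => by
  have := S.mul_mem (S.mul_mem (S.inv_mem hg) (h (mem_cj.1 hk))) hg
  simpa [mul_assoc] using this

omit [Finite G] in
theorem cj_cj (K : Subgroup G) (g : G) : cj (cj K g) g⁻¹ = K := by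
  ext k
  simp [mem_cj, mul_assoc]

omit [Finite G] in
theorem pc_cj {S K : Subgroup G} {g : G} (hg : g ∈ S) : pc S (cj K g) = pc S K := by
  funext x
  have h1 : Nat.card (cj K g) = Nat.card K := Nat.card_congr
    ⟨fun k => ⟨g * k * g⁻¹, k.2⟩, fun k => ⟨g⁻¹ * k * g, by simp [mem_cj, mul_assoc]⟩,
      fun k => by simp [mul_assoc], fun k => by simp [mul_assoc]⟩
  rw [pc, pc, h1]
  congr 2
  refine Set.ncard_congr (fun c _ => c * g⁻¹) ?_ ?_ ?_
  · rintro c ⟨h1, h2⟩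
    refine ⟨S.mul_mem h1 (S.inv_mem hg), ?_⟩
    convert mem_cj.1 h2 using 1
    group
  · intro c d _ _ e
    simpa using e
  · rintro c ⟨h1, h2⟩
    refine ⟨c * g, ⟨S.mul_mem h1 hg, mem_cj.2 ?_⟩, by group⟩
    convert h2 using 1
    group

omit [Finite G] in
/-- the double cosets inside `K g P` -/
theorem dc_part {P K H : Subgroup G} (hH : H ≤ P) (g : G) :
    ((fun x => {y | DC K H x y}) '' {x | DC K P g x}).ncard = dc P (cj K g ⊓ P) H := by
  rw [dc_eq (S := P) (fun p => {y | DC K H (g * p) y})]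
  · congr 1
    ext T
    constructor
    · rintro ⟨_, ⟨k, hk, p, hp, rfl⟩, rfl⟩
      exact ⟨p, hp, setOf_DC_eq.2 ⟨k, hk, 1, H.one_mem, by group⟩⟩
    · rintro ⟨p, hp, rfl⟩
      exact ⟨g * p, ⟨1, K.one_mem, p, hp, by group⟩, rfl⟩
  · intro p hp p' hp'
    rw [setOf_DC_eq]
    constructor
    · rintro ⟨k, hk, h, hh, e⟩
      have e' : g⁻¹ * k * g = p' * h⁻¹ * p⁻¹ := by
        rw [show p' = g⁻¹ * (g * p') by group, e]
        group
      refine ⟨g⁻¹ * k * g, ⟨by simpa [mem_cj, mul_assoc] using hk, ?_⟩, h, hh, by rw [e']; group⟩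
      rw [e']
      exact P.mul_mem (P.mul_mem hp' (P.inv_mem (hH hh))) (P.inv_mem hp)
    · rintro ⟨k, ⟨hk, -⟩, h, hh, rfl⟩
      exact ⟨g * k * g⁻¹, hk, h, hh, by group⟩

omit [Finite G] in
theorem cj_one (K : Subgroup G) : cj K 1 = K := by
  ext k
  simp [mem_cj]

theorem mackey_one {S P K H : Subgroup G} (hP : P ≤ S) (hK : K ≤ S) (hH : H ≤ P)
    (h : dc S K P = 1) : dc S K H = dc P (K ⊓ P) H := by
  rw [← cj_one K, ← dc_part hH, cj_one, dc]
  congr 2
  ext x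
  refine ⟨fun hx => by simpa [DC] using dc_eq_one.1 h x hx, ?_⟩
  rintro ⟨k, hk, p, hp, rfl⟩
  exact S.mul_mem (S.mul_mem (hK hk) S.one_mem) (hP hp)

theorem mackey_two {S P K H : Subgroup G} (hP : P ≤ S) (hK : K ≤ S) (hH : H ≤ P) {g : G}
    (hg : g ∈ S) (h1 : ¬ DC K P 1 g) (h2 : ∀ x ∈ S, DC K P 1 x ∨ DC K P g x) :
    dc S K H = dc P (K ⊓ P) H + dc P (cj K g ⊓ P) H := by
  rw [← dc_part hH g]
  conv_rhs => rw [← cj_one K, ← dc_part hH, cj_one]
  rw [← Set.ncard_union_eq ?_ (Set.toFinite _) (Set.toFinite _), ← Set.image_union, dc]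
  · congr 2
    ext x
    refine ⟨h2 x, ?_⟩
    rintro (⟨k, hk, p, hp, rfl⟩ | ⟨k, hk, p, hp, rfl⟩)
    · exact S.mul_mem (S.mul_mem (hK hk) S.one_mem) (hP hp)
    · exact S.mul_mem (S.mul_mem (hK hk) hg) (hP hp)
  · rw [Set.disjoint_left]
    rintro _ ⟨x, hx, rfl⟩ ⟨y, hy, e⟩
    obtain ⟨k, hk, h, hh, e'⟩ := setOf_DC_eq.1 e
    exact h1 (hx.trans (DC.symm (hy.trans ⟨k, hk, h, hH hh, e'⟩)))

omit [Finite G] in
theorem mem_sup_normal {P A R : Subgroup G} (hA : A ≤ P)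
    (hR : ∀ p ∈ P, ∀ r ∈ R, p * r * p⁻¹ ∈ R) : ∀ z ∈ A ⊔ R, ∃ a ∈ A, ∃ r ∈ R, z = a * r := by
  let M : Subgroup G :=
    { carrier := {z | ∃ a ∈ A, ∃ r ∈ R, z = a * r}
      one_mem' := ⟨1, A.one_mem, 1, R.one_mem, by simp⟩
      mul_mem' := by
        rintro _ _ ⟨a, ha, r, hr, rfl⟩ ⟨a', ha', r', hr', rfl⟩
        exact ⟨a * a', A.mul_mem ha ha', _,
          R.mul_mem (hR _ (P.inv_mem (hA ha')) r hr) hr', by group⟩
      inv_mem' := by
        rintro _ ⟨a, ha, r, hr, rfl⟩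
        exact ⟨a⁻¹, A.inv_mem ha, _, hR _ (hA ha) _ (R.inv_mem hr), by group⟩ }
  have : A ⊔ R ≤ M := sup_le (fun a ha => ⟨a, ha, 1, R.one_mem, by simp⟩)
    fun r hr => ⟨1, A.one_mem, r, hr, by simp⟩
  exact fun z hz => this hz

omit [Finite G] in
theorem dc_sup {P A R H : Subgroup G} (hA : A ≤ P)
    (hR : ∀ p ∈ P, ∀ r ∈ R, p * r * p⁻¹ ∈ R) (hH : R ≤ H) : dc P (A ⊔ R) H = dc P A H := by
  rw [dc_eq (S := P) (A := A ⊔ R) (fun g => {y | DC A H g y}), dc]
  intro p hp p' _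
  rw [setOf_DC_eq]
  constructor
  · rintro ⟨a, ha, h, hh, e⟩
    exact ⟨a, Subgroup.mem_sup_left ha, h, hh, e⟩
  · rintro ⟨z, hz, h, hh, rfl⟩
    obtain ⟨a, ha, r, hr, rfl⟩ := mem_sup_normal hA hR z hz
    exact ⟨a, ha, _, H.mul_mem (hH (hR _ (P.inv_mem hp) r hr)) hh, by group⟩

theorem dc_two {S A B : Subgroup G} (h : dc S A B = 2) :
    ∃ g ∈ S, ¬ DC A B 1 g ∧ ∀ x ∈ S, DC A B 1 x ∨ DC A B g x := by
  have h1 : ¬ ∀ g ∈ S, DC A B 1 g := fun h1 => by
    have := dc_le (S := S) (A := A) (B := B) (fun _ : Fin 1 => 1) fun g hg => ⟨0, h1 g hg⟩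
    omega
  push Not at h1
  obtain ⟨g, hg, hn⟩ := h1
  refine ⟨g, hg, hn, fun x hx => ?_⟩
  obtain ⟨i, j, hij, hd⟩ := exists_DC (S := S) (A := A) (B := B) (m := 3) (by omega) ![1, g, x]
    (fun i => by fin_cases i <;> simp [hg, hx])
  fin_cases i <;> fin_cases j
  all_goals first
    | exact absurd rfl hij | exact absurd hd hn | exact absurd hd.symm hn | exact .inl hd
    | exact .inl hd.symm | exact .inr hd | exact .inr hd.symm

omit [Finite G] in
theorem DC_iff {K Y : Subgroup G} {g g' : G} : DC K Y g g' ↔ ∃ k ∈ K, g'⁻¹ * k * g ∈ Y :=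
  ⟨fun ⟨k, hk, b, hb, e⟩ => ⟨k, hk, by simpa [e, mul_assoc] using Y.inv_mem hb⟩,
    fun ⟨k, hk, h⟩ => ⟨k, hk, _, Y.inv_mem h, by group⟩⟩

theorem cs {S : Subgroup G} (f u : G → ℚ) {m : ℚ} (hm : 0 < m) (h : ip S u u = m) :
    ip S f u ^ 2 ≤ m * ip S f f := by
  have := ip_nonneg S (m • f - ip S f u • u)
  simp only [ip_sub, ip_sub', ip_smul, ip_smul', h, ip_comm S u f] at this
  nlinarith

/-- the non-principal part of a rank 3 character -/
theorem ip_rk {S K : Subgroup G} (hK : K ≤ S) (h : dc S K K = 3) :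
    ip S (pc S K - pc S S) (pc S K - pc S S) = 2 := by
  simp only [ip_sub, ip_sub', ip_pc hK hK, ip_pc hK le_rfl, ip_pc le_rfl hK, ip_pc le_rfl le_rfl,
    h, dc_self_left, dc_self_right]
  norm_num

theorem cs_rk {S K : Subgroup G} (hK : K ≤ S) (h : dc S K K = 3) (θ : G → ℚ)
    (h0 : ip S θ (pc S S) = 0) : ip S θ (pc S K) ^ 2 ≤ 2 * ip S θ θ := by
  have := cs θ _ two_pos (ip_rk hK h)
  rwa [ip_sub', h0, sub_zero] at this

theorem index_eq {S K : Subgroup G} (hK : K ≤ S) (h : dc S K K = 3) (θ : G → ℚ)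
    (h0 : ip S θ (pc S S) = 0) (h1 : ip S θ θ ≤ 2) (h2 : 2 ≤ ip S θ (pc S K)) :
    (K.relIndex S : ℚ) = 1 + θ 1 := by
  have : (pc S K - pc S S - θ) 1 = 0 := eq_zero_of_ip (S := S) (by
    rw [ip_sub, ip_sub', ip_sub' S (pc S K - pc S S) θ θ, ip_rk hK h, ip_comm S _ θ, ip_sub', h0]
    linarith)
  simp only [Pi.sub_apply, pc_one hK, pc_one le_rfl, Subgroup.relIndex_self, Nat.cast_one] at this
  linarith

end H51.KL
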