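import Cfsg.Agent.H53.CKBase

/-! Interface of the tower KL (`blueprints/KL.md`): primitive rank 3 actions of `PSL_n(q)`. -/

set_option autoImplicit false

namespace H51.KL

open Module Submodule H53.CK

universe u v

section grp

variable {G : Type*} [Group G]

/-- `g'` lies in the double coset `A g B` -/
def DC (A B : Subgroup G) (g g' : G) : Prop := ∃ a ∈ A, ∃ b ∈ B, g' = a * g * b

theorem DC.refl (A B : Subgroup G) (g : G) : DC A B g g := ⟨1, A.one_mem, 1, B.one_mem, by simp⟩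

theorem DC.symm {A B : Subgroup G} {g g' : G} (h : DC A B g g') : DC A B g' g := by
  obtain ⟨a, ha, b, hb, rfl⟩ := h
  exact ⟨a⁻¹, A.inv_mem ha, b⁻¹, B.inv_mem hb, by group⟩

theorem DC.trans {A B : Subgroup G} {g g' g'' : G} (h : DC A B g g') (h' : DC A B g' g'') :
    DC A B g g'' := by
  obtain ⟨a, ha, b, hb, rfl⟩ := h
  obtain ⟨a', ha', b', hb', rfl⟩ := h'
  exact ⟨a' * a, A.mul_mem ha' ha, b * b', B.mul_mem hb hb', by group⟩

/-- the number of double cosets `A g B` with `g ∈ S` -/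
noncomputable def dc (S A B : Subgroup G) : ℕ :=
  ((fun g => {g' | DC A B g g'}) '' (S : Set G)).ncard

theorem setOf_DC_eq {A B : Subgroup G} {g g' : G} :
    {k | DC A B g k} = {k | DC A B g' k} ↔ DC A B g g' :=
  ⟨fun h => by
    have : g' ∈ {k | DC A B g' k} := DC.refl A B g'
    rw [← h] at this
    exact this,
   fun h => Set.ext fun _ => ⟨fun h' => h.symm.trans h', fun h' => h.trans h'⟩⟩

/-- a complete invariant counts the double cosets -/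
theorem dc_eq {S A B : Subgroup G} {β : Type*} (κ : G → β)
    (h : ∀ g ∈ S, ∀ g' ∈ S, κ g = κ g' ↔ DC A B g g') : dc S A B = (κ '' (S : Set G)).ncard := by
  classical
  symm
  refine Set.ncard_congr (fun b hb => {k | DC A B hb.choose k}) ?_ ?_ ?_
  · intro b hb
    exact ⟨hb.choose, hb.choose_spec.1, rfl⟩
  · intro b b' hb hb' e
    rw [← hb.choose_spec.2, ← hb'.choose_spec.2]
    exact (h _ hb.choose_spec.1 _ hb'.choose_spec.1).2 (setOf_DC_eq.1 e)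
  · rintro _ ⟨g, hg, rfl⟩
    have hb : κ g ∈ κ '' (S : Set G) := ⟨g, hg, rfl⟩
    exact ⟨κ g, hb, setOf_DC_eq.2 ((h _ hb.choose_spec.1 _ hg).1 hb.choose_spec.2)⟩

theorem le_dc [Finite G] {S A B : Subgroup G} {m : ℕ} (f : Fin m → G) (hf : ∀ i, f i ∈ S)
    (h : ∀ i j, DC A B (f i) (f j) → i = j) : m ≤ dc S A B := by
  have := Set.ncard_le_ncard_of_injOn (s := (Set.univ : Set (Fin m)))
    (t := (fun g => {g' | DC A B g g'}) '' (S : Set G)) (fun i => {k | DC A B (f i) k})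
    (fun i _ => ⟨f i, hf i, rfl⟩) (fun i _ j _ e => h i j (setOf_DC_eq.1 e)) (Set.toFinite _)
  simpa [Set.ncard_univ, dc] using this

theorem dc_le {S A B : Subgroup G} {m : ℕ} (f : Fin m → G)
    (h : ∀ g ∈ S, ∃ i, DC A B (f i) g) : dc S A B ≤ m := by
  have h1 : (fun g => {g' | DC A B g g'}) '' (S : Set G) ⊆
      Set.range fun i => {k | DC A B (f i) k} := by
    rintro _ ⟨g, hg, rfl⟩
    obtain ⟨i, hi⟩ := h g hg
    exact ⟨i, setOf_DC_eq.2 hi⟩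
  refine (Set.ncard_le_ncard h1 (Set.finite_range _)).trans ?_
  rw [← Set.image_univ]
  simpa [Set.ncard_univ] using Set.ncard_image_le (s := (Set.univ : Set (Fin m)))
    (f := fun i => {k | DC A B (f i) k})

theorem exists_DC [Finite G] {S A B : Subgroup G} {m : ℕ} (hm : dc S A B < m) (f : Fin m → G)
    (hf : ∀ i, f i ∈ S) : ∃ i j, i ≠ j ∧ DC A B (f i) (f j) := by
  by_contra hn
  push Not at hn
  exact absurd (le_dc f hf fun i j hij => by_contra fun e => hn i j e hij) (by omega)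

theorem one_le_dc [Finite G] (S A B : Subgroup G) : 1 ≤ dc S A B :=
  le_dc (fun _ => 1) (fun _ => S.one_mem) fun _ _ _ => Subsingleton.elim _ _

theorem dc_eq_one [Finite G] {S A B : Subgroup G} :
    dc S A B = 1 ↔ ∀ g ∈ S, ∃ a ∈ A, ∃ b ∈ B, g = a * b := by
  constructor
  · intro h g hg
    obtain ⟨i, j, hij, hd⟩ := exists_DC (S := S) (A := A) (B := B) (m := 2) (by omega) ![1, g]
      (fun i => by fin_cases i <;> simp [hg])
    have : DC A B 1 g := by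
      fin_cases i <;> fin_cases j
      · exact absurd rfl hij
      · exact hd
      · exact hd.symm
      · exact absurd rfl hij
    simpa [DC] using this
  · intro h
    exact le_antisymm (dc_le (fun _ : Fin 1 => 1) fun g hg => ⟨0, by simpa [DC] using h g hg⟩)
      (one_le_dc _ _ _)

theorem dc_comm (S A B : Subgroup G) : dc S A B = dc S B A := by
  have hi : ∀ {A B : Subgroup G} {g g' : G}, DC A B g g' → DC B A g⁻¹ g'⁻¹ := by
    rintro A B g _ ⟨a, ha, b, hb, rfl⟩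
    exact ⟨b⁻¹, B.inv_mem hb, a⁻¹, A.inv_mem ha, by group⟩
  rw [dc_eq (S := S) (A := A) (B := B) (fun g => {k | DC B A g⁻¹ k}) fun g _ g' _ =>
    setOf_DC_eq.trans ⟨fun h => by simpa using hi h, hi⟩, dc]
  congr 1
  ext T
  constructor
  · rintro ⟨g, hg, rfl⟩
    exact ⟨g⁻¹, S.inv_mem hg, rfl⟩
  · rintro ⟨g, hg, rfl⟩
    exact ⟨g⁻¹, S.inv_mem hg, by simp⟩

end grp

section defs

variable {F : Type u} [Field F] {V : Type v} [AddCommGroup V] [Module F V]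

/-- the stabiliser of a subspace in `S` -/
def stabSub (S : Subgroup (V ≃ₗ[F] V)) (U : Submodule F V) : Subgroup (V ≃ₗ[F] V) where
  carrier := {g | g ∈ S ∧ ∀ v, g v ∈ U ↔ v ∈ U}
  one_mem' := ⟨S.one_mem, fun _ => Iff.rfl⟩
  mul_mem' := fun {a b} ha hb => ⟨S.mul_mem ha.1 hb.1, fun v => (ha.2 (b v)).trans (hb.2 v)⟩
  inv_mem' := fun {a} ha => ⟨S.inv_mem ha.1, fun v => by
    rw [← ha.2]
    change a (a.symm v) ∈ U ↔ _
    rw [a.apply_symm_apply]⟩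

theorem mem_stabSub [FiniteDimensional F V] {S : Subgroup (V ≃ₗ[F] V)} {U : Submodule F V}
    {g : V ≃ₗ[F] V} : g ∈ stabSub S U ↔ g ∈ S ∧ ∀ v ∈ U, g v ∈ U := by
  refine ⟨fun h => ⟨h.1, fun v hv => (h.2 v).2 hv⟩, fun h => ⟨h.1, fun v => ⟨fun hv => ?_, h.2 v⟩⟩⟩
  obtain ⟨e, -, he⟩ := exists_res h.1 h.2
  obtain ⟨w, hw⟩ := e.surjective ⟨g v, hv⟩
  have : g w = g v := by rw [← he, hw]
  exact g.injective this ▸ w.2

/-- point stabiliser -/
def Pt (S : Subgroup (V ≃ₗ[F] V)) (x : V) := stabSub S (F ∙ x)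

/-- line stabiliser -/
def Ln (S : Subgroup (V ≃ₗ[F] V)) (x y : V) := stabSub S (span F {x, y})

/-- plane stabiliser -/
def Pl (S : Subgroup (V ≃ₗ[F] V)) (x y z : V) := stabSub S (span F {x, y, z})

/-- flag stabiliser -/
def Fl (S : Subgroup (V ≃ₗ[F] V)) (x y : V) := Pt S x ⊓ Ln S x y

/-- the elements acting on the line as scalars -/
def Rl (S : Subgroup (V ≃ₗ[F] V)) (x y : V) : Subgroup (V ≃ₗ[F] V) where
  carrier := {g | g ∈ S ∧ ∃ c : Fˣ, g x = (c : F) • x ∧ g y = (c : F) • y}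
  one_mem' := ⟨S.one_mem, 1, by simp, by simp⟩
  mul_mem' := by
    rintro a b ⟨ha, c, h1, h2⟩ ⟨hb, d, h3, h4⟩
    exact ⟨S.mul_mem ha hb, d * c, by simp [h1, h3, mul_smul], by simp [h2, h4, mul_smul]⟩
  inv_mem' := by
    rintro a ⟨ha, c, h1, h2⟩
    refine ⟨S.inv_mem ha, c⁻¹, a.injective ?_, a.injective ?_⟩
    · change a (a.symm x) = _
      simp [h1]
    · change a (a.symm y) = _
      simp [h2]

/-- the full preimage of the group induced by `K` on the points of the line -/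
def Hl (S K : Subgroup (V ≃ₗ[F] V)) (x y : V) := (K ⊓ Ln S x y) ⊔ Rl S x y

/-- translations induced on the line `x y` at the point `x` -/
def Tl (K : Subgroup (V ≃ₗ[F] V)) (x y : V) : AddSubgroup F where
  carrier := {t | ∃ g ∈ K, g x = x ∧ g y = y + t • x}
  zero_mem' := ⟨1, K.one_mem, rfl, by simp⟩
  add_mem' := by
    rintro s t ⟨g, hg, h1, h2⟩ ⟨k, hk, h3, h4⟩
    exact ⟨g * k, K.mul_mem hg hk, by simp [h1, h3], by simp [h1, h2, h4, add_smul, add_assoc]⟩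
  neg_mem' := by
    rintro t ⟨g, hg, h1, h2⟩
    refine ⟨g⁻¹, K.inv_mem hg, g.injective ?_, g.injective ?_⟩
    · change g (g.symm x) = _
      simp [h1]
    · change g (g.symm y) = _
      simp [h1, h2]

/-- multipliers induced on the line `x y` at the point `x` -/
def Cl (K : Subgroup (V ≃ₗ[F] V)) (x y : V) : Subgroup Fˣ where
  carrier := {c | ∃ g ∈ K, ∃ t : F, g x = x ∧ g y = (c : F) • y + t • x}
  one_mem' := ⟨1, K.one_mem, 0, rfl, by simp⟩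
  mul_mem' := by
    rintro c d ⟨g, hg, s, h1, h2⟩ ⟨k, hk, t, h3, h4⟩
    refine ⟨g * k, K.mul_mem hg hk, d * s + t, by simp [h1, h3], ?_⟩
    simp only [LinearEquiv.mul_apply, h4, map_add, map_smul, h1, h2, Units.val_mul]
    module
  inv_mem' := by
    rintro c ⟨g, hg, t, h1, h2⟩
    refine ⟨g⁻¹, K.inv_mem hg, -((c⁻¹ : Fˣ) * t), g.injective ?_, g.injective ?_⟩
    · change g (g.symm x) = _
      simp [h1]
    · change g (g.symm y) = _
      simp [h1, h2, smul_smul]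

/-- transvections of `K` with centre `x` -/
def Tv (K : Subgroup (V ≃ₗ[F] V)) (x : V) : AddSubgroup (Dual F V) where
  carrier := {φ | φ x = 0 ∧ H62.HasTv K φ x}
  zero_mem' := ⟨rfl, H62.HasTv.zero_left K x⟩
  add_mem' := fun {a b} ha hb => ⟨by simp [ha.1, hb.1], ha.2.add_left hb.2 ha.1⟩
  neg_mem' := fun {a} ha => ⟨by simp [ha.1], ha.2.neg_left ha.1⟩

/-- transitive on the nonzero vectors -/
def PT (K : Subgroup (V ≃ₗ[F] V)) : Prop := ∀ x y : V, x ≠ 0 → y ≠ 0 → ∃ g ∈ K, g x = y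

/-- conjugate lines -/
def LnEq (K : Subgroup (V ≃ₗ[F] V)) (x y x' y' : V) : Prop :=
  ∃ g ∈ K, g x ∈ span F {x', y'} ∧ g y ∈ span F {x', y'}

/-- conjugate point-line flags -/
def FlEq (K : Subgroup (V ≃ₗ[F] V)) (x y x' y' : V) : Prop :=
  ∃ g ∈ K, g x ∈ F ∙ x' ∧ g y ∈ span F {x', y'}

/-- conjugate ordered pairs of points -/
def PrEq (K : Subgroup (V ≃ₗ[F] V)) (x y x' y' : V) : Prop :=
  ∃ g ∈ K, g x ∈ F ∙ x' ∧ g y ∈ F ∙ y'

/-- `K` fixes a point or a hyperplane -/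
def Fix (K : Subgroup (V ≃ₗ[F] V)) : Prop :=
  (∃ x : V, x ≠ 0 ∧ ∀ g ∈ K, g x ∈ F ∙ x) ∨
    ∃ φ : Dual F V, φ ≠ 0 ∧ ∀ g ∈ K, ∀ v, φ v = 0 → φ (g v) = 0

/-- an invariant class of lines; the lines outside it form one orbit on ordered pairs of points -/
structure LC (K : Subgroup (V ≃ₗ[F] V)) (D : V → V → Prop) : Prop where
  ind : ∀ x y, D x y → Ind F x y
  congr : ∀ x y x' y', D x y → Ind F x' y' → x' ∈ span F {x, y} → y' ∈ span F {x, y} → D x' y'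
  map : ∀ g ∈ K, ∀ x y, D x y → D (g x) (g y)
  ex : ∃ x y, D x y
  ex' : ∃ x y, Ind F x y ∧ ¬ D x y
  out : ∀ x y x' y', Ind F x y → ¬ D x y → Ind F x' y' → ¬ D x' y' → PrEq K x y x' y'

/-- `K` preserves a null polarity -/
def NullPol (K : Subgroup (V ≃ₗ[F] V)) : Prop :=
  ∃ W : V → Submodule F V, (∀ x, x ≠ 0 → finrank F (W x) + 1 = finrank F V) ∧ (∀ x, x ∈ W x) ∧
    (∀ x y, x ≠ 0 → y ≠ 0 → y ∈ W x → x ∈ W y) ∧ ∀ g ∈ K, ∀ x y, x ≠ 0 → y ∈ W x → g y ∈ W (g x)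

/-- `K` is semilinear for a field of order four -/
def F4 (K : Subgroup (V ≃ₗ[F] V)) : Prop :=
  Nat.card F = 2 ∧ ∃ ω : V →ₗ[F] V, (∀ y, ω (ω y) + ω y + y = 0) ∧
    ∀ g ∈ K, ∀ y, g (ω y) = ω (g y) ∨ g (ω y) = ω (ω (g y))

/-- three pairwise non-conjugate planes -/
def Pl3 (K : Subgroup (V ≃ₗ[F] V)) : Prop :=
  ∃ x y z : Fin 3 → V, (∀ i, Ind3 F (x i) (y i) (z i)) ∧ ∀ i j, ∀ g ∈ K,
    (∀ v ∈ span F {x i, y i, z i}, g v ∈ span F {x j, y j, z j}) → i = j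

/-- a bi-invariant function with four values on the special linear group -/
def Four (K : Subgroup (V ≃ₗ[F] V)) : Prop :=
  ∃ ι : (V ≃ₗ[F] V) → ℕ, (∀ g, ∀ k ∈ K, ι (k * g) = ι g ∧ ι (g * k) = ι g) ∧
    ∃ g : Fin 4 → V ≃ₗ[F] V, (∀ i, LinearMap.det (g i : V →ₗ[F] V) = 1) ∧
      ∀ i j, ι (g i) = ι (g j) → i = j

/-- the situation of the theorem -/
structure Hyp (S K : Subgroup (V ≃ₗ[F] V)) : Prop where
  five : 5 ≤ finrank F V
  le : K ≤ S
  sc : Sc K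
  tv : AllTv S
  ntv : ¬ AllTv K
  max : ∀ M, K ≤ M → M ≤ S → M = K ∨ M = S
  rk : dc S K K = 3

end defs

/-- KL-DC: numbers of double cosets. -/
def JobDC : Prop :=
  ∀ (F : Type u) [Field F] [Finite F] (V : Type v) [AddCommGroup V] [Module F V]
    [FiniteDimensional F V] (S : Subgroup (V ≃ₗ[F] V)), Sc S → AllTv S → 5 ≤ finrank F V →
    (∀ φ : Dual F V, φ ≠ 0 →
      dc S (stabSub S (LinearMap.ker φ)) (stabSub S (LinearMap.ker φ)) = 2) ∧
    ∀ x y : V, Ind F x y → dc S (Pt S x) (Pt S x) = 2 ∧ dc (Ln S x y) (Fl S x y) (Fl S x y) = 2 ∧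
      (∀ H, Rl S x y ≤ H → H ≤ Ln S x y → dc S H (Pt S x) = dc (Ln S x y) H (Fl S x y) + 1) ∧
      (∀ H H', Rl S x y ≤ H → H ≤ Ln S x y → Rl S x y ≤ H' → H' ≤ Ln S x y →
        dc S H H' = dc (Ln S x y) H H' +
          dc (Ln S x y) H (Fl S x y) * dc (Ln S x y) H' (Fl S x y) + 1) ∧
      ∀ z, Ind3 F x y z → dc S (Pl S x y z) (Pl S x y z) ≤ 4 ∧ 2 ≤ dc S (Pl S x y z) (Pt S x)

/-- KL-IDX: transitivity and indices. -/
def JobIdx : Prop :=
  ∀ (F : Type u) [Field F] [Finite F] (V : Type v) [AddCommGroup V] [Module F V]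
    [FiniteDimensional F V] (S : Subgroup (V ≃ₗ[F] V)), Sc S → AllTv S → 4 ≤ finrank F V →
    ∀ x y z : V, Ind3 F x y z →
      (∀ x' y' z', Ind3 F x' y' z' → ∃ g ∈ S, g x = x' ∧ g y = y' ∧ g z = z') ∧
      (Pt S x).relIndex S * (Nat.card F - 1) = Nat.card F ^ finrank F V - 1 ∧
      (Ln S x y).relIndex S * ((Nat.card F ^ 2 - 1) * (Nat.card F - 1)) =
        (Nat.card F ^ finrank F V - 1) * (Nat.card F ^ (finrank F V - 1) - 1) ∧
      (Fl S x y).relIndex (Ln S x y) = Nat.card F + 1 ∧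
      (Rl S x y).relIndex (Ln S x y) = Nat.card F * (Nat.card F ^ 2 - 1) ∧
      (Pl S x y z).relIndex S ≡ 1 [MOD Nat.card F]

/-- KL-LINE: the group induced on a line. -/
def JobLine : Prop :=
  JobIdx.{u, v} →
  ∀ (F : Type u) [Field F] [Finite F] (V : Type v) [AddCommGroup V] [Module F V]
    [FiniteDimensional F V] (S K : Subgroup (V ≃ₗ[F] V)), K ≤ S → Sc K → AllTv S →
    4 ≤ finrank F V → ∀ (x y : V) (i : ℕ), Ind F x y → (Hl S K x y).relIndex (Ln S x y) = i →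
      Nat.card (Tl K x y) * i ∣ Nat.card F * (Nat.card F ^ 2 - 1) ∧
      (∃ t, Nat.card (Tl K x y) * t = Nat.card F ∧ Nat.card (Cl K x y) ∣ t - 1) ∧
      (dc (Ln S x y) (Hl S K x y) (Fl S x y) = 1 →
        i * (Nat.card (Tl K x y) * Nat.card (Cl K x y)) = Nat.card F * (Nat.card F - 1) ∧
        (dc (Ln S x y) (Hl S K x y) (Hl S K x y) = 2 →
          i - 1 ∣ (Nat.card F + 1) * (Nat.card (Tl K x y) * Nat.card (Cl K x y))) ∧
        (∀ x' y', Ind F x' y' → x' ∈ span F {x, y} → y' ∈ span F {x, y} → FlEq K x' y' x y) ∧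
        (Tl K x y = ⊤ → ∀ x' y', Ind F x' y' → x' ∈ span F {x, y} → y' ∈ span F {x, y} →
          PrEq K x' y' x y)) ∧
      (dc (Ln S x y) (Hl S K x y) (Fl S x y) = 2 → i = Nat.card F + 1 →
        ∃ x₀ y₀, Ind F x₀ y₀ ∧ (∀ g ∈ K, g x₀ ∈ span F {x₀, y₀} → g y₀ ∈ span F {x₀, y₀} →
          g x₀ ∈ F ∙ x₀) ∧ Tl K x₀ y₀ = ⊤ ∧ Cl K x₀ y₀ = ⊤)

/-- KL-DIV: transvections and the index. -/
def JobDiv : Prop :=
  ∀ (F : Type u) [Field F] [Finite F] (V : Type v) [AddCommGroup V] [Module F V]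
    [FiniteDimensional F V] (S K : Subgroup (V ≃ₗ[F] V)), K ≤ S → AllTv S → 1 ≤ finrank F V →
    ((K.relIndex S).Coprime (Nat.card F) →
      ∃ x : V, x ≠ 0 ∧ ∀ φ : Dual F V, φ x = 0 → H62.HasTv K φ x) ∧
    ∀ x : V, x ≠ 0 →
      (PT K → ∃ d, Nat.card (Tv K x) * d = Nat.card F ^ (finrank F V - 1) ∧ d ∣ K.relIndex S) ∧
      ∀ t : ℕ, (∀ y, Ind F x y → Nat.card (Tl K x y) * t ≤ Nat.card F) →
        Nat.card (Tv K x) * t ^ (finrank F V - 1) ≤ Nat.card F ^ (finrank F V - 1)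

/-- KL-A: two orbits on points. -/
def JobA : Prop :=
  ∀ (F : Type u) [Field F] [Finite F] (V : Type v) [AddCommGroup V] [Module F V]
    [FiniteDimensional F V] (K : Subgroup (V ≃ₗ[F] V)), Sc K → 4 ≤ finrank F V →
    ∀ x₁ x₂ : V, x₁ ≠ 0 → x₂ ≠ 0 → (∀ g ∈ K, g x₁ ≠ x₂) →
    (∀ x, x ≠ 0 → (∃ g ∈ K, g x₁ = x) ∨ ∃ g ∈ K, g x₂ = x) →
    ∀ y₁ z₁ y₂ z₂ : V, Ind F y₁ z₁ → Ind F y₂ z₂ → ¬ LnEq K y₁ z₁ y₂ z₂ →
    (∀ y z, Ind F y z → LnEq K y z y₁ z₁ ∨ LnEq K y z y₂ z₂) →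
    ((∀ a b : Fin 4 → V, (∀ i, Ind F (a i) (b i)) →
        ∃ i j, i ≠ j ∧ FlEq K (a i) (b i) (a j) (b j)) ∨
      ∃ x : V, x ≠ 0 ∧ ∀ φ : Dual F V, φ x = 0 → H62.HasTv K φ x) → Fix K

/-- KL-MOM: orbits on the hyperplanes off a point, and second moments. -/
def JobMom : Prop :=
  ∀ (F : Type u) [Field F] [Finite F] (V : Type v) [AddCommGroup V] [Module F V]
    [FiniteDimensional F V] (x : V), x ≠ 0 →
    (∀ (X : Subgroup (V ≃ₗ[F] V)) (m₁ m₂ d : ℕ), Sc X → (∀ g ∈ X, g x ∈ F ∙ x) →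
      m₁ + d = m₂ + 1 →
      (∃ f : Fin m₁ → V, (∀ i, f i ∉ F ∙ x) ∧
        ∀ i j, ∀ g ∈ X, g (f i) ∈ span F {x, f j} → i = j) →
      (∃ f : Fin m₂ → V, ∀ y, y ∉ F ∙ x → ∃ i, ∃ g ∈ X, g (f i) = y) →
      ∃ f : Fin d → Dual F V, (∀ i, f i x = 1) ∧ ∀ φ : Dual F V, φ x = 1 →
        ∃ i, ∃ g ∈ X, g x = x ∧ ∀ v, f i (g v) = φ v) ∧
    ∀ (B : Set V) (a k m : ℕ) (φ₁ φ₂ : Dual F V), finrank F V = m + 3 → (∀ y ∈ B, y ∉ F ∙ x) →
      (∀ y ∈ B, ∀ c : F, c ≠ 0 → c • y ∈ B) → (∀ y ∈ B, {t : F | y + t • x ∈ B}.ncard = a) →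
      B.ncard = (Nat.card F - 1) * k →
      (∀ φ : Dual F V, φ x = 1 → {y ∈ B | φ y = 0}.ncard = {y ∈ B | φ₁ y = 0}.ncard ∨
        {y ∈ B | φ y = 0}.ncard = {y ∈ B | φ₂ y = 0}.ncard) →
      ∃ n₁ n₂ α₁ α₂ : ℕ, n₁ + n₂ = Nat.card F ^ (m + 2) ∧
        n₁ * α₁ + n₂ * α₂ = k * Nat.card F ^ (m + 1) ∧
        n₁ * α₁ ^ 2 + n₂ * α₂ ^ 2 + k * a * Nat.card F ^ m =
          k * Nat.card F ^ (m + 1) + k ^ 2 * Nat.card F ^ m

/-- KL-BOR: every line has a centre. -/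
def JobBor : Prop :=
  JobMom.{u, v} →
  ∀ (F : Type u) [Field F] [Finite F] (V : Type v) [AddCommGroup V] [Module F V]
    [FiniteDimensional F V] (K : Subgroup (V ≃ₗ[F] V)), Sc K → PT K → 3 ≤ finrank F V →
    (∀ x y x' y', Ind F x y → Ind F x' y' → LnEq K x y x' y') → ∀ x₀ y₀ : V, Ind F x₀ y₀ →
    (∀ g ∈ K, g x₀ ∈ span F {x₀, y₀} → g y₀ ∈ span F {x₀, y₀} → g x₀ ∈ F ∙ x₀) →
    Tl K x₀ y₀ = ⊤ → Cl K x₀ y₀ = ⊤ → False

/-- KL-D10: every line is a pentagon. -/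
def JobD10 : Prop :=
  JobMom.{u, v} →
  ∀ (F : Type u) [Field F] [Finite F] (V : Type v) [AddCommGroup V] [Module F V]
    [FiniteDimensional F V] (K : Subgroup (V ≃ₗ[F] V)), Sc K → 3 ≤ finrank F V →
    Nat.card F = 4 → (∀ x y x' y', Ind F x y → Ind F x' y' → FlEq K x y x' y') →
    (∀ x y, Ind F x y → Nat.card (Tl K x y) = 2 ∧ Cl K x y = ⊥) → False

/-- KL-POL: flag transitive groups of order prime to `p`. -/
def JobPol : Prop :=
  ∀ (F : Type u) [Field F] [Finite F] (V : Type v) [AddCommGroup V] [Module F V]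
    [FiniteDimensional F V] (K : Subgroup (V ≃ₗ[F] V)), Sc K → 4 ≤ finrank F V →
    (∀ x y x' y', Ind F x y → Ind F x' y' → FlEq K x y x' y') →
    (∀ x y, Ind F x y → Tl K x y = ⊥ ∧ Cl K x y = ⊤) → False

/-- KL-IC: two orbits on lines, one of them with a small group. -/
def JobIc : Prop :=
  ∀ (F : Type u) [Field F] [Finite F] (V : Type v) [AddCommGroup V] [Module F V]
    [FiniteDimensional F V] (K : Subgroup (V ≃ₗ[F] V)) (D : V → V → Prop), Sc K → PT K →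
    3 ≤ finrank F V → LC K D →
    (((∀ x y, D x y → Tl K x y = ⊥) ∧ ∀ x, x ≠ 0 → Tv K x ≠ ⊥) ∨
      (Nat.card F = 4 ∧ (∀ x y, D x y → Nat.card (Tl K x y) ≤ 2) ∧
        ∀ x, x ≠ 0 → 4 ^ (finrank F V - 1) ≤ 2 * Nat.card (Tv K x))) → NullPol K

/-- KL-AF: rank 3 on points, 2-transitive on every line. -/
def JobAF : Prop :=
  JobMom.{u, v} →
  ∀ (F : Type u) [Field F] [Finite F] (V : Type v) [AddCommGroup V] [Module F V]
    [FiniteDimensional F V] (K : Subgroup (V ≃ₗ[F] V)) (D : V → V → Prop), Sc K → PT K →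
    5 ≤ finrank F V → LC K D → (∀ x y x' y', D x y → D x' y' → PrEq K x y x' y') →
    NullPol K ∨ F4 K ∨ Pl3 K

/-- KL-SP: the symplectic group has rank at least four. -/
def JobSp : Prop :=
  ∀ (F : Type u) [Field F] [Finite F] (V : Type v) [AddCommGroup V] [Module F V]
    [FiniteDimensional F V] (K : Subgroup (V ≃ₗ[F] V)), 5 ≤ finrank F V → NullPol K → Four K

/-- KL-F4: the semilinear group over the field of order four has rank at least four. -/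
def JobF4 : Prop :=
  ∀ (F : Type u) [Field F] [Finite F] (V : Type v) [AddCommGroup V] [Module F V]
    [FiniteDimensional F V] (K : Subgroup (V ≃ₗ[F] V)), 5 ≤ finrank F V → F4 K → Four K

/-- KL-AR: arithmetic. -/
def JobAr : Prop :=
  ∀ p e q : ℕ, p.Prime → 1 ≤ e → q = p ^ e →
    (∀ a t c i : ℕ, a * t = q → t ≠ 1 → c ∣ t - 1 → c ∣ q - 1 → i * (a * c) = q * (q - 1) →
      i - 1 ∣ (q + 1) * (a * c) →
      (a = 1 ∧ c = q - 1 ∧ i = q) ∨ (q = 4 ∧ a = 2 ∧ c = 1 ∧ i = 6)) ∧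
    ∀ n N P L : ℕ, 5 ≤ n → P * (q - 1) = q ^ n - 1 →
      L * ((q ^ 2 - 1) * (q - 1)) = (q ^ n - 1) * (q ^ (n - 1) - 1) →
      (∀ i : ℕ, i ∣ q * (q ^ 2 - 1) → (N + L = 1 + i * L ∨ N + L + P = 2 + i * L) →
        (∀ j, p ^ j ∣ i → p ^ (4 * j) ∣ N) → ¬ p ∣ N) ∧
      (N + P = 1 + q * L → ¬ q ^ 4 ∣ N) ∧ (q = 4 → N + P = 1 + 6 * L → ¬ 4 ∣ N) ∧
      (N + 2 * P = 2 + (q + 1) * L → ¬ p ∣ N) ∧ (N = 1 + q * L → ¬ p ∣ N) ∧ 2 * P ≤ L ∧
      ∀ M, M ≡ 1 [MOD q] → N + P = 1 + M → ¬ p ∣ N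

/-- The theorem. -/
def Main : Prop :=
  ∀ (F : Type u) [Field F] [Finite F] (V : Type v) [AddCommGroup V] [Module F V]
    [FiniteDimensional F V] (S K : Subgroup (V ≃ₗ[F] V)), Hyp S K →
    K.relIndex S * ((Nat.card F ^ 2 - 1) * (Nat.card F - 1)) =
      (Nat.card F ^ finrank F V - 1) * (Nat.card F ^ (finrank F V - 1) - 1)

end H51.KL
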