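/- Tower KU: a large additive subgroup of a hermitian space contains an isotropic vector. -/
import Cfsg.Agent.H53.KUSpec
import Cfsg.Agent.H69.FieldCoord

set_option autoImplicit false

namespace H51.KU

open H59 H53.WU H53.KU

theorem exists_zero_aux {V W : Type*} [AddCommGroup V] [AddCommGroup W] [Finite V] [Finite W]
    {p : ℕ} [hp : Fact p.Prime] [Module (ZMod p) V] [Module (ZMod p) W] (B : V →+ V →+ W)
    (hcard : Nat.card W ^ 2 < Nat.card V) : ∃ v : V, v ≠ 0 ∧ B v v = 0 := by
  rw [Module.natCard_eq_pow_finrank (K := ZMod p) (V := V),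
    Module.natCard_eq_pow_finrank (K := ZMod p) (V := W), ← pow_mul, Nat.card_zmod] at hcard
  exact H69.exists_ne_zero_of_bilin (Module.finBasis (ZMod p) V) (Module.finBasis (ZMod p) W)
    (LinearMap.mk₂ (ZMod p) (fun a b => B a b) (fun _ _ _ => by simp)
      (fun c a b => ZMod.map_smul (B.flip b) c a) (fun _ _ _ => by simp)
      fun c a b => ZMod.map_smul (B a) c b) ((Nat.pow_lt_pow_iff_right hp.out.one_lt).mp hcard)

theorem exists_zero_of_biadd {V W : Type*} [AddCommGroup V] [AddCommGroup W] [Finite V] [Finite W]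
    {p : ℕ} (hp : p.Prime) (hV : ∀ x : V, p • x = 0) (hW : ∀ x : W, p • x = 0) (B : V →+ V →+ W)
    (hcard : Nat.card W ^ 2 < Nat.card V) : ∃ v : V, v ≠ 0 ∧ B v v = 0 :=
  haveI := Fact.mk hp
  @exists_zero_aux V W _ _ _ _ p _ (AddCommGroup.zmodModule hV) (AddCommGroup.zmodModule hW) B hcard

theorem jobCW : JobCW := fun S M h => by
  obtain ⟨p, -, hp, _, -, -⟩ := exists_char_pow S.hF
  obtain ⟨c, hc⟩ := exists_trace_ne_zero S.h.ne_id
  let W : AddSubgroup S.F := (frob S.hF).toAddMonoidHom.eqLocus (AddMonoidHom.id _)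
  have hW : Nat.card W = S.q := card_fixed S.hF
  let L : S.F →+ W := AddMonoidHom.codRestrict ((AddMonoidHom.id _ + (frob S.hF).toAddMonoidHom).comp
    (AddMonoidHom.mulLeft c)) W fun x => by
      change frob S.hF (c * x + frob S.hF (c * x)) = c * x + frob S.hF (c * x)
      rw [map_add, frob_frob, add_comm]
  let B : M →+ M →+ W := AddMonoidHom.mk' (fun u => L.comp ((S.B u).toAddMonoidHom.comp M.subtype))
    fun u v => AddMonoidHom.ext fun w => by simp
  obtain ⟨v, hv, e⟩ := exists_zero_of_biadd hp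
    (fun x => Subtype.ext (by simp [← Nat.cast_smul_eq_nsmul S.F]))
    (fun x => Subtype.ext (by simp)) B (hW ▸ h)
  refine ⟨v, v.2, fun z => hv (Subtype.ext z), ?_⟩
  have e' : c * S.B v v + frob S.hF (c * S.B v v) = 0 := congrArg Subtype.val e
  rw [map_mul, S.h.symm, ← add_mul] at e'
  exact (mul_eq_zero.1 e').resolve_left hc

end H51.KU
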