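import Cfsg.Agent.H63.KgvSpec

/-! Slot KGV-TmSt: tensor induction of a graded matrix representation. -/

set_option autoImplicit false

namespace H51.KgvTm

open Finset Cfsg H63.Kgv

universe u

theorem isChar_trace {E : Type u} [Group E] {S : Type*} [Fintype S] [DecidableEq S]
    (φ : E →* Matrix S S ℂ) : IsCharacter E fun y => (φ y).trace := by
  let e := Fintype.equivFin S
  refine ⟨Fintype.card S, ((Matrix.toLinAlgEquiv' (R := ℂ)).toMonoidHom.comp
    ((Matrix.reindexAlgEquiv ℂ ℂ e).toMonoidHom.comp φ)), funext fun y => ?_⟩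
  show LinearMap.trace ℂ _ (Matrix.toLin' (Matrix.reindex e e (φ y))) = _
  rw [Matrix.trace_toLin'_eq]
  exact Equiv.sum_comp e.symm fun i => φ y i i

section Main

variable {E : Type u} [Group E] {H : Subgroup E} [H.Normal] [Fintype (E ⧸ H)] [DecidableEq (E ⧸ H)]
  {n : ℕ} (ρ : H →* Matrix (Fin n) (Fin n) ℂ)

open Classical in
/-- extension by zero -/
noncomputable def RR (g : E) : Matrix (Fin n) (Fin n) ℂ := if h : g ∈ H then ρ ⟨g, h⟩ else 0

omit [H.Normal] [Fintype (E ⧸ H)] [DecidableEq (E ⧸ H)] in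
theorem RR_coe (h : H) : RR ρ h = ρ h := dif_pos h.2

omit [H.Normal] [Fintype (E ⧸ H)] [DecidableEq (E ⧸ H)] in
theorem RR_mul {g k : E} (hg : g ∈ H) (hk : k ∈ H) : RR ρ (g * k) = RR ρ g * RR ρ k := by
  rw [show g = (⟨g, hg⟩ : H) from rfl, show k = (⟨k, hk⟩ : H) from rfl, ← Subgroup.coe_mul, RR_coe, RR_coe,
    RR_coe, map_mul]

omit [H.Normal] [Fintype (E ⧸ H)] [DecidableEq (E ⧸ H)] in
theorem RR_one : RR ρ 1 = 1 := by rw [← Subgroup.coe_one H, RR_coe, map_one]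

/-- sections -/
def Sc (σ : E ⧸ H → E) : Prop := ∀ q, (σ q : E ⧸ H) = q

omit [Fintype (E ⧸ H)] [DecidableEq (E ⧸ H)] in
theorem mem_of {σ τ : E ⧸ H → E} (hσ : Sc σ) (hτ : Sc τ) (y : E) (q : E ⧸ H) :
    (τ ((y : E ⧸ H) * q))⁻¹ * y * σ q ∈ H := by
  rw [← QuotientGroup.eq_one_iff, QuotientGroup.mk_mul, QuotientGroup.mk_mul, QuotientGroup.mk_inv, hσ, hτ]
  group

noncomputable def TT (τ σ : E ⧸ H → E) (y : E) : Matrix (E ⧸ H → Fin n) (E ⧸ H → Fin n) ℂ :=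
  fun b a => ∏ q, RR ρ ((τ ((y : E ⧸ H) * q))⁻¹ * y * σ q) (b ((y : E ⧸ H) * q)) (a q)

theorem TT_mul {υ τ σ : E ⧸ H → E} (hυ : Sc υ) (hτ : Sc τ) (hσ : Sc σ) (y z : E) :
    TT ρ υ τ y * TT ρ τ σ z = TT ρ υ σ (y * z) := by
  ext b a
  have e : ∀ q, (υ (((y * z : E) : E ⧸ H) * q))⁻¹ * (y * z) * σ q =
      ((υ ((y : E ⧸ H) * ((z : E ⧸ H) * q)))⁻¹ * y * τ ((z : E ⧸ H) * q)) *
        ((τ ((z : E ⧸ H) * q))⁻¹ * z * σ q) := fun q => by
    rw [QuotientGroup.mk_mul, mul_assoc (y : E ⧸ H)]; group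
  simp only [TT, Matrix.mul_apply, e, RR_mul ρ (mem_of hτ hυ y _) (mem_of hσ hτ z _)]
  rw [Finset.prod_univ_sum, Fintype.piFinset_univ]
  refine Fintype.sum_equiv (Equiv.arrowCongr (Equiv.mulLeft (z : E ⧸ H)).symm (Equiv.refl _)) _ _ fun c => ?_
  rw [prod_mul_distrib, ← Equiv.prod_comp (Equiv.mulLeft (z : E ⧸ H))]
  simp only [Equiv.coe_mulLeft, Equiv.arrowCongr_apply, Equiv.symm_symm, Equiv.coe_refl, Function.comp,
    id, QuotientGroup.mk_mul, mul_assoc]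

theorem TT_one (σ : E ⧸ H → E) : TT ρ σ σ 1 = 1 := by
  ext b a
  simp only [TT, QuotientGroup.mk_one, one_mul, mul_one, inv_mul_cancel, RR_one, Matrix.one_apply]
  rw [Finset.prod_boole]
  simp [funext_iff]

variable {A : Type} [AddCommMonoid A] {dg : Fin n → A}

omit [DecidableEq (E ⧸ H)] in
theorem TT_gr (hg : ∀ h a b, dg a ≠ dg b → ρ h a b = 0) (τ σ : E ⧸ H → E) (y : E)
    (b a : E ⧸ H → Fin n) (h : ∑ q, dg (b q) ≠ ∑ q, dg (a q)) : TT ρ τ σ y b a = 0 := by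
  by_contra h0
  apply h
  rw [← Equiv.sum_comp (Equiv.mulLeft (y : E ⧸ H))]
  refine sum_congr rfl fun q _ => ?_
  by_contra h1
  refine h0 (prod_eq_zero (mem_univ q) ?_)
  unfold RR
  split_ifs
  · exact hg _ _ _ h1
  · rfl

theorem tr_indep (hg : ∀ h a b, dg a ≠ dg b → ρ h a b = 0) (w : A → ℂ) {τ σ : E ⧸ H → E} (hτ : Sc τ)
    (hσ : Sc σ) (y : E) :
    ∑ a, w (∑ q, dg (a q)) * TT ρ σ σ y a a = ∑ a, w (∑ q, dg (a q)) * TT ρ τ τ y a a := by
  let W : Matrix (E ⧸ H → Fin n) (E ⧸ H → Fin n) ℂ := Matrix.diagonal fun a => w (∑ q, dg (a q))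
  have t : ∀ M : Matrix (E ⧸ H → Fin n) (E ⧸ H → Fin n) ℂ,
      ∑ a, w (∑ q, dg (a q)) * M a a = (W * M).trace := fun M => by
    simp only [W, Matrix.trace, Matrix.diag, Matrix.diagonal_mul]
  have c : W * TT ρ σ τ 1 = TT ρ σ τ 1 * W := by
    ext b a
    simp only [W, Matrix.diagonal_mul, Matrix.mul_diagonal]
    by_cases h : ∑ q, dg (b q) = ∑ q, dg (a q)
    · rw [h, mul_comm]
    · rw [TT_gr ρ hg _ _ _ _ _ h, mul_zero, zero_mul]
  have e : TT ρ σ σ y = TT ρ σ τ 1 * (TT ρ τ τ y * TT ρ τ σ 1) := by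
    rw [TT_mul ρ hτ hτ hσ, TT_mul ρ hσ hτ hσ, one_mul, mul_one]
  rw [t, t, e, ← Matrix.mul_assoc, c, Matrix.mul_assoc, Matrix.trace_mul_comm, Matrix.mul_assoc,
    Matrix.mul_assoc, TT_mul ρ hτ hσ hτ, mul_one, TT_one, Matrix.mul_one]

theorem block_char [DecidableEq A] (hg : ∀ h a b, dg a ≠ dg b → ρ h a b = 0) {σ : E ⧸ H → E} (hσ : Sc σ) (c : A) :
    IsCharacter E fun y => ∑ a : {a : E ⧸ H → Fin n // ∑ q, dg (a q) = c}, TT ρ σ σ y a.1 a.1 := by
  let φ : E →* Matrix {a : E ⧸ H → Fin n // ∑ q, dg (a q) = c} {a : E ⧸ H → Fin n // ∑ q, dg (a q) = c} ℂ :=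
    { toFun := fun y => (TT ρ σ σ y).submatrix Subtype.val Subtype.val
      map_one' := by
        rw [TT_one]
        ext a b
        simp [Matrix.one_apply, Subtype.ext_iff]
      map_mul' := fun y z => by
        ext b a
        rw [← TT_mul ρ hσ hσ hσ]
        simp only [Matrix.submatrix_apply, Matrix.mul_apply]
        symm
        refine Finset.sum_of_injOn Subtype.val Subtype.val_injective.injOn (fun _ _ => mem_univ _)
          (fun d _ hd => ?_) fun _ _ => rfl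
        rw [TT_gr ρ hg σ σ y b.1 d fun h => hd ⟨⟨d, h.symm.trans b.2⟩, mem_univ _, rfl⟩, zero_mul] }
  exact isChar_trace φ

omit [Fintype (E ⧸ H)] [DecidableEq (E ⧸ H)] in
theorem exists_idx {r : ℕ} (hr : r.Prime) (hi : H.index = r) {g : E} (hg : g ∉ H) :
    ∃ i : E ⧸ H → ℕ, (∀ q, i q < r) ∧ (∀ q, ((g : E ⧸ H)) ^ i q = q) ∧ (∀ j < r, i ((g : E ⧸ H) ^ j) = j) ∧
      (g : E ⧸ H) ^ r = 1 := by
  have hc : Nat.card (E ⧸ H) = r := hi
  have : Fact r.Prime := ⟨hr⟩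
  have h1 : (g : E ⧸ H) ≠ 1 := fun e => hg ((QuotientGroup.eq_one_iff _).1 e)
  have hp : (g : E ⧸ H) ^ r = 1 := hc ▸ pow_card_eq_one'
  have ho : orderOf (g : E ⧸ H) = r := orderOf_eq_prime hp h1
  have ex : ∀ q : E ⧸ H, ∃ j, j < r ∧ (g : E ⧸ H) ^ j = q := fun q => by
    have := mem_powers_of_prime_card hc h1 (g' := q)
    obtain ⟨k, rfl⟩ := this
    exact ⟨k % r, Nat.mod_lt _ hr.pos, by rw [← ho]; exact pow_mod_orderOf _ _⟩
  choose i h2 h3 using ex
  refine ⟨i, h2, h3, fun j hj => ?_, hp⟩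
  exact pow_injOn_Iio_orderOf (by rw [ho]; exact h2 _) (by rw [ho]; exact hj) (h3 _)

end Main

theorem ee_add (p : ℕ) [Fact p.Prime] (a b : ZMod p) : ee p (a + b) = ee p a * ee p b :=
  AddChar.map_add_eq_mul _ _ _

theorem ee_zero (p : ℕ) [Fact p.Prime] : ee p 0 = 1 := AddChar.map_zero_eq_one _

theorem ee_sum (p : ℕ) [Fact p.Prime] {ι : Type*} (s : Finset ι) (f : ι → ZMod p) :
    ee p (∑ i ∈ s, f i) = ∏ i ∈ s, ee p (f i) := by
  classical
  induction s using Finset.induction_on with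
  | empty => rw [sum_empty, prod_empty, ee_zero]
  | insert a s h ih => rw [sum_insert h, prod_insert h, ee_add, ih]

theorem job : TmSt.{u} := by
  intro p _ E _ _ H _ r n x ρ dg Γ hr hi hx hg h1 h2
  classical
  have : Fintype (E ⧸ H) := Fintype.ofFinite _
  have hc : Fintype.card (E ⧸ H) = r := by rw [← Nat.card_eq_fintype_card]; exact hi
  let σ : E ⧸ H → E := Quotient.out
  have hσ : Sc σ := fun q => QuotientGroup.out_eq' q
  refine ⟨_, fun c => ⟨_, 0, block_char ρ hg hσ c, ⟨0, 1, ?_⟩, (sub_zero _).symm⟩, fun t _ y => ?_⟩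
  · funext y
    simp [Representation.character]
  have e : ∑ c : ZMod p, ee p (t * c) * ∑ a : {a : E ⧸ H → Fin n // ∑ q, dg (a q) = c}, TT ρ σ σ y a.1 a.1
      = ∑ a, ee p (t * ∑ q, dg (a q)) * TT ρ σ σ y a a := by
    rw [← Fintype.sum_fiberwise (fun a : E ⧸ H → Fin n => ∑ q, dg (a q))]
    refine sum_congr rfl fun c _ => ?_
    rw [mul_sum]
    exact sum_congr rfl fun a _ => by rw [a.2]
  refine Eq.trans ?_ e.symm
  by_cases hy : y ∈ H
  · obtain ⟨i, i1, i2, i3, -⟩ := exists_idx hr hi (g := x⁻¹) (fun h => hx (inv_mem_iff.1 h))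
    have hτ : Sc fun q : E ⧸ H => x⁻¹ ^ i q := fun q => by
      show ((x⁻¹ ^ i q : E) : E ⧸ H) = q
      rw [QuotientGroup.mk_pow, i2]
    rw [tr_indep ρ hg (fun c => ee p (t * c)) hτ hσ, show y = (⟨y, hy⟩ : H) from rfl, h1]
    have y1 : (y : E ⧸ H) = 1 := (QuotientGroup.eq_one_iff _).2 hy
    simp only [TT, y1, one_mul, mul_sum, ee_sum, ← prod_mul_distrib]
    rw [← Fintype.piFinset_univ, ← Finset.prod_univ_sum (fun _ => univ)
      (fun q a => ee p (t * dg a) * RR ρ ((x⁻¹ ^ i q)⁻¹ * y * x⁻¹ ^ i q) a a)]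
    symm
    refine Finset.prod_bij (fun q _ => i q) (fun q _ => mem_range.2 (i1 q))
      (fun q _ q' _ h => by rw [← i2 q, ← i2 q', h]) (fun j hj => ⟨_, mem_univ _, i3 j (mem_range.1 hj)⟩)
      fun q _ => ?_
    rw [← RR_coe, MulAut.conjNormal_apply, inv_pow, inv_inv]
  · obtain ⟨i, i1, i2, i3, i4⟩ := exists_idx hr hi hy
    have hτ : Sc fun q : E ⧸ H => y ^ i q := fun q => by
      show ((y ^ i q : E) : E ⧸ H) = q
      rw [QuotientGroup.mk_pow, i2]
    have yr : y ^ r ∈ H := by rw [← QuotientGroup.eq_one_iff, QuotientGroup.mk_pow, i4]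
    have k1 : ∀ q, i q + 1 < r → (y ^ i ((y : E ⧸ H) * q))⁻¹ * y * y ^ i q = 1 := fun q h => by
      have : i ((y : E ⧸ H) * q) = i q + 1 := by
        conv_lhs => rw [← i2 q, ← pow_succ', i3 _ h]
      rw [this]; group
    have r1 : r - 1 + 1 = r := Nat.sub_add_cancel hr.pos
    have i5 : i ((y : E ⧸ H) ^ (r - 1)) = r - 1 := i3 _ (by omega)
    have k2 : (y ^ i ((y : E ⧸ H) * (y : E ⧸ H) ^ (r - 1)))⁻¹ * y * y ^ i ((y : E ⧸ H) ^ (r - 1)) = y ^ r := by
      have : i ((y : E ⧸ H) * (y : E ⧸ H) ^ (r - 1)) = 0 := by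
        rw [← pow_succ', r1, i4, ← pow_zero (y : E ⧸ H), i3 _ hr.pos]
      rw [this, i5, pow_zero, inv_one, one_mul, ← pow_succ', r1]
    rw [tr_indep ρ hg (fun c => ee p (t * c)) hτ hσ, h2 t y ⟨_, yr⟩ hy rfl]
    refine Finset.sum_of_injOn (fun (a : Fin n) (_ : E ⧸ H) => a) (fun a _ b _ h => congrFun h 1)
      (fun _ _ => mem_univ _) (fun a _ ha => ?_) fun a _ => ?_
    · by_contra h0
      have h3 : ∀ j < r, a ((y : E ⧸ H) ^ j) = a 1 := by
        intro j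
        induction j with
        | zero => intro _; rw [pow_zero]
        | succ j ih =>
          intro hj
          rw [← ih (by omega), pow_succ']
          by_contra h4
          refine h0 (mul_eq_zero_of_right _ (prod_eq_zero (mem_univ ((y : E ⧸ H) ^ j)) ?_))
          rw [k1 _ (by rw [i3 _ (by omega)]; exact hj), RR_one, Matrix.one_apply_ne h4]
      exact ha ⟨a 1, mem_univ _, funext fun q => by rw [← i2 q, h3 _ (i1 q)]⟩
    · rw [sum_const, card_univ, hc, nsmul_eq_mul, ← RR_coe]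
      congr 1
      · congr 1; ring
      · unfold TT
        rw [prod_eq_single ((y : E ⧸ H) ^ (r - 1)) (fun q _ hq => ?_) fun h => (h (mem_univ _)).elim, k2]
        rw [k1 q ?_, RR_one, Matrix.one_apply_eq]
        have := i1 q
        by_contra h5
        exact hq (by rw [← i2 q, show i q = r - 1 by omega])

end H51.KgvTm
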