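import Cfsg.Agent.H23.NDSpec

/-! The job `JobTop` of the tower for S4780: the top quotient of a solvable group without
divisibility among the character degrees. -/

set_option autoImplicit false
open Cfsg H28 H32 H44 H93.DG H55.Nd H23.ND MulAction

namespace H51.ND

universe u

theorem gen_of_topB {G : Type u} [Group G] [Finite G] {r : ℕ} {K N : Subgroup G} [hK : K.Normal]
    [hN : N.Normal] (hB : TopB r K N) (gN : commutator G ≤ N) (gK : ¬ commutator G ≤ K) :
    ∃ h : G, N ⊔ Subgroup.zpowers h = ⊤ := by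
  obtain ⟨w, hw, hk⟩ := SetLike.not_le_iff_exists.1 gK
  obtain ⟨l, h1, h2⟩ := exists_hom_ne_one_of_commutator_le (K.subgroupOf N)
    (Subgroup.commutator_le.2 fun a _ b _ => hB.2.2.2.2.1 (cm_mem a.2 b.2))
    (a := ⟨w, gN hw⟩) hk
  obtain ⟨μ, hl, h3⟩ : ∃ μ ∈ VV K N, ev μ w ≠ 1 :=
    ⟨l, fun x hx h => (ev_of hx).trans (h1 ⟨x, hx⟩ h), fun e => h2 ((ev_of (gN hw)).symm.trans e)⟩
  have h0 : VV K N ≠ ⊥ := fun e => h3 (by
    rw [e, Subgroup.mem_bot] at hl
    rw [hl, ev_lone])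
  obtain ⟨h, hh⟩ := cyc (H := G) (VV K N)
    (fun g a ha x hx hk => by
      rw [ev_smul hx]
      exact ha _ (hN.conj_mem' x hx g) (hK.conj_mem' x hk g)) h0
    (fun a b w _ => by
      have e : a * b = b * a * (a⁻¹ * b⁻¹ * a⁻¹⁻¹ * b⁻¹⁻¹) := by group
      rw [e, mul_smul (b * a),
        mem_stabilizer_iff.1 (H23.Garr.le_stab w (gN (comm_mem_commutator a⁻¹ b⁻¹)))])
    (K := N) (fun w hw w1 g hg => by
      by_contra hgN
      refine w1 (ev_ext fun n hn => ?_)
      obtain ⟨y, hy, e⟩ := hB.2.2.2.2.2.2 g hgN n hn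
      have c : g * y * g⁻¹ * y⁻¹ ∈ N := mul_mem (hN.conj_mem y hy g) (inv_mem hy)
      have := hw _ (mul_mem (inv_mem hn) c) e
      rw [ev_mul (inv_mem hn) c, ev_cm (mem_stabilizer_iff.1 hg) hy, mul_one, ev_inv hn,
        inv_eq_one] at this
      rw [this, ev_lone])
  refine ⟨h, eq_top_iff.2 fun y _ => ?_⟩
  obtain ⟨n, hn⟩ := hh y
  have := mul_mem (Subgroup.mem_sup_right (S := N) (Subgroup.zpow_mem_zpowers h n))
    (Subgroup.mem_sup_left hn)
  rwa [mul_inv_cancel_left] at this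

theorem jobTop : JobTop.{u} := by
  intro G _ _ _ nd
  by_cases h0 : ∀ d ∈ charDegrees G, d = 1
  · exact .inl ⟨1, fun d hd => .inl (h0 d hd)⟩
  push Not at h0
  obtain ⟨d0, hd0, d1⟩ := h0
  obtain ⟨r, K, N, hK, hN, hr, -, -, gN, gK, -, pw, ⟨a, hA⟩ | hB⟩ :=
    top_cases _ le_rfl (not_le_commutator_of_isSolvable hd0 d1)
  · obtain ⟨L, _, l1, k, l2⟩ := exists_npc (G := G) hr fun d hd h1 => by
      by_contra h2
      obtain ⟨z, hz, h3⟩ := hA.of_not_dvd hr hd h2
      exact (hA.one_lt hr).ne' (nd.mul hd hz h1 (mul_comm _ d ▸ h3))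
    refine .inl ⟨d0, fun d hd => (em _).imp_right fun h =>
      nd.caseA hr l1 l2 (fun h => gK fun x hx => mem_of_pows (pw x hx) ?_
        ((Nat.Prime.coprime_iff_not_dvd hr).2 l1)) d hd d0 hd0 h d1⟩
    rw [show x ^ Nat.card L = 1 from congrArg Subtype.val (pow_card_eq_one' (x := (⟨x, h hx⟩ : L)))]
    exact one_mem _
  right
  have := Fact.mk hr
  obtain ⟨h, hh⟩ := gen_of_topB hB gN gK
  have dv : ∀ d ∈ charDegrees N, d ≠ 1 → r ∣ d := fun d => nd.dvd hB hr
  obtain ⟨L, hL, l1, k, l2⟩ := exists_npc hr dv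
  obtain ⟨P⟩ : Nonempty (Sylow r N) := inferInstance
  have inj := N.subtype_injective
  have co : r.Coprime (Nat.card L) := (Nat.Prime.coprime_iff_not_dvd hr).2 l1
  have pL : ∀ x ∈ L.map N.subtype, x ^ Nat.card L = 1 := by
    rintro _ ⟨x, hx, rfl⟩
    have := congrArg Subtype.val (pow_card_eq_one' (x := (⟨x, hx⟩ : L)))
    exact congrArg Subtype.val this
  have nL : (L.map N.subtype).Normal := ⟨fun x hx g => by
    have hxN : g * x * g⁻¹ ∈ N := hN.conj_mem x (Subgroup.map_subtype_le _ hx) g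
    refine ⟨⟨_, hxN⟩, mem_of_pows (K := L) (n := Nat.card L) (L.pow_index_mem _) ?_
      (l2 ▸ co.pow_left k), rfl⟩
    have : (⟨_, hxN⟩ : N) ^ Nat.card L = 1 := Subtype.ext (by
      change (g * x * g⁻¹) ^ Nat.card L = 1
      rw [conj_pow, pL x hx, mul_one, mul_inv_cancel])
    rw [this]
    exact one_mem _⟩
  have sup : L.map N.subtype ⊔ (P : Subgroup N).map N.subtype = N := by
    have : L ⊔ (P : Subgroup N) = ⊤ := Subgroup.index_eq_one.1 (Nat.eq_one_of_dvd_coprimes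
      (Nat.Coprime.pow_left k ((Nat.Prime.coprime_iff_not_dvd hr).2 P.not_dvd_index))
      (l2 ▸ Subgroup.index_dvd_of_le le_sup_left) (Subgroup.index_dvd_of_le le_sup_right))
    rw [← Subgroup.map_sup, this, ← MonoidHom.range_eq_map, Subgroup.range_subtype]
  have LK : L.map N.subtype ≤ K := fun x hx => by
    obtain ⟨j, -, e⟩ := hB.2.2.2.1
    refine mem_of_pows (pow_rel (K := K) (Subgroup.map_subtype_le _ hx)) (n := Nat.card L) ?_
      (e ▸ co.pow_left j)
    rw [pL x hx]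
    exact one_mem _
  obtain ⟨x, hx, xK⟩ := SetLike.not_le_iff_exists.1
    (show ¬ (P : Subgroup N).map N.subtype ≤ K from fun e => gK (gN.trans (sup ▸ sup_le LK e)))
  have hN' : h ∉ N := fun e => hB.one_lt.ne' (by
    rw [sup_eq_left.2 (Subgroup.zpowers_le_of_mem e)] at hh
    rw [hh, Subgroup.index_top])
  refine ⟨r, k, N, L.map N.subtype, (P : Subgroup N).map N.subtype, hN, nL, h,
    ⟨hr, nd, hh, hB.not_dvd, hB.one_lt, hB.mem_cd hr, dv⟩, Subgroup.map_subtype_le _, ?_, ?_,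
    P.isPGroup'.map _, sup, x, hx, fun e => xK ?_⟩
  · rwa [Subgroup.card_map_of_injective inj]
  · exact (congrArg Subgroup.index (Subgroup.comap_map_eq_self_of_injective inj L)).trans l2
  · refine hB.2.2.2.2.2.1 h hN' x (Subgroup.map_subtype_le _ hx) ?_
    have := inv_mem (sup_le hB.2.2.2.2.1 LK e)
    convert this using 1
    group

end H51.ND
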