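import Cfsg.Agent.H34.R5Spec
import Cfsg.Agent.H20.CN
import Cfsg.Agent.H26.NilpComm
import Cfsg.Agent.H82.ITM
import Cfsg.Agent.S0035

/-! Tower R5 (S3194), job I1: a nilpotent centraliser of order `b` is isolated and TI. -/

set_option autoImplicit false

namespace H51.R5
open Cfsg Subgroup H41.IT H34.R5
open scoped Pointwise

universe u

variable {G : Type u} [Group G] [Finite G] {x y : G} {e : ℕ}

theorem gen {H : Subgroup G} (hH : Group.IsNilpotent H) {z : G} (hz : z ∈ H) {q : ℕ}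
    [hq : Fact q.Prime] (ho : orderOf z = q) (Q : Sylow q G) (h1 : (Q : Subgroup G) ≤ H)
    (h2 : (Q : Subgroup G) ≤ C z) : H ≤ C z := by
  rw [← relIndex_eq_one]
  by_contra hn
  obtain ⟨r, hr, hd⟩ := Nat.exists_prime_and_dvd hn
  by_cases e : r = q
  · rw [e] at hd
    exact Q.not_dvd_index ((hd.trans (relIndex_dvd_of_le_left H h2)).trans
      (Dvd.intro _ (relIndex_mul_index h1)))
  have := Fact.mk hr
  obtain ⟨R⟩ : Nonempty (Sylow r H) := inferInstance
  have hR : (R : Subgroup H) ≤ (C z).subgroupOf H := fun a ha => by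
    obtain ⟨k, hk⟩ := (IsPGroup.iff_orderOf.1 R.isPGroup') ⟨a, ha⟩
    rw [← Subgroup.orderOf_coe (⟨a, ha⟩ : (R : Subgroup H)), ← Subgroup.orderOf_coe a] at hk
    refine mem_subgroupOf.2 (mem_C.2 (H26.commute_of_coprime_orderOf_of_mem hH a.2 hz ?_))
    rw [hk, ho]
    exact ((Nat.coprime_primes hr hq.1).2 e).pow_left k
  exact R.not_dvd_index (hd.trans (index_dvd_of_le hR))

omit [Finite G] in
theorem ord_cj (a k : G) : orderOf (a * k * a⁻¹) = orderOf k :=
  MulEquiv.orderOf_eq (MulAut.conj a) k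

omit [Finite G] in
theorem cj_one {a k : G} (h : a⁻¹ * k * a = 1) : k = 1 := by
  calc k = a * (a⁻¹ * k * a) * a⁻¹ := by group
    _ = 1 := by rw [h]; group

theorem full_syl (h : BS x y e) {H : Subgroup G} (hH : Nat.card H = c y) {p : ℕ}
    [Fact p.Prime] (hp : p ∣ c y) : ∃ P : Sylow p G, (P : Subgroup G) ≤ H := by
  obtain ⟨P0⟩ : Nonempty (Sylow p H) := inferInstance
  obtain ⟨P, hP⟩ := (P0.isPGroup'.map H.subtype).exists_le_sylow
  refine ⟨P, (eq_of_le_of_card_ge hP ?_).ge.trans (map_subtype_le _)⟩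
  rw [h.sylow_card hp P, card_map_of_injective H.subtype_injective, P0.card_eq_multiplicity, hH]

omit [Finite G] in
theorem ms {p : ℕ} {P : Sylow p G} {a m : G} : m ∈ ((a • P : Sylow p G) : Subgroup G) ↔
    a⁻¹ * m * a ∈ (P : Subgroup G) := by
  rw [Sylow.coe_subgroup_smul, mem_pointwise_smul_iff_inv_smul_mem]
  simp

omit [Finite G] in
theorem C_cj {a k m : G} : m ∈ C (a * k * a⁻¹) ↔ a⁻¹ * m * a ∈ C k := by
  rw [mem_centralizer_singleton_iff, mem_centralizer_singleton_iff]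
  constructor
  · intro h
    calc a⁻¹ * m * a * k = a⁻¹ * (m * (a * k * a⁻¹)) * a := by group
      _ = _ := by rw [h]; group
  · intro h
    calc m * (a * k * a⁻¹) = a * (a⁻¹ * m * a * k) * a⁻¹ := by group
      _ = _ := by rw [h]; group

theorem eq_of_le (h : BS x y e) {H : Subgroup G} (hH : Nat.card H = c y) {z : G} (z1 : z ≠ 1)
    (hz : z ∈ H) (hle : H ≤ C z) : H = C z := by
  have h1 : orderOf z ≠ 1 := fun m => z1 (orderOf_eq_one_iff.1 m)
  have h2 := Nat.minFac_dvd (orderOf z)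
  have h3 : c y ∣ c z := hH ▸ card_dvd_of_le hle
  have h4 := h.bdvd z1 (Nat.minFac_prime h1) (h2.trans (hH ▸ orderOf_dvd_natCard H hz))
    (h2.trans (ord_dvd_c (mem_C.2 (Commute.refl z))))
  exact eq_of_le_of_card_ge hle (by rw [hH]; exact Nat.le_of_dvd Nat.card_pos h4)

theorem exz (h : BS x y e) {H : Subgroup G} (hH : Nat.card H = c y) (hn : Group.IsNilpotent H)
    {q : ℕ} [hq : Fact q.Prime] (hd : q ∣ c y) : ∃ z ∈ H, orderOf z = q ∧ H = C z := by
  obtain ⟨z, hz, ho, hc⟩ := H20.exists_center_prime_of_nil hn (hH ▸ hd)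
  exact ⟨z, hz, ho, eq_of_le h hH (fun m => hq.1.ne_one (by rw [← ho, m, orderOf_one])) hz
    fun a ha => mem_C.2 (hc a ha)⟩

theorem cen (h : BS x y e) {H : Subgroup G} (hH : Nat.card H = c y) (hn : Group.IsNilpotent H)
    (k : G) (hk : k ∈ H) (k1 : k ≠ 1) : C k ≤ H := by
  have h1 : orderOf k ≠ 1 := fun m => k1 (orderOf_eq_one_iff.1 m)
  have hp := Nat.minFac_prime h1
  generalize hpe : (orderOf k).minFac = p at hp
  have hpk : p ∣ orderOf k := hpe ▸ Nat.minFac_dvd _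
  obtain ⟨w, hw, ho, hle⟩ : ∃ w ∈ H, orderOf w = p ∧ C k ≤ C w :=
    ⟨k ^ (orderOf k / p), pow_mem hk _, orderOf_pow_orderOf_div (orderOf_pos k).ne' hpk,
      fun a ha => mem_C.2 ((mem_C.1 ha).pow_right _)⟩
  refine hle.trans ?_
  have w1 : w ≠ 1 := fun m => hp.ne_one (by rw [← ho, m, orderOf_one])
  have pb : p ∣ c y := ho ▸ hH ▸ orderOf_dvd_natCard H hw
  obtain ⟨q, hq, qb, qp⟩ : ∃ q : ℕ, q.Prime ∧ q ∣ c y ∧ q ≠ p := by
    by_contra m
    push Not at m
    exact h.np p _ hp (Nat.eq_prime_pow_of_unique_prime_dvd Nat.card_pos.ne' fun {d} d1 d2 =>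
      m d d1 d2)
  have := Fact.mk hp
  have := Fact.mk hq
  obtain ⟨z, hz, hoz, hC⟩ := exz h hH hn qb
  have co : (orderOf w).Coprime (orderOf z) := by
    rw [ho, hoz]
    exact (Nat.coprime_primes hp hq).2 qp.symm
  rcases h.bval w1 hp pb (ho ▸ ord_dvd_c (mem_C.2 (Commute.refl w))) with m | m
  swap
  · exact hC ▸ h.min w1 m (H26.commute_of_coprime_orderOf_of_mem hn hw hz co) co
  obtain ⟨P', hP'⟩ := full_syl h (H := C w) m pb
  obtain ⟨P, hP⟩ := full_syl h hH pb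
  obtain ⟨Q, hQ⟩ := full_syl h hH qb
  obtain ⟨a, rfl⟩ := MulAction.exists_smul_eq G P' P
  have wP : w ∈ (P' : Subgroup G) := by
    have p1 : IsPGroup p (zpowers w) := IsPGroup.of_card (n := 1) (by rw [Nat.card_zpowers, ho, pow_one])
    have p2 : w ∈ zpowers w ⊓ normalizer (P' : Set G) := ⟨mem_zpowers w,
      centralizer_le_normalizer _ fun b hb => (mem_C.1 (hP' hb)).eq⟩
    rw [p1.inf_normalizer_sylow] at p2
    exact p2.2
  have wH : a * w * a⁻¹ ∈ H := hP (ms.2 (by simpa [mul_assoc] using wP))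
  have e1 : H = C (a * w * a⁻¹) := eq_of_le h hH (by simpa using w1) wH
    (gen hn wH (by rw [ord_cj, ho]) (a • P') hP fun b hb => C_cj.2 (hP' (ms.1 hb)))
  have QW : (Q : Subgroup G) ≤ C w := fun b hb => mem_C.2 (by
    refine H26.commute_of_coprime_orderOf_of_mem hn (hQ hb) hw ?_
    obtain ⟨j, hj⟩ := (IsPGroup.iff_orderOf.1 Q.isPGroup') ⟨b, hb⟩
    rw [← Subgroup.orderOf_coe (⟨b, hb⟩ : (Q : Subgroup G))] at hj
    rw [hj, ho]
    exact ((Nat.coprime_primes hq hp).2 qp).pow_left j)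
  have zw : z ∈ C w := mem_C.2 (H26.commute_of_coprime_orderOf_of_mem hn hw hz co).symm
  have e2 : H ≤ C (a * z * a⁻¹) := gen hn (e1 ▸ C_cj.2 (by simpa [mul_assoc] using zw))
    (by rw [ord_cj, hoz]) (a • Q) (fun b hb => e1 ▸ C_cj.2 (QW (ms.1 hb)))
    fun b hb => C_cj.2 (hC ▸ hQ (ms.1 hb))
  intro b hb
  have := C_cj.1 (e2 (e1 ▸ C_cj.2 (show a⁻¹ * (a * b * a⁻¹) * a ∈ C w by
    simpa [mul_assoc] using hb)))
  rw [hC]
  simpa [mul_assoc] using this

theorem jobI1 : JobI1.{u} := by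
  intro G _ _ _ _ x y e h g hg hn
  have b1 : c y ≠ 1 := fun m => h.np 2 0 Nat.prime_two m
  have := Fact.mk (Nat.minFac_prime b1)
  obtain ⟨z, hz, ho, hC⟩ := exz h hg hn (Nat.minFac_dvd (c y))
  have z1 : z ≠ 1 := fun m => (Nat.minFac_prime b1).ne_one (by rw [← ho, m, orderOf_one])
  have ti : ∀ a : G, a ∉ normalizer (C g : Set G) → ∀ k ∈ C g, a * k * a⁻¹ ∈ C g → k = 1 := by
    intro a ha k hk hk'
    by_contra k1
    have z2 : a⁻¹ * z * a ∈ C g :=
      cen h hg hn k hk k1 (C_cj.1 (mem_C.2 (mem_C.1 (hC ▸ hk')).symm))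
    have e1 : C (a⁻¹ * z * a⁻¹⁻¹) = C g := eq_of_le_of_card_ge
      (cen h hg hn _ (by rwa [inv_inv]) (by rw [inv_inv]; exact fun m => z1 (cj_one m)))
      (by rw [show Nat.card (C (a⁻¹ * z * a⁻¹⁻¹)) = c z from H82.ITM.c_conj _ _, hC])
    refine ha (mem_normalizer_iff.2 fun m => ?_)
    rw [← e1, C_cj, e1, inv_inv, ← hC]
  refine ⟨cen h hg hn, ti, lt_of_le_of_ne le_normalizer fun m => ?_⟩
  have t1 : C g ≠ ⊥ := fun m => z1 (mem_bot.1 (m ▸ hz))
  have t2 : C g ≠ ⊤ := fun m => by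
    have h1 : Nat.card (C g) = c y := hg
    rw [m, card_top, h.card] at h1
    have h2 := h.ev
    rw [Nat.eq_of_mul_eq_mul_right Nat.card_pos (h1.trans (one_mul _).symm)] at h2
    exact absurd h2 (by decide)
  obtain ⟨N, -, hN, hc⟩ := Cfsg.Agent.S0035.result (C g) ⟨t1, t2, fun a ha => by
    rw [eq_bot_iff]
    rintro k ⟨k1, k2⟩
    have k3 : a⁻¹ * k * a ∈ C g := by
      have := mem_pointwise_smul_iff_inv_smul_mem.1 k2
      simpa using this
    exact cj_one (ti a (m ▸ ha) _ k3 (by simpa [mul_assoc] using k1))⟩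
  rcases IsSimpleGroup.eq_bot_or_eq_top_of_normal N hN with rfl | rfl
  · exact t2 (isComplement'_bot_left.1 hc)
  · exact t1 (isComplement'_top_left.1 hc)

end H51.R5
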