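import Cfsg.Agent.H51.RFSpec
import Cfsg.Agent.H2.MinNormal
import Cfsg.Agent.S4252
import Cfsg.Agent.S0042
import Cfsg.Agent.S0034
import Cfsg.Agent.S0144
import Cfsg.Agent.S0547
import Cfsg.Agent.S0494

/-! Tower R3F: Frobenius kernels, identification. -/

set_option autoImplicit false

namespace H51.R3F

open MulAction

universe u v

theorem kernel_at {G : Type u} {X : Type v} [Group G] [Finite G] [Finite X] [MulAction G X]
    {Γ : SimpleGraph X} {k lam mu : ℕ} (S : Gr G Γ k lam mu) (a : X) :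
    ∃ N : Subgroup G, (∀ g, g ∈ N ↔ g • a = a ∧ (g = 1 ∨ ∀ b, Γ.Adj a b → g • b ≠ b)) ∧
      Group.IsNilpotent N ∧ Nat.card N = k := by
  classical
  let Ω : SubMulAction (stabilizer G a) X :=
    ⟨{w | Γ.Adj a w}, fun g x hx => by
      have := S.inv g _ _ hx
      rwa [(g.2 : (g : G) • a = a)] at this⟩
  have := Fintype.ofFinite Ω
  have hc : Nat.card Ω = k := (Nat.card_coe_set_eq _).trans (S.deg a)
  have hk : 1 < k := by have := S.mu_pos; have := S.mu_lt; omega
  have htr : ∀ α β : Ω, ∃ g : stabilizer G a, g • α = β := fun α β => by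
    obtain ⟨g, h1, h2⟩ := S.arc a α β α.2 β.2
    exact ⟨⟨g, h1⟩, Subtype.ext h2⟩
  obtain ⟨g, a', b', hg, hab, h1, h2⟩ := S.nreg
  obtain ⟨s, rfl⟩ := S.tr a a'
  have hb : Γ.Adj a (s⁻¹ • b') := by simpa using S.inv s⁻¹ _ _ hab
  obtain ⟨F, hF⟩ := Cfsg.Agent.S4252.result (G := stabilizer G a) (Ω := Ω)
    (by rwa [← Nat.card_eq_fintype_card, hc]) htr
    ⟨⟨s⁻¹ * g * s, by simp [mul_smul, h1]⟩, fun e => hg (by
      rw [show g = s * (s⁻¹ * g * s) * s⁻¹ by group, show s⁻¹ * g * s = 1 from congrArg Subtype.val e]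
      group), ⟨_, hb⟩, Subtype.ext (by show (s⁻¹ * g * s) • s⁻¹ • b' = s⁻¹ • b'; simp [mul_smul, h2])⟩
    (fun x hx α β h3 h4 => by
      by_contra hne
      exact hx (Subtype.ext (S.frob x a α β x.2 α.2 β.2 (fun e => hne (Subtype.ext e))
        (congrArg Subtype.val h3) (congrArg Subtype.val h4)))) ⟨_, hb⟩
  obtain ⟨K, hK, -, hnil⟩ := Cfsg.Agent.S0042.result _ F
  have hcard := (Cfsg.Agent.S0034.result _ F).1
  have : IsPretransitive (stabilizer G a) Ω := ⟨htr⟩
  rw [index_stabilizer_of_transitive, hc, ← hK] at hcard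
  have e := K.equivMapOfInjective _ (stabilizer G a).subtype_injective
  refine ⟨K.map (stabilizer G a).subtype, fun x => ⟨?_, fun ⟨h3, h4⟩ => ⟨⟨x, h3⟩, ?_, rfl⟩⟩,
    Group.nilpotent_of_mulEquiv e, (Nat.card_congr e.toEquiv).symm.trans hcard⟩
  · rintro ⟨y, hy, rfl⟩
    rw [hK, hF] at hy
    exact ⟨y.2, hy.imp (fun h => by rw [h]; rfl) fun h b hb e => h ⟨b, hb⟩ (Subtype.ext e)⟩
  · rw [hK, hF]
    exact h4.imp (fun h => Subtype.ext h) fun h ω e => h ω ω.2 (congrArg Subtype.val e)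

theorem jobN1 : JobN1.{u, v} := by
  intro G X _ _ _ _ Γ k lam mu S
  choose N memN nilp cardN using kernel_at S
  refine ⟨N, S, memN, fun a b b' hb hb' => ?_, fun a s g hg => ?_, fun a g x hg hx h1 hc => ?_, nilp,
    cardN⟩
  · let f : N a → {w | Γ.Adj a w} := fun g => ⟨(g : G) • b, by
      have := S.inv g _ _ hb
      rwa [((memN a g).1 g.2).1] at this⟩
    have hf : Function.Injective f := fun x y hxy => by
      have h1 : (x : G) • b = (y : G) • b := congrArg Subtype.val hxy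
      rcases ((memN a _).1 (y⁻¹ * x).2).2 with h | h
      · exact (inv_mul_eq_one.1 (Subtype.ext h)).symm
      · exact absurd (by simp [mul_smul, h1]) (h b hb)
    obtain ⟨g, hg⟩ := (hf.bijective_of_nat_card_le (by
      rw [cardN, Nat.card_coe_set_eq, S.deg])).2 ⟨b', hb'⟩
    exact ⟨g, g.2, congrArg Subtype.val hg⟩
  · obtain ⟨h1, h2⟩ := (memN a g).1 hg
    refine (memN _ _).2 ⟨by simp [mul_smul, h1], h2.imp (fun h => by simp [h]) fun h b hb e => ?_⟩
    refine h (s⁻¹ • b) (by simpa using S.inv s⁻¹ _ _ hb) ?_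
    rw [eq_inv_smul_iff, ← mul_smul, ← mul_smul, e]
  · by_contra hn
    rw [memN] at hn
    push Not at hn
    obtain ⟨h2, b, hb, h3⟩ := hn hg
    obtain ⟨h4, h5⟩ := (memN a x).1 hx
    have h6 := S.inv x _ _ hb
    rw [h4] at h6
    exact h2 (S.frob g a b (x • b) hg hb h6 (h5.resolve_left h1 b hb).symm h3
      (by rw [← mul_smul, hc, mul_smul, h3]))

theorem jobFin : JobFin.{u, v} := by
  intro G X _ _ _ _ _ hp
  have key : 1 < Nat.card X → Group.IsSolvable G → ∃ N : Subgroup G, N.Normal ∧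
      Nat.card N = Nat.card X ∧ (∃ p d : ℕ, p.Prime ∧ Nat.card X = p ^ d) ∧
      ∀ x y : X, ∃! n : ↥N, (n : G) • x = y := by
    intro h1 _
    have : Nontrivial X := Finite.one_lt_card_iff_nontrivial.1 h1
    have : Nontrivial G := by
      obtain ⟨x, y, hxy⟩ := exists_pair_ne X
      obtain ⟨g, hg⟩ := hp.exists_smul_eq x y
      exact ⟨g, 1, fun e => hxy (by rw [← hg, e, one_smul])⟩
    obtain ⟨M, hM, h2, h3⟩ := H2.exists_minimal_normal G
    obtain ⟨h4, h5, p, d, h6, -, h7, h8⟩ := Cfsg.Agent.S0547.result hp M h2 h3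
    refine ⟨M, hM, h8.trans h7.symm, ⟨p, d, h6, h7⟩, fun x y => ?_⟩
    obtain ⟨n, hn⟩ := h4.exists_smul_eq x y
    refine ⟨n, hn, fun n' hn' => ?_⟩
    have : n⁻¹ * n' ∈ stabilizer M x := by
      rw [mem_stabilizer_iff, mul_smul, inv_smul_eq_iff, hn]
      exact hn'
    rw [h5, Subgroup.mem_bot] at this
    exact (inv_mul_eq_one.1 this).symm
  refine ⟨fun h1 h2 => ?_, fun h1 ⟨p, i, j, h2, h3⟩ => ?_⟩
  · have sq : ∀ (H : Type u) [Group H] [Finite H], Nat.card H ∣ 30 → Group.IsSolvable H := by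
      intro H _ _ h
      have := IsZGroup.of_squarefree (G := H) (Squarefree.squarefree_of_dvd h (by decide +kernel))
      infer_instance
    have hns : ¬ Group.IsSolvable G := fun hs => by
      obtain ⟨-, -, -, ⟨p, d, h3, h4⟩, -⟩ := key (by omega) hs
      rw [h1] at h4
      have h5 := (Nat.prime_dvd_prime_iff_eq Nat.prime_two h3).1
        (Nat.prime_two.dvd_of_dvd_pow (n := d) (by rw [← h4]; norm_num))
      have h6 := (Nat.prime_dvd_prime_iff_eq Nat.prime_five h3).1
        (Nat.prime_five.dvd_of_dvd_pow (n := d) (by rw [← h4]; norm_num))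
      omega
    have : Nontrivial G := Finite.one_lt_card_iff_nontrivial.1 (by omega)
    have : IsSimpleGroup G := ⟨fun M hM => by
      by_contra hc
      push Not at hc
      have h3 : IsPretransitive M X := IsQuasiPreprimitive.isPretransitive_of_normal (fun e =>
        hc.1 ((Subgroup.eq_bot_iff_forall _).2 fun g hg => eq_of_smul_eq_smul (α := X) fun x => by
          rw [one_smul]
          exact (show x ∈ fixedPoints M X by rw [e]; trivial) ⟨g, hg⟩))
      obtain ⟨x⟩ : Nonempty X := (Nat.card_pos_iff.1 (by omega)).1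
      obtain ⟨r, hr⟩ : 10 ∣ Nat.card M := by
        rw [← h1, ← index_stabilizer_of_transitive M x]
        exact Subgroup.index_dvd_card _
      have h4 := M.card_mul_index
      have h5 : M.index ≠ 1 := fun e => hc.2 (Subgroup.index_eq_one.1 e)
      rw [hr, h2] at h4
      have h6 : r * M.index = 6 := by linarith
      have h7 : M.index ∣ 30 := (Dvd.intro_left _ h6).trans (by norm_num)
      refine hns ((Group.isSolvable_iff_subgroup_quotient M).2 ⟨?_, sq _ h7⟩)
      have h8 : r ≤ 6 := Nat.le_of_dvd (by norm_num) (Dvd.intro _ h6)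
      by_cases h9 : r = 2
      · exact Cfsg.Agent.S0144.result 2 5 2 1 Nat.prime_two Nat.prime_five (by rw [hr, h9]; norm_num)
      · refine sq _ ?_
        rw [hr]
        interval_cases r <;> omega⟩
    exact Cfsg.Agent.S0494.result h2
  · have hs := Cfsg.Agent.S0144.result 2 p i j Nat.prime_two h2 h3
    obtain ⟨N, h4, h5, -, h6⟩ := key (by omega) hs
    exact ⟨hs, N, h4, h5.trans h1, h6⟩

end H51.R3F
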