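import Cfsg.Agent.H51.TESpec

/-! Tower TE, part 2 (S1308): the assembly of chapter TE from part 1 and the jobs. -/

set_option autoImplicit false

namespace H51.TE

open Cfsg Subgroup MulAction H14 H98 H1.Gold H31.S2 H14.GC H14.FE H14.NF
open scoped commutatorElement

universe u

section Kit

variable {G : Type u} [Group G] {Q E Q₁ E₁ E₂ : Subgroup G}

theorem comm_conj' (k a b : G) : ⁅a, b⁆ = k * ⁅k⁻¹ * a * k, k⁻¹ * b * k⁆ * k⁻¹ := by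
  simp only [commutatorElement_def]; group

theorem cm3_cj {A B C : Subgroup G} (h : Cm3 A B C) (k : G) : Cm3 (cj k A) (cj k B) (cj k C) := by
  intro a ha b hb
  rw [comm_conj' k a b]
  exact conj_mem_cj (h _ (mem_cj.1 ha) _ (mem_cj.1 hb))

theorem fw_cj (h : Fw Q₁ E₁ E₂) (k : G) : Fw (cj k Q₁) (cj k E₁) (cj k E₂) := by
  intro t ht t1 r hr
  have t1' : k⁻¹ * t * k ≠ 1 := fun e => t1 (by
    calc t = k * (k⁻¹ * t * k) * k⁻¹ := by group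
      _ = 1 := by rw [e]; group)
  obtain ⟨y, hy, ⟨n, hn⟩, h1, h2⟩ := h _ (mem_cj.1 ht) t1' _ (mem_cj.1 hr)
  have e : k⁻¹ * (k * y * k⁻¹) * k = y := by group
  refine ⟨k * y * k⁻¹, ?_, ⟨n, ?_⟩, fun s hs => ?_, ?_⟩
  · rw [cen_cj, ← cj_inf]; exact conj_mem_cj hy
  · rw [conj_pow, hn, mul_one, mul_inv_cancel]
  · rw [comm_conj' k s, e]
    exact conj_mem_cj (h1 _ (mem_cj.1 hs))
  · rw [comm_conj' k t, e, h2]; group

theorem cj_inv_cj (g : G) (Y : Subgroup G) : cj g⁻¹ (cj g Y) = Y := by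
  rw [cj_cj, inv_mul_cancel, cj_one]

theorem Dv.sq (t : TG Q E) {d : G} (h : Dv E d) : d * d = 1 := by
  obtain ⟨Q₁, E₁, p, hd⟩ := h.pt Q
  exact pt_el t p d hd

theorem cen_le_nor' (t : TG Q E) (h : Pt Q E Q₁ E₁) : cen E₁ ≤ nor Q₁ := by
  obtain ⟨r, hr, -, -, ir, -⟩ := pt_four t h
  refine le_trans (fun a ha => ?_) (pt_cen t h (pt_le t h hr) ir)
  exact mem_centralizer_singleton_iff.2 (mem_centralizer_iff.1 ha r hr).symm

end Kit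

theorem cb_of (red : RED.{u}) (c1 : C1.{u}) (c4a : C4a.{u}) (c4b : C4b.{u}) {G : Type u} [Group G]
    [Finite G] {Q E : Subgroup G} (gx : Gx Q E) (fu : FL Q E → FU Q E) (n : ¬ P1 E) : CB Q E := by
  unfold P1 at n
  push Not at n
  obtain ⟨d, e, hd, he, P, hP, dP, eP, ne⟩ := n
  obtain ⟨x, hx, xP, n1, k1, k2⟩ := red G d e P (hd.sq gx.tg) (he.sq gx.tg) hP dP eP ne
  have dx : Dv E x := by
    rcases hx with rfl | ⟨g, rfl⟩
    · exact hd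
    · exact he.conj g
  obtain ⟨Q₁, E₁, Q₂, E₂, c⟩ := c1 G Q E gx x e dx he P hP xP eP n1 k1 k2
  obtain ⟨Q₀, V, l1, l2, cm⟩ := c4a G Q E gx Q₁ E₁ Q₂ E₂ c
  have fw := c4b G Q E gx Q₁ E₁ Q₂ E₂ c Q₀ V l1 l2 cm
  obtain ⟨g, rfl, rfl⟩ := l1.p1
  have m1 := col_cj l1 g⁻¹
  have m2 := col_cj l2 g⁻¹
  have m3 := cm3_cj cm g⁻¹
  have m4 := fw_cj fw g⁻¹
  simp only [cj_inv_cj] at m1 m2 m3 m4
  refine ⟨fu ⟨_, _, m1, m4⟩, _, _, _, _, m1, m2, m3, fun h => ?_⟩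
  obtain ⟨a, ha, -, -, ia, -⟩ := pt_four gx.tg c.p2
  have h1 := h (conj_mem_cj (g := g⁻¹) ha)
  rw [cen_cj, conj_mem_cj_iff] at h1
  exact c.o2 a ha ia.1 (cen_le_nor' gx.tg c.p1 h1)

theorem ch_of (p : Part1.{u}) (kit : KIT.{u}) (odd : ODD.{u}) (dih : DIH.{u}) (red : RED.{u})
    (c1 : C1.{u}) (cpa : CPa.{u}) (cpb : CPb.{u}) (c3 : JobC3.{u}) (c4a : JobC4a.{u}) (c4b : JobC4b.{u})
    (kp : JobKP.{u}) (kx1 : JobKX1.{u}) (kx2 : KX2.{u}) (sc : JobSC.{u}) (fin : FIN.{u}) : ChTE.{u} := by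
  intro G _ _ K hs te
  obtain ⟨E, tg, out, ⟨Q₁, T, col⟩, tx, fu⟩ := p G K hs te
  have gx := kit G _ E tg tx te.nel
  refine ⟨E, tg, out, ?_⟩
  by_contra ncb
  have p1 : P1 E := by
    by_contra n
    exact ncb (cb_of red c1 (c4a cpa cpb (c3 odd dih)) (c4b odd) gx fu n)
  obtain ⟨g, T₀, ne⟩ := te.ex
  have nk : T ≤ nor K := by
    have h1 : T ≤ nor (cen K) := col.comm.trans (cen_le_nor' tg col.p1)
    intro x hx
    have h2 := h1 hx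
    rw [show nor K = nor (cen K) from ne.std.2.2.2]
    exact h2
  have ni := out Q₁ T col
  have sd : Sd K E Q₁ T := ⟨gx, col, nk, fun d hd => ni d ⟨hd.1, mem_sup_left hd.2⟩, p1⟩
  have s := sc (kx1 (kp odd dih)) kx2 G K E Q₁ T sd
  have le := fin G K T ne.std.1 nk (fun a ha b hb => El.comm (pt_el tg col.p2) ha hb) s
  obtain ⟨a, ha, -, -, ia, -⟩ := pt_four tg col.p2
  exact ni a ⟨pt_le tg col.p2 ha, le ha⟩ ia

end H51.TE
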