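import Cfsg.Agent.H51.TESpec
import Cfsg.Agent.H28.TESpec

/-! Tower TE (S1308): the bridge from part 1 (`H28.TE.Part1`) to part 2 (`H51.TE.Part1`). -/

set_option autoImplicit false

namespace H51.TE

open Cfsg Subgroup MulAction H14 H98 H1.Gold H31.S2 H14.GC H14.FE H14.NF
open scoped commutatorElement

universe u

/-- Lines between points are collinear pairs. -/
def CoS : Prop := AllG.{u} fun _ _ Q => ∀ E Q₁ E₁ Q₂ E₂, H28.TE.LN Q Q₁ E₁ Q₂ E₂ → Pt Q E Q₁ E₁ →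
  Pt Q E Q₂ E₂ → Col Q E Q₁ E₁ Q₂ E₂

def BrB : Prop := AllG.{u} fun G _ Q => H28.TE.ZQ Q → ∀ E, H28.TE.PtZ Q E →
  (∃ B : Subgroup G, B ≤ Q ∧ nor Q ≤ nor B ∧ IsSyl 2 E B) ∧ ∀ U ≤ Q, IsPGroup 2 U → E ≤ U → U ≤ cen E

def BrP : Prop := H28.TE.ZCs.{u} → CoS.{u} → AllG.{u} fun G _ K => IsStandardSubgroup K →
  H28.TE.HY (cen K) → H28.TE.L0 (cen K) → ∀ E, TG (cen K) E → H28.TE.PtZ (cen K) E →
  ∀ Q₂ E₂, Pt (cen K) E Q₂ E₂ → cen K ≠ Q₂ → E₂ ≤ cen E → ¬ Col (cen K) E (cen K) E Q₂ E₂ →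
    ∀ x ∈ cen K, ∀ t ∈ E₂, ∀ P : Subgroup G, IsPGroup 2 P → x ∈ P → t ∈ P → x * t = t * x

def BrF : Prop := H28.TE.SQs.{u} → AllG.{u} fun _ _ Q => ∀ E, TG Q E → H28.TE.CL Q E → FL Q E →
  H28.TE.Fu1 Q E

theorem part1_of (b : BrB.{u}) (p : BrP.{u}) (f : BrF.{u}) (zc : H28.TE.ZCs.{u}) (co : CoS.{u})
    (sq : H28.TE.SQs.{u}) (h : H28.TE.Part1.{u}) : Part1.{u} := by
  intro G _ _ K _ te
  obtain ⟨E, tg, out, col, fu, hy, l0, zq, pt, cl⟩ := h G K te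
  obtain ⟨g, T, ne⟩ := te.ex
  exact ⟨E, tg, out, col, ⟨(b G _ zq E pt).1, (b G _ zq E pt).2, p zc co G K ne.std hy l0 E tg pt⟩,
    fun fl => fu (f sq G _ E tg cl fl)⟩

end H51.TE
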