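import Cfsg.Agent.H51.TEAsm
import Cfsg.Agent.H41.TeKit
import Cfsg.Agent.H47.TEOdd
import Cfsg.Agent.H75.TeDih
import Cfsg.Agent.H36.TE2Red
import Cfsg.Agent.H96.TE2C1
import Cfsg.Agent.H13.TECPa
import Cfsg.Agent.H85.Te2CPb
import Cfsg.Agent.H10.TeC3
import Cfsg.Agent.H31.TE2C4a
import Cfsg.Agent.H64.TeC4b
import Cfsg.Agent.H74.TE2KX1
import Cfsg.Agent.H54.TEKX2
import Cfsg.Agent.H58.TESC
import Cfsg.Agent.H97.TEFin
import Cfsg.Agent.H44.TEKP
import Cfsg.Agent.H28.TEFin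

/-! Tower NF (S1308): chapter TE. -/

set_option autoImplicit false

namespace H51.TE

universe u

theorem ch : H14.NF.ChTE.{u} :=
  ch_of H28.TE.part51 H41.TeKit.job H47.TEOdd.job H75.TeDih.job H36.TE2Red.job H96.TEC1.job H13.TECPa.job
    H85.Te2CPb.job H10.TeC3.job H31.TE2C4a.job H64.TeC4b.job H44.TEKP.job H74.TE2KX1.job H54.TEKX2.job
    H58.TESC.job H97.TEFin.job

end H51.TE
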