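import Cfsg.Agent.H51.XE1

/-! Moufang hexagons with torus in characteristic two, part 2 (port of `H64.Hx2`): coordinates of the positive root groups, the field
embedding and the first commutator relations. -/

set_option autoImplicit false

namespace H51.Hx

open Subgroup H61 H12.LC H83 H51.R2 H64.Hx
open scoped MatrixGroups commutatorElement

variable {G : Type*} [Group G] {K L : Type*} [Field K] [Fintype K] [Field L] [Fintype L]
  (x : HexE G K L)

/-- The coordinate of the root group `1`. -/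
def x1 (y : L) : G := n0 x * b x y * (n0 x)⁻¹
/-- The coordinate of the root group `4`. -/
def x4 (t : K) : G := n5 x * a x t * (n5 x)⁻¹
/-- The coordinate of the root group `3`. -/
def x3 (y : L) : G := n5 x * x1 x y * (n5 x)⁻¹
/-- The coordinate of the root group `2`. -/
def x2 (t : K) : G := n0 x * x4 x t * (n0 x)⁻¹

theorem x1_add (s t : L) : x1 x (s + t) = x1 x s * x1 x t := by rw [x1, b_add, x1, x1]; group
theorem x4_add (s t : K) : x4 x (s + t) = x4 x s * x4 x t := by rw [x4, a_add, x4, x4]; group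
theorem x3_add (s t : L) : x3 x (s + t) = x3 x s * x3 x t := by rw [x3, x1_add, x3, x3]; group
theorem x2_add (s t : K) : x2 x (s + t) = x2 x s * x2 x t := by rw [x2, x4_add, x2, x2]; group

theorem a_zero : a x 0 = 1 := zero_of_add (a_add x)
theorem b_zero : b x 0 = 1 := zero_of_add (b_add x)
theorem x1_zero : x1 x 0 = 1 := zero_of_add (x1_add x)
theorem x2_zero : x2 x 0 = 1 := zero_of_add (x2_add x)
theorem x3_zero : x3 x 0 = 1 := zero_of_add (x3_add x)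
theorem x4_zero : x4 x 0 = 1 := zero_of_add (x4_add x)
theorem a_neg (t : K) : a x (-t) = (a x t)⁻¹ := neg_of_add (a_add x) t
theorem b_neg (t : L) : b x (-t) = (b x t)⁻¹ := neg_of_add (b_add x) t
theorem x1_neg (t : L) : x1 x (-t) = (x1 x t)⁻¹ := neg_of_add (x1_add x) t
theorem x2_neg (t : K) : x2 x (-t) = (x2 x t)⁻¹ := neg_of_add (x2_add x) t
theorem x3_neg (t : L) : x3 x (-t) = (x3 x t)⁻¹ := neg_of_add (x3_add x) t
theorem x4_neg (t : K) : x4 x (-t) = (x4 x t)⁻¹ := neg_of_add (x4_add x) t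

theorem x1_inj : Function.Injective (x1 x) := fun _ _ e => b_inj x (by simpa [x1] using e)
theorem x4_inj : Function.Injective (x4 x) := fun _ _ e => a_inj x (by simpa [x4] using e)
theorem x3_inj : Function.Injective (x3 x) := fun _ _ e => x1_inj x (by simpa [x3] using e)
theorem x2_inj : Function.Injective (x2 x) := fun _ _ e => x4_inj x (by simpa [x2] using e)

theorem x1_mem (t : L) : x1 x t ∈ x.X 1 := n0_X x (by decide) (b_mem x t)
theorem x4_mem (t : K) : x4 x t ∈ x.X 4 := n5_X x (by decide) (a_mem x t)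
theorem x3_mem (t : L) : x3 x t ∈ x.X 3 := n5_X x (by decide) (x1_mem x t)
theorem x2_mem (t : K) : x2 x t ∈ x.X 2 := n0_X x (by decide) (x4_mem x t)

theorem ex_X1 {g : G} (h : g ∈ x.X 1) : ∃ t, g = x1 x t := by
  obtain ⟨t, ht⟩ := (mem_X5 x).1 (n0_X' x (by decide) h)
  exact ⟨t, by rw [x1, ← ht]; group⟩
theorem ex_X4 {g : G} (h : g ∈ x.X 4) : ∃ t, g = x4 x t := by
  obtain ⟨t, ht⟩ := (mem_X0 x).1 (n5_X' x (by decide) h)
  exact ⟨t, by rw [x4, ← ht]; group⟩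
theorem ex_X3 {g : G} (h : g ∈ x.X 3) : ∃ t, g = x3 x t := by
  obtain ⟨t, ht⟩ := ex_X1 x (n5_X' x (by decide) h)
  exact ⟨t, by rw [x3, ← ht]; group⟩
theorem ex_X2 {g : G} (h : g ∈ x.X 2) : ∃ t, g = x2 x t := by
  obtain ⟨t, ht⟩ := ex_X4 x (n0_X' x (by decide) h)
  exact ⟨t, by rw [x2, ← ht]; group⟩

theorem ex_I14 {g : G} (h : g ∈ I x 1 4) : ∃ s y t, g = x2 x s * x3 x y * x4 x t := by
  obtain ⟨u, hu, v, hv, rfl⟩ := mem_I_succ x (j := 4) (by decide) h
  obtain ⟨z, hz, w, hw, rfl⟩ := mem_I_succ x (j := 3) (by decide) hu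
  rw [I_two] at hz
  obtain ⟨s, rfl⟩ := ex_X2 x hz
  obtain ⟨y, rfl⟩ := ex_X3 x hw
  obtain ⟨t, rfl⟩ := ex_X4 x hv
  exact ⟨s, y, t, rfl⟩

section tau

variable {t : K} {y : L} (ht : t ≠ 0) (hy : y ≠ 0)
include ht hy

theorem τ_x1 (z : L) : τ x t y * x1 x z * (τ x t y)⁻¹ = x1 x (y * mu1 x t * z) := by
  rw [x1, x1, ← τ_b x (inv_ne_zero ht) (by simp [ht, hy]), ← n0_τ x ht hy]; group

theorem τ_x4 (s : K) : τ x t y * x4 x s * (τ x t y)⁻¹ = x4 x (t * nu x y * s) := by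
  rw [x4, x4, ← τ_a x (by simp [ht, hy]) (inv_ne_zero hy), ← n5_τ x ht hy]; group

theorem τ_x3 (z : L) :
    τ x t y * x3 x z * (τ x t y)⁻¹ = x3 x (y⁻¹ * mu1 x (t * nu x y) * z) := by
  rw [x3, x3, ← τ_x1 x (by simp [ht, hy]) (inv_ne_zero hy), ← n5_τ x ht hy]; group

theorem τ_x2' (s : K) :
    τ x t y * x2 x s * (τ x t y)⁻¹ = x2 x (t⁻¹ * nu x (y * mu1 x t) * s) := by
  rw [x2, x2, ← τ_x4 x (inv_ne_zero ht) (by simp [ht, hy]), ← n0_τ x ht hy]; group

end tau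

theorem lo_mem6 (t : K) : x.φ (lower t) ∈ x.X 6 := x.X6 ▸ hx_mem_lo.2 ⟨t, rfl⟩
theorem lo_mem11 (t : L) : x.ψ (lower t) ∈ x.X 11 := x.X11 ▸ hx_mem_lo.2 ⟨t, rfl⟩

theorem m0_eq (u : Kˣ) : ∃ l ∈ x.X 6,
    l * a x u * l = τ x (u * u) (mu1 x (-u))⁻¹ * n0 x := by
  refine ⟨_, lo_mem6 x (-(u⁻¹ : Kˣ) : K), ?_⟩
  rw [a, ← map_mul, ← map_mul, lul, map_mul, h0_eq']
  simp [n0]

theorem m5_eq (u : Lˣ) : ∃ l ∈ x.X 11,
    l * b x u * l = τ x (nu x (-u))⁻¹ (u * u) * n5 x := by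
  refine ⟨_, lo_mem11 x (-(u⁻¹ : Lˣ) : L), ?_⟩
  rw [b, ← map_mul, ← map_mul, lul, map_mul, h5_eq']
  simp [n5]

theorem lead_eq {i : ZMod 12} {u v g : G} (hu : u ∈ x.X i) (hv : v ∈ x.X i) (hg : g ∈ I x i 6)
    (e : u = v * g) : u = v := by
  have := X_inf_I x (Or.inl rfl) (mul_mem (inv_mem hv) hu) (by rwa [e, inv_mul_cancel_left])
  exact (inv_mul_eq_one.1 this).symm

theorem conj_lead {i j : ZMod 12} {n : ℕ} (h : j = i + n ∧ 1 ≤ n ∧ n ≤ 5) {u l : G}
    (hu : u ∈ x.X i) (hl : l ∈ x.X j) : u⁻¹ * (l * u * l⁻¹) ∈ I x i n := by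
  have := comm' x h (inv_mem hu) hl
  rw [commutatorElement_def] at this
  convert this using 1; group

theorem lead1 (t : K) (y : L) :
    ∃ m ∈ I x 1 4, a x t * b x y * (a x t)⁻¹ = x1 x (mu1 x (-t) * y) * m * b x y := by
  by_cases ht : t = 0
  · exact ⟨1, one_mem _, by simp [ht, a_zero, x1_zero]⟩
  obtain ⟨v, hv, m, hm, e⟩ := mem_I_succ' x (j := 1) (n := 4) (by decide)
    (comm' x (by decide) (a_mem x t) (b_mem x y))
  have e1 : a x t * b x y * (a x t)⁻¹ = v * m * b x y := by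
    rw [← e, commutatorElement_def]; group
  refine ⟨m, hm, ?_⟩
  obtain ⟨l, hl, e2⟩ := m0_eq x (Units.mk0 t ht)
  simp only [Units.val_mk0] at e2
  have c : b x y * l = l * b x y := adj x (by decide) (b_mem x y) hl
  have h1 : mu1 x (-t) ≠ 0 := by simp [ht]
  have e3 := τ_x1 x (mul_ne_zero ht ht) (inv_ne_zero h1) y
  have e4 : (mu1 x (-t))⁻¹ * mu1 x (t * t) * y = mu1 x (-t) * y := by
    rw [← neg_mul_neg t t, map_mul]; field_simp
  rw [e4, x1, show ∀ p q r : G, p * (q * r * q⁻¹) * p⁻¹ = (p * q) * r * (p * q)⁻¹ from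
    fun _ _ _ => by group, ← e2] at e3
  have e5 : x1 x (mu1 x (-t) * y) = v * (v⁻¹ * (l * v * l⁻¹) * (l * m * l⁻¹) * b x y) := by
    rw [← e3]
    calc l * a x t * l * b x y * (l * a x t * l)⁻¹
        = l * a x t * (l * b x y) * l⁻¹ * (a x t)⁻¹ * l⁻¹ := by group
      _ = l * (a x t * b x y * (a x t)⁻¹) * l⁻¹ := by rw [← c]; group
      _ = l * v * m * (b x y * l⁻¹) := by rw [e1]; group
      _ = l * v * m * (l⁻¹ * (l * b x y) * l⁻¹) := by group
      _ = _ := by rw [← c]; group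
  have e6 := lead_eq x (x1_mem x _) hv (mul_mem (mul_mem
    (I_mono x (by decide) (conj_lead x (n := 5) (by decide) hv hl))
    (I_mono x (j := 1) (m := 5) (by decide)
      (conj_right x (by decide) hl (I_mono x (by decide) hm))))
    (X_le_I x (by decide) (b_mem x y))) e5
  rw [e1, e6]

theorem a_conj_M (t : K) {m : G} (hm : m ∈ I x 1 4) : a x t * m * (a x t)⁻¹ ∈ I x 1 4 := by
  refine I_conj x (fun k h1 h2 y hy => ?_) hm
  have := le_I x 1 h1 h2 hy
  interval_cases k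
  · rwa [x.long2 _ (a_mem x t) _ hy, mul_inv_cancel_right]
  · rwa [x.long3 _ (a_mem x t) _ hy, mul_inv_cancel_right]
  · rw [show a x t * y * (a x t)⁻¹ = ⁅a x t, y⁆ * y by rw [commutatorElement_def]; group]
    exact mul_mem (X_le_I x (by decide) (x.long4 _ (a_mem x t) _ hy)) this

theorem mu1_add (s t : K) : mu1 x (s + t) = mu1 x s + mu1 x t := by
  obtain ⟨m, hm, e⟩ := lead1 x (-(s + t)) 1
  obtain ⟨m1, hm1, e1⟩ := lead1 x (-s) 1
  obtain ⟨m2, hm2, e2⟩ := lead1 x (-t) 1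
  simp only [neg_neg, mul_one] at e e1 e2
  have c : a x (-t) * x1 x (mu1 x s) = x1 x (mu1 x s) * a x (-t) :=
    adj x (by decide) (a_mem x _) (x1_mem x _)
  apply x1_inj x
  refine lead_eq x (x1_mem x _) (x1_mem x _) (g := (x1 x (mu1 x t))⁻¹ *
    (a x (-t) * m1 * (a x (-t))⁻¹) * (x1 x (mu1 x t))⁻¹⁻¹ * m2 * m⁻¹) (I_mono x (m := 4)
      (by decide) (mul_mem (mul_mem (conj_left x (by decide) (inv_mem (x1_mem x _))
        (a_conj_M x _ hm1)) hm2) (inv_mem hm))) ?_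
  rw [neg_add_rev, a_add] at e
  calc x1 x (mu1 x (s + t)) = a x (-t) * (a x (-s) * b x 1 * (a x (-s))⁻¹) * (a x (-t))⁻¹ *
        (b x 1)⁻¹ * m⁻¹ := by
        rw [eq_mul_inv_iff_mul_eq, eq_mul_inv_iff_mul_eq, ← e]; group
    _ = (a x (-t) * x1 x (mu1 x s)) * m1 * (a x (-t))⁻¹ * (a x (-t) * b x 1 * (a x (-t))⁻¹) *
        (b x 1)⁻¹ * m⁻¹ := by rw [e1]; group
    _ = _ := by rw [c, e2, x1_add]; group

/-- The embedding of the first field into the second one. -/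
noncomputable def mu : K →+* L where
  toFun := mu1 x
  map_zero' := map_zero _
  map_one' := map_one _
  map_mul' := map_mul _
  map_add' := mu1_add x

theorem mu1_eq (t : K) : mu1 x t = mu x t := rfl

theorem φ_X3 (g : SL(2, K)) {v : G} (hv : v ∈ x.X 3) : x.φ g * v = v * x.φ g := by
  have h : x.X 0 ⊔ x.X 6 ≤ centralizer {v} :=
    sup_le (fun u hu => mem_centralizer_singleton_iff.2 (x.long3 u hu v hv))
      fun u hu => mem_centralizer_singleton_iff.2 (long63 x u hu v hv)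
  exact mem_centralizer_singleton_iff.1 (h (hex_range_φ x ▸ ⟨g, rfl⟩))

theorem ψ_X2 (g : SL(2, L)) {v : G} (hv : v ∈ x.X 2) : x.ψ g * v = v * x.ψ g := by
  have h : x.X 5 ⊔ x.X 11 ≤ centralizer {v} :=
    sup_le (fun u hu => mem_centralizer_singleton_iff.2
      (comm_shift x x.long3 5 (by decide) hv hu).symm)
      fun u hu => mem_centralizer_singleton_iff.2 (comm_shift x (long63 x) 2 (by decide) hv hu).symm
  exact mem_centralizer_singleton_iff.1 (h (hex_range_ψ x ▸ ⟨g, rfl⟩))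

theorem nu_mu (t : K) : nu x (mu x t) = t ^ 3 := by
  by_cases ht : t = 0
  · simp [ht]
  have h1 : mu x t ≠ 0 := by simp [ht]
  have e := τ_x3 x (mul_ne_zero ht ht) (inv_ne_zero h1) 1
  have e2 := h0_eq' x (Units.mk0 t ht)
  simp only [Units.val_mk0, mu1_eq] at e2 e
  rw [← e2, φ_X3 x _ (x3_mem x _), mul_inv_cancel_right] at e
  have e3 := x3_inj x e
  apply (mu x).injective
  have h2 : mu x (nu x (mu x t)) ≠ 0 := by simp [ht]
  simp only [map_mul, map_inv₀, map_pow] at e3 ⊢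
  field_simp at e3
  exact e3

theorem nu_neg (y : L) : nu x (-y) = -nu x y := by
  have := nu_mu x (-1)
  rw [map_neg, map_one] at this
  rw [← neg_one_mul, map_mul, this]; ring

theorem τ_x2 {t : K} {y : L} (ht : t ≠ 0) (hy : y ≠ 0) (s : K) :
    τ x t y * x2 x s * (τ x t y)⁻¹ = x2 x (t ^ 2 * nu x y * s) := by
  rw [τ_x2' x ht hy, map_mul, mu1_eq, nu_mu]
  congr 1; field_simp

theorem n0_sq : n0 x * n0 x = τ x 1 (-1) := by
  rw [n0, ← map_mul, ← dU_neg_one, h0_eq']; simp [mu1_eq]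

theorem n5_sq : n5 x * n5 x = τ x (-1) 1 := by
  rw [n5, ← map_mul, ← dU_neg_one, h5_eq']; simp [nu_neg]

theorem n0_x1 (y : L) : n0 x * x1 x y * (n0 x)⁻¹ = b x (-y) := by
  rw [x1, conj_conj, n0_sq, τ_b x (by simp) (by simp)]; simp

theorem n0_x2 (t : K) : n0 x * x2 x t * (n0 x)⁻¹ = x4 x (-t) := by
  rw [x2, conj_conj, n0_sq, τ_x4 x (by simp) (by simp)]; simp [nu_neg]

theorem n0_x3 (y : L) : n0 x * x3 x y * (n0 x)⁻¹ = x3 x y := by
  rw [n0, φ_X3 x _ (x3_mem x _), mul_inv_cancel_right]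

theorem n5_x4 (t : K) : n5 x * x4 x t * (n5 x)⁻¹ = a x (-t) := by
  rw [x4, conj_conj, n5_sq, τ_a x (by simp) (by simp)]; simp

theorem n5_x3 (y : L) : n5 x * x3 x y * (n5 x)⁻¹ = x1 x (-y) := by
  rw [x3, conj_conj, n5_sq, τ_x1 x (by simp) (by simp)]; simp [mu1_eq]

theorem n5_x2 (t : K) : n5 x * x2 x t * (n5 x)⁻¹ = x2 x t := by
  rw [n5, ψ_X2 x _ (x2_mem x _), mul_inv_cancel_right]

theorem r04 (t s : K) : a x t * x4 x s * (a x t)⁻¹ = x2 x (-(t * s)) * x4 x s := by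
  by_cases ht : t = 0
  · simp [ht, a_zero, x2_zero]
  have hv := x.long4 _ (a_mem x t) _ (x4_mem x s)
  have e1 : a x t * x4 x s * (a x t)⁻¹ = ⁅a x t, x4 x s⁆ * x4 x s := by
    rw [commutatorElement_def]; group
  generalize ⁅a x t, x4 x s⁆ = v at hv e1
  obtain ⟨l, hl, e2⟩ := m0_eq x (Units.mk0 t ht)
  simp only [Units.val_mk0] at e2
  have c : x4 x s * l = l * x4 x s := comm_shift x x.long2 4 (by decide) (x4_mem x s) hl
  have h1 : mu1 x (-t) ≠ 0 := by simp [ht]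
  have e3 := τ_x2 x (mul_ne_zero ht ht) (inv_ne_zero h1) s
  have e4 : (t * t) ^ 2 * nu x (mu1 x (-t))⁻¹ * s = -(t * s) := by
    rw [map_inv₀, mu1_eq, nu_mu]; field_simp
  rw [e4, x2, show ∀ p q r : G, p * (q * r * q⁻¹) * p⁻¹ = (p * q) * r * (p * q)⁻¹ from
    fun _ _ _ => by group, ← e2] at e3
  have e5 : x2 x (-(t * s)) = v * (v⁻¹ * (l * v * l⁻¹) * x4 x s) := by
    rw [← e3]
    calc l * a x t * l * x4 x s * (l * a x t * l)⁻¹
        = l * a x t * (l * x4 x s) * l⁻¹ * (a x t)⁻¹ * l⁻¹ := by group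
      _ = l * (a x t * x4 x s * (a x t)⁻¹) * l⁻¹ := by rw [← c]; group
      _ = l * v * (x4 x s * l⁻¹) := by rw [e1]; group
      _ = l * v * (l⁻¹ * (l * x4 x s) * l⁻¹) := by group
      _ = _ := by rw [← c]; group
  have e6 := lead_eq x (x2_mem x _) hv (mul_mem
    (I_mono x (by decide) (conj_lead x (n := 4) (by decide) hv hl))
    (X_le_I x (by decide) (x4_mem x s))) e5
  rw [e1, e6]

end H51.Hx
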