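import Cfsg.Agent.H51.XE4
import Cfsg.Agent.H64.CT1
import Cfsg.Agent.H57.LD
import Cfsg.Agent.H54.GRDMap

/-! Moufang hexagons with torus in characteristic two, part 5 (port of `H64.Hx5`): two hexagons with the same embedding and norm generate
isomorphic groups. -/

set_option autoImplicit false

namespace H51.Hx

open Subgroup H61 H12.LC H83 H51.R2 H64 H64.Hx H67
open scoped MatrixGroups commutatorElement

section One

variable {G : Type*} [Group G] {K L : Type*} [Field K] [Fintype K] [Field L] [Fintype L]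
  (x : HexE G K L)

theorem τ_one : τ x 1 1 = 1 := by
  have := τ_mul x (t := 1) (y := 1) (t' := 1) (y' := 1) (by simp) (by simp) (by simp) (by simp)
  simpa using this

theorem τ_inv {t : K} {y : L} (ht : t ≠ 0) (hy : y ≠ 0) : (τ x t y)⁻¹ = τ x t⁻¹ y⁻¹ := by
  rw [inv_eq_iff_mul_eq_one, ← τ_mul x ht hy (by simpa) (by simpa), mul_inv_cancel₀ ht,
    mul_inv_cancel₀ hy, τ_one]

theorem φ_mem (g : SL(2, K)) : x.φ g ∈ x.X 0 ⊔ x.X 6 := hex_range_φ x ▸ ⟨g, rfl⟩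
theorem ψ_mem (g : SL(2, L)) : x.ψ g ∈ x.X 5 ⊔ x.X 11 := hex_range_ψ x ▸ ⟨g, rfl⟩

theorem φ_n3 (g : SL(2, K)) : x.φ g * (n5 x * n0 x * n5 x * (n5 x * n0 x)⁻¹) =
    (n5 x * n0 x * n5 x * (n5 x * n0 x)⁻¹) * x.φ g := by
  have e : ∀ u : G, n5 x * n0 x * u * (n5 x * n0 x)⁻¹ =
    n5 x * (n0 x * u * (n0 x)⁻¹) * (n5 x)⁻¹ := fun u => by group
  refine comm_conj (ψ_mem x _) (fun u hu => ?_) fun u hu => ?_
  · exact φ_X3 x g (e u ▸ n5_X x (r := 1) (by decide) (n0_X x (by decide) hu))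
  · have h : n5 x * n0 x * u * (n5 x * n0 x)⁻¹ ∈ x.X 9 :=
      e u ▸ n5_X x (r := 7) (by decide) (n0_X x (by decide) hu)
    exact comm_of_sup (φ_mem x g) (fun v hv => comm_shift x (long63 x) 3 (by decide) hv h)
      fun v hv => comm_shift x x.long3 3 (by decide) hv h

theorem ψ_n2 (g : SL(2, L)) : x.ψ g * (n0 x * n5 x * n0 x * (n0 x * n5 x)⁻¹) =
    (n0 x * n5 x * n0 x * (n0 x * n5 x)⁻¹) * x.ψ g := by
  have e : ∀ u : G, n0 x * n5 x * u * (n0 x * n5 x)⁻¹ =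
    n0 x * (n5 x * u * (n5 x)⁻¹) * (n0 x)⁻¹ := fun u => by group
  refine comm_conj (φ_mem x _) (fun u hu => ?_) fun u hu => ?_
  · exact ψ_X2 x g (e u ▸ n0_X x (r := 4) (by decide) (n5_X x (by decide) hu))
  · have h : n0 x * n5 x * u * (n0 x * n5 x)⁻¹ ∈ x.X 8 :=
      e u ▸ n0_X x (r := 10) (by decide) (n5_X x (by decide) hu)
    exact comm_of_sup (ψ_mem x g) (fun v hv => (comm_shift x (long63 x) 5 (by decide) h hv).symm)
      fun v hv => (comm_shift x x.long3 2 (by decide) h hv).symm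

theorem rk0 {t : K} (ht : t ≠ 0) : n0 x * a x (-t) * (n0 x)⁻¹ =
    a x t⁻¹ * n0 x * τ x (t * t) (mu x t)⁻¹ * a x t⁻¹ := by
  have := h0_eq' x (Units.mk0 t ht)
  simp only [Units.val_mk0, mu1_eq] at this
  rw [← this]
  simp only [n0, a, ← map_mul, ← map_inv]
  rw [weyl_conj_upper, neg_neg]
  exact congrArg _ (hx_lower_eq ht)

theorem rk5 {t : L} (ht : t ≠ 0) : n5 x * b x (-t) * (n5 x)⁻¹ =
    b x t⁻¹ * n5 x * τ x (nu x t)⁻¹ (t * t) * b x t⁻¹ := by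
  have := h5_eq' x (Units.mk0 t ht)
  simp only [Units.val_mk0] at this
  rw [← this]
  simp only [n5, b, ← map_mul, ← map_inv]
  rw [weyl_conj_upper, neg_neg]
  exact congrArg _ (hx_lower_eq ht)

theorem r05 (z : K) (t : L) : a x z * b x t * (a x z)⁻¹ = P x 0 (mu x (-z) * t)
    ((-z) ^ 2 * nu x t) (mu x (-z) * sh (mu x) (nu x) t) (-(-z * nu x t)) * b x t := by
  have := r50 x t (-z)
  rw [P, a_neg] at this
  rw [P, a_zero, one_mul, ← mul_right_inj (a x z)⁻¹, ← mul_assoc (a x z)⁻¹ _ (b x t), ← this]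
  group

end One

variable {G G' : Type*} [Group G] [Group G'] {K L : Type*} [Field K] [Fintype K] [Field L]
  [Fintype L] (x : HexE G K L) (x' : HexE G' K L)

/-- The diagonal long simple root elements. -/
def dA (t : K) : G × G' := (a x t, a x' t)
/-- The diagonal short simple root elements. -/
def dB (t : L) : G × G' := (b x t, b x' t)
/-- The diagonal Weyl elements. -/
def dN (i : Bool) : G × G' := if i then (n5 x, n5 x') else (n0 x, n0 x')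
/-- The diagonal torus elements. -/
noncomputable def dT (t : K) (y : L) : G × G' := (τ x t y, τ x' t y)

/-- The diagonal simple root groups. -/
def dY (i : Bool) : Subgroup (G × G') where
  carrier := {g | if i then ∃ t, g = dB x x' t else ∃ t, g = dA x x' t}
  one_mem' := by
    cases i
    · exact ⟨0, by simp [dA, a_zero, Prod.ext_iff]⟩
    · exact ⟨0, by simp [dB, b_zero, Prod.ext_iff]⟩
  mul_mem' := by
    cases i
    · rintro _ _ ⟨s, rfl⟩ ⟨t, rfl⟩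
      exact ⟨s + t, by simp [dA, a_add]⟩
    · rintro _ _ ⟨s, rfl⟩ ⟨t, rfl⟩
      exact ⟨s + t, by simp [dB, b_add]⟩
  inv_mem' := by
    cases i
    · rintro _ ⟨s, rfl⟩
      exact ⟨-s, by simp [dA, a_neg]⟩
    · rintro _ ⟨s, rfl⟩
      exact ⟨-s, by simp [dB, b_neg]⟩

/-- The diagonal torus. -/
def dH : Subgroup (G × G') where
  carrier := {g | ∃ t ≠ 0, ∃ y ≠ 0, g = dT x x' t y}
  one_mem' := ⟨1, one_ne_zero, 1, one_ne_zero, by simp [dT, τ_one, Prod.ext_iff]⟩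
  mul_mem' := by
    rintro _ _ ⟨s, hs, y, hy, rfl⟩ ⟨t, ht, z, hz, rfl⟩
    exact ⟨s * t, mul_ne_zero hs ht, y * z, mul_ne_zero hy hz, by simp [dT, τ_mul, *]⟩
  inv_mem' := by
    rintro _ ⟨s, hs, y, hy, rfl⟩
    exact ⟨s⁻¹, inv_ne_zero hs, y⁻¹, inv_ne_zero hy, by simp [dT, τ_inv, *]⟩

theorem dN_sq (i : Bool) : dN x x' i * dN x x' i ∈ dH x x' := by
  cases i
  · exact ⟨1, by simp, -1, by simp, Prod.ext (n0_sq x) (n0_sq x')⟩
  · exact ⟨-1, by simp, 1, by simp, Prod.ext (n5_sq x) (n5_sq x')⟩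

theorem dH_dY {h : G × G'} (hh : h ∈ dH x x') (i : Bool) {y : G × G'} (hy : y ∈ dY x x' i) :
    h * y * h⁻¹ ∈ dY x x' i := by
  obtain ⟨t, ht, z, hz, rfl⟩ := hh
  cases i
  · obtain ⟨s, rfl⟩ := hy
    exact ⟨t * s, Prod.ext (τ_a x ht hz s) (τ_a x' ht hz s)⟩
  · obtain ⟨s, rfl⟩ := hy
    exact ⟨z * s, Prod.ext (τ_b x ht hz s) (τ_b x' ht hz s)⟩

variable {x x'} (hμ : mu x' = mu x) (hν : nu x' = nu x)
include hμ hν

theorem qd' : QD (mu x) (nu x) (kk x') (l x') := hμ ▸ hν ▸ qd x'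

theorem dN_inv_H (i : Bool) {h : G × G'} (hh : h ∈ dH x x') :
    (dN x x' i)⁻¹ * h * dN x x' i ∈ dH x x' := by
  obtain ⟨t, ht, z, hz, rfl⟩ := hh
  cases i
  · exact ⟨t⁻¹, by simpa, z * mu x t, by simp [ht, hz],
      Prod.ext (n0_τ x ht hz) (hμ ▸ n0_τ x' ht hz)⟩
  · exact ⟨t * nu x z, by simp [ht, hz], z⁻¹, by simpa,
      Prod.ext (n5_τ x ht hz) (hν ▸ n5_τ x' ht hz)⟩

theorem dN_H (i : Bool) {h : G × G'} (hh : h ∈ dH x x') :
    dN x x' i * h * (dN x x' i)⁻¹ ∈ dH x x' := by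
  convert dN_inv_H hμ hν i (mul_mem (mul_mem (dN_sq x x' i) hh) (inv_mem (dN_sq x x' i))) using 1
  group

theorem wp_dH (l : List Bool) {h : G × G'} (hh : h ∈ dH x x') :
    wp (dN x x') l * h * (wp (dN x x') l)⁻¹ ∈ dH x x' := by
  induction l with
  | nil => simpa using hh
  | cons i l ih =>
    convert dN_H hμ hν i ih using 1
    rw [wp_cons]; group

theorem good (l : List Bool) {i j : Bool} (e : (wp hexW.sW l).1 (hexW.p i) = hexW.p j)
    {y : G × G'} (hy : y ∈ dY x x' i) : wp (dN x x') l * y * (wp (dN x x') l)⁻¹ ∈ dY x x' j := by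
  have hs := fun h => dN_H hμ hν false (h := h)
  have ht := fun h => dN_H hμ hν true (h := h)
  have s2 := dN_sq x x' false
  have t2 := dN_sq x x' true
  have c : dN x x' false * (dN x x' true * dN x x' false * dN x x' true *
      (dN x x' true * dN x x' false)⁻¹) = (dN x x' true * dN x x' false * dN x x' true *
      (dN x x' true * dN x x' false)⁻¹) * dN x x' false :=
    Prod.ext (φ_n3 x _) (φ_n3 x' _)
  have hk : ∀ k m : ℕ, (2 * ((k : ℕ) : ZMod 12) = 2 * (m : ℕ)) → m < 6 → ∃ j, 6 ∣ j ∧ k = j + m :=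
    fun k m e hm => by
      have : ((2 * k : ℕ) : ZMod 12) = ((2 * m : ℕ) : ZMod 12) := by push_cast; exact e
      rw [ZMod.natCast_eq_natCast_iff'] at this
      exact ⟨k - m, by omega, by omega⟩
  obtain ⟨k, h, hh, ⟨e1, hw⟩ | ⟨e1, hw⟩⟩ := word_nf hs ht s2 t2 c l
  all_goals
    rw [show (fun i => if i then dN x x' true else dN x x' false) = dN x x' by
      funext i; cases i <;> rfl] at e1
    rw [hw] at e
    rw [e1]
  · obtain ⟨rfl, e2⟩ := (by decide : ∀ (i j : Bool) (k : ZMod 12), hexW.p i + 2 * k = hexW.p j →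
      i = j ∧ 2 * k = 2 * (0 : ℕ)) _ _ _ e
    obtain ⟨j, hj, rfl⟩ := hk _ _ e2 (by omega)
    exact dH_dY x x' (mul_mem (braid_pow hs ht s2 t2 c hj) hh) i hy
  · obtain ⟨rfl, rfl, e2⟩ | ⟨rfl, rfl, e2⟩ := (by decide : ∀ (i j : Bool) (k : ZMod 12),
      6 - hexW.p i + 2 * k = hexW.p j → (i = false ∧ j = false ∧ 2 * k = 2 * (3 : ℕ)) ∨
        (i = true ∧ j = true ∧ 2 * k = 2 * (2 : ℕ))) _ _ _ e
    · obtain ⟨j, hj, rfl⟩ := hk _ _ e2 (by omega)
      obtain ⟨h', hh', e3⟩ := braid3 hs ht s2 t2 c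
      obtain ⟨u, hu⟩ := dH_dY x x' (mul_mem hh' hh) false hy
      have c' : dA x x' u * (dN x x' true * dN x x' false * dN x x' true *
          (dN x x' true * dN x x' false)⁻¹) = (dN x x' true * dN x x' false * dN x x' true *
          (dN x x' true * dN x x' false)⁻¹) * dA x x' u := Prod.ext (φ_n3 x _) (φ_n3 x' _)
      convert dH_dY x x' (braid_pow hs ht s2 t2 c hj) false (y := dA x x' u) ⟨u, rfl⟩ using 1
      rw [pow_add, mul_assoc (_ ^ j), e3, ← mul_inv_cancel_right (dA x x' u) _, c', ← hu]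
      group
    · obtain ⟨j, hj, rfl⟩ := hk _ _ e2 (by omega)
      obtain ⟨h', hh', e3⟩ := braid2 hs s2 t2
      obtain ⟨u, hu⟩ := dH_dY x x' (mul_mem hh' hh) true hy
      have c' : dB x x' u * (dN x x' false * dN x x' true * dN x x' false *
          (dN x x' false * dN x x' true)⁻¹) = (dN x x' false * dN x x' true * dN x x' false *
          (dN x x' false * dN x x' true)⁻¹) * dB x x' u := Prod.ext (ψ_n2 x _) (ψ_n2 x' _)
      convert dH_dY x x' (braid_pow hs ht s2 t2 c hj) true (y := dB x x' u) ⟨u, rfl⟩ using 1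
      rw [pow_add, mul_assoc (_ ^ j), e3, ← mul_inv_cancel_right (dB x x' u) _, c', ← hu]
      group

omit hμ hν in
variable (x x') in
/-- The diagonal root groups. -/
def dX : ZMod 12 → Subgroup (G × G') := WLift.X hexW (dN x x') (dY x x')

theorem dX_p (i : Bool) : dX x x' (hexW.p i) = dY x x' i :=
  le_antisymm (fun g hg => by simpa using hg [] i rfl) fun _ hg l _ e => good hμ hν l e hg

theorem dH_dX {h : G × G'} (hh : h ∈ dH x x') (r : ZMod 12) {g : G × G'} (hg : g ∈ dX x x' r) :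
    h * g * h⁻¹ ∈ dX x x' r := by
  intro l i e
  convert dH_dY x x' (wp_dH hμ hν l hh) i (hg l i e) using 1
  group

omit hμ hν in
theorem dN_dX (i : Bool) {r s : ZMod 12} (e : s = (if i then 4 else 6) - r) {g : G × G'}
    (hg : g ∈ dX x x' r) : dN x x' i * g * (dN x x' i)⁻¹ ∈ dX x x' s := e ▸ WLift.n_X i r hg

theorem dN_dX' (i : Bool) {r s : ZMod 12} (e : r = (if i then 4 else 6) - s) {g : G × G'}
    (hg : g ∈ dX x x' s) : ∃ g' ∈ dX x x' r, g = dN x x' i * g' * (dN x x' i)⁻¹ :=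
  ⟨_, dH_dX hμ hν (inv_mem (dN_sq x x' i)) _ (dN_dX i e hg), by group⟩

theorem mem_dX0 {g : G × G'} : g ∈ dX x x' 0 ↔ ∃ t, g = (a x t, a x' t) := by
  rw [show dX x x' 0 = _ from dX_p hμ hν false]; rfl

theorem mem_dX5 {g : G × G'} : g ∈ dX x x' 5 ↔ ∃ t, g = (b x t, b x' t) := by
  rw [show dX x x' 5 = _ from dX_p hμ hν true]; rfl

theorem mem_dX1 {g : G × G'} : g ∈ dX x x' 1 ↔ ∃ t, g = (x1 x t, x1 x' t) := by
  refine ⟨fun h => ?_, ?_⟩
  · obtain ⟨g, hg, rfl⟩ := dN_dX' hμ hν false (r := 5) (by decide) h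
    obtain ⟨t, rfl⟩ := (mem_dX5 hμ hν).1 hg
    exact ⟨t, rfl⟩
  · rintro ⟨t, rfl⟩
    exact dN_dX false (by decide) ((mem_dX5 hμ hν).2 ⟨t, rfl⟩)

theorem mem_dX4 {g : G × G'} : g ∈ dX x x' 4 ↔ ∃ t, g = (x4 x t, x4 x' t) := by
  refine ⟨fun h => ?_, ?_⟩
  · obtain ⟨g, hg, rfl⟩ := dN_dX' hμ hν true (r := 0) (by decide) h
    obtain ⟨t, rfl⟩ := (mem_dX0 hμ hν).1 hg
    exact ⟨t, rfl⟩
  · rintro ⟨t, rfl⟩
    exact dN_dX true (by decide) ((mem_dX0 hμ hν).2 ⟨t, rfl⟩)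

theorem mem_dX3 {g : G × G'} : g ∈ dX x x' 3 ↔ ∃ t, g = (x3 x t, x3 x' t) := by
  refine ⟨fun h => ?_, ?_⟩
  · obtain ⟨g, hg, rfl⟩ := dN_dX' hμ hν true (r := 1) (by decide) h
    obtain ⟨t, rfl⟩ := (mem_dX1 hμ hν).1 hg
    exact ⟨t, rfl⟩
  · rintro ⟨t, rfl⟩
    exact dN_dX true (by decide) ((mem_dX1 hμ hν).2 ⟨t, rfl⟩)

theorem mem_dX2 {g : G × G'} : g ∈ dX x x' 2 ↔ ∃ t, g = (x2 x t, x2 x' t) := by
  refine ⟨fun h => ?_, ?_⟩
  · obtain ⟨g, hg, rfl⟩ := dN_dX' hμ hν false (r := 4) (by decide) h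
    obtain ⟨t, rfl⟩ := (mem_dX4 hμ hν).1 hg
    exact ⟨t, rfl⟩
  · rintro ⟨t, rfl⟩
    exact dN_dX false (by decide) ((mem_dX4 hμ hν).2 ⟨t, rfl⟩)

theorem P_mem {S : Set (ZMod 12)} (t0 : K) (y1 : L) (t2 : K) (y3 : L) (t4 : K)
    (h0 : t0 = 0 ∨ 0 ∈ S) (h1 : y1 = 0 ∨ 1 ∈ S) (h2 : t2 = 0 ∨ 2 ∈ S) (h3 : y3 = 0 ∨ 3 ∈ S)
    (h4 : t4 = 0 ∨ 4 ∈ S) :
    (P x t0 y1 t2 y3 t4, P x' t0 y1 t2 y3 t4) ∈ gen (dX x x') S := by
  have e : (P x t0 y1 t2 y3 t4, P x' t0 y1 t2 y3 t4) = (a x t0, a x' t0) * ((x1 x y1, x1 x' y1) *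
    ((x2 x t2, x2 x' t2) * ((x3 x y3, x3 x' y3) * (x4 x t4, x4 x' t4)))) := rfl
  rw [e]
  refine mul_mem ?_ (mul_mem ?_ (mul_mem ?_ (mul_mem ?_ ?_)))
  · rcases h0 with rfl | h
    · rw [a_zero, a_zero]; exact one_mem _
    · exact le_gen _ h ((mem_dX0 hμ hν).2 ⟨_, rfl⟩)
  · rcases h1 with rfl | h
    · rw [x1_zero, x1_zero]; exact one_mem _
    · exact le_gen _ h ((mem_dX1 hμ hν).2 ⟨_, rfl⟩)
  · rcases h2 with rfl | h
    · rw [x2_zero, x2_zero]; exact one_mem _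
    · exact le_gen _ h ((mem_dX2 hμ hν).2 ⟨_, rfl⟩)
  · rcases h3 with rfl | h
    · rw [x3_zero, x3_zero]; exact one_mem _
    · exact le_gen _ h ((mem_dX3 hμ hν).2 ⟨_, rfl⟩)
  · rcases h4 with rfl | h
    · rw [x4_zero, x4_zero]; exact one_mem _
    · exact le_gen _ h ((mem_dX4 hμ hν).2 ⟨_, rfl⟩)

theorem norm5 {c : ZMod 12} (hc : c.val < 5) {u y : G × G'} (hu : u ∈ dX x x' 5)
    (hy : y ∈ dX x x' c) : u * y * u⁻¹ ∈ gen (dX x x') {r | c.val ≤ r.val ∧ r.val < 5} := by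
  obtain ⟨z, rfl⟩ := (mem_dX5 hμ hν).1 hu
  have hy' : y ∈ gen (dX x x') {r | c.val ≤ r.val ∧ r.val < 5} := le_gen _ (by exact ⟨le_rfl, hc⟩) hy
  obtain rfl | rfl | rfl | rfl | rfl : c = 0 ∨ c = 1 ∨ c = 2 ∨ c = 3 ∨ c = 4 := by
    clear hy hy'; revert c; decide
  · obtain ⟨t, rfl⟩ := (mem_dX0 hμ hν).1 hy
    have := r50 x' z t
    rw [hμ, hν] at this
    rw [show ((b x z, b x' z) * (a x t, a x' t) * (b x z, b x' z)⁻¹ : G × G') =
      (P x _ _ _ _ _, P x' _ _ _ _ _) from Prod.ext (r50 x z t) this]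
    exact P_mem hμ hν _ _ _ _ _ (Or.inr (by decide)) (Or.inr (by decide)) (Or.inr (by decide))
      (Or.inr (by decide)) (Or.inr (by decide))
  · obtain ⟨t, rfl⟩ := (mem_dX1 hμ hν).1 hy
    have := r51 x' z t
    rw [hμ, hν, ← (qd x).k_unique (qd' hμ hν), ← (qd x).k_unique (qd' hμ hν)] at this
    rw [show ((b x z, b x' z) * (x1 x t, x1 x' t) * (b x z, b x' z)⁻¹ : G × G') =
      (P x _ _ _ _ _, P x' _ _ _ _ _) from Prod.ext (r51 x z t) this]
    exact P_mem hμ hν _ _ _ _ _ (Or.inl rfl) (Or.inr (by decide)) (Or.inr (by decide))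
      (Or.inr (by decide)) (Or.inr (by decide))
  · obtain ⟨t, rfl⟩ := (mem_dX2 hμ hν).1 hy
    rwa [show ((b x z, b x' z) * (x2 x t, x2 x' t) : G × G') = (x2 x t, x2 x' t) * (b x z, b x' z) from
      Prod.ext (c52 x z t) (c52 x' z t), mul_inv_cancel_right]
  · obtain ⟨t, rfl⟩ := (mem_dX3 hμ hν).1 hy
    have := b_x3 x' z t
    rw [← (qd x).l_unique (qd' hμ hν)] at this
    rw [show ((b x z, b x' z) * (x3 x t, x3 x' t) * (b x z, b x' z)⁻¹ : G × G') =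
      (x3 x t, x3 x' t) * (x4 x _, x4 x' _) from Prod.ext (b_x3 x z t) this]
    exact mul_mem hy' (le_gen _ (by decide) ((mem_dX4 hμ hν).2 ⟨_, rfl⟩))
  · obtain ⟨t, rfl⟩ := (mem_dX4 hμ hν).1 hy
    rwa [show ((b x z, b x' z) * (x4 x t, x4 x' t) : G × G') = (x4 x t, x4 x' t) * (b x z, b x' z) from
      Prod.ext (c54 x z t) (c54 x' z t), mul_inv_cancel_right]

theorem norm0 {c : ZMod 12} (hc : 0 < c.val ∧ c.val < 6) {u y : G × G'} (hu : u ∈ dX x x' 0)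
    (hy : y ∈ dX x x' c) : u * y * u⁻¹ ∈ gen (dX x x') {r | 0 < r.val ∧ r.val ≤ c.val} := by
  obtain ⟨z, rfl⟩ := (mem_dX0 hμ hν).1 hu
  have hy' : y ∈ gen (dX x x') {r | 0 < r.val ∧ r.val ≤ c.val} :=
    le_gen _ (by exact ⟨hc.1, le_rfl⟩) hy
  obtain rfl | rfl | rfl | rfl | rfl : c = 1 ∨ c = 2 ∨ c = 3 ∨ c = 4 ∨ c = 5 := by
    clear hy hy'; revert c; decide
  · obtain ⟨t, rfl⟩ := (mem_dX1 hμ hν).1 hy
    rwa [show ((a x z, a x' z) * (x1 x t, x1 x' t) : G × G') = (x1 x t, x1 x' t) * (a x z, a x' z) from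
      Prod.ext (c10 x t z).symm (c10 x' t z).symm, mul_inv_cancel_right]
  · obtain ⟨t, rfl⟩ := (mem_dX2 hμ hν).1 hy
    rwa [show ((a x z, a x' z) * (x2 x t, x2 x' t) : G × G') = (x2 x t, x2 x' t) * (a x z, a x' z) from
      Prod.ext (c20 x t z).symm (c20 x' t z).symm, mul_inv_cancel_right]
  · obtain ⟨t, rfl⟩ := (mem_dX3 hμ hν).1 hy
    rwa [show ((a x z, a x' z) * (x3 x t, x3 x' t) : G × G') = (x3 x t, x3 x' t) * (a x z, a x' z) from
      Prod.ext (c30 x t z).symm (c30 x' t z).symm, mul_inv_cancel_right]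
  · obtain ⟨t, rfl⟩ := (mem_dX4 hμ hν).1 hy
    rw [show ((a x z, a x' z) * (x4 x t, x4 x' t) * (a x z, a x' z)⁻¹ : G × G') =
      (x2 x _, x2 x' _) * (x4 x t, x4 x' t) from Prod.ext (r04 x z t) (r04 x' z t)]
    exact mul_mem (le_gen _ (by decide) ((mem_dX2 hμ hν).2 ⟨_, rfl⟩)) hy'
  · obtain ⟨t, rfl⟩ := (mem_dX5 hμ hν).1 hy
    have := r05 x' z t
    rw [hμ, hν] at this
    rw [show ((a x z, a x' z) * (b x t, b x' t) * (a x z, a x' z)⁻¹ : G × G') =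
      (P x _ _ _ _ _, P x' _ _ _ _ _) * (b x t, b x' t) from Prod.ext (r05 x z t) this]
    exact mul_mem (P_mem hμ hν _ _ _ _ _ (Or.inl rfl) (Or.inr (by decide)) (Or.inr (by decide))
      (Or.inr (by decide)) (Or.inr (by decide))) hy'

omit hμ hν in
theorem dX_fst {r : ZMod 12} {g : G × G'} (hg : g ∈ dX x x' r) : g.1 ∈ x.X r := by
  obtain ⟨w, i, e⟩ := hexW.exists_simple r
  obtain ⟨l, hl⟩ := hexW.exch.exists_word w⁻¹
  have e2 : (wp hexW.sW l).1 r = hexW.p i := by rw [hl, e, hexW.inv_apply_apply]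
  have h1 := hg l i e2
  have h2 : (wp (dN x x') l).1 = (hexGRD x).nw l := by
    refine (map_wp (dN x x') (MonoidHom.fst G G') l).trans (congrArg (wp · l) ?_)
    funext i; cases i <;> rfl
  refine ((hexGRD x).act_nw l r g.1).2 ?_
  rw [e2, ← h2]
  cases i
  · obtain ⟨t, ht⟩ := h1
    have : (wp (dN x x') l * g * (wp (dN x x') l)⁻¹).1 ∈ x.X 0 := ht ▸ a_mem x t
    exact this
  · obtain ⟨t, ht⟩ := h1
    have : (wp (dN x x') l * g * (wp (dN x x') l)⁻¹).1 ∈ x.X 5 := ht ▸ b_mem x t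
    exact this

/-- The diagonal root groups lie over the root group datum of the first hexagon. -/
def dLD : H57.LD hexW (MonoidHom.fst G G') (hexGRD x).B (hexGRD x).V x.T where
  Y := dX x x'
  H := dH x x'
  n := dN x x'
  h_conj _ hh r _ hg := dH_dX hμ hν hh r hg
  n_conj i r _ hg := WLift.n_X i r hg
  n_H i _ hh := dN_H hμ hν i hh
  n_sq := dN_sq x x'
  rank_one i y hy h1 := by
    cases i
    · obtain ⟨g, hg, rfl⟩ := dN_dX' hμ hν false (r := 0) (s := 6) (by decide) hy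
      obtain ⟨t, rfl⟩ := (mem_dX0 hμ hν).1 hg
      obtain ⟨t, rfl⟩ := neg_surjective t
      have ht : t ≠ 0 := by
        rintro rfl
        exact h1 (by simp [a_zero, Prod.ext_iff])
      exact ⟨_, (mem_dX0 hμ hν).2 ⟨t⁻¹, rfl⟩, _, (mem_dX0 hμ hν).2 ⟨t⁻¹, rfl⟩, _,
        ⟨t * t, by simpa, (mu x t)⁻¹, by simpa, rfl⟩, Prod.ext (rk0 x ht) (hμ ▸ rk0 x' ht)⟩
    · obtain ⟨g, hg, rfl⟩ := dN_dX' hμ hν true (r := 5) (s := 11) (by decide) hy
      obtain ⟨t, rfl⟩ := (mem_dX5 hμ hν).1 hg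
      obtain ⟨t, rfl⟩ := neg_surjective t
      have ht : t ≠ 0 := by
        rintro rfl
        exact h1 (by simp [b_zero, Prod.ext_iff])
      exact ⟨_, (mem_dX5 hμ hν).2 ⟨t⁻¹, rfl⟩, _, (mem_dX5 hμ hν).2 ⟨t⁻¹, rfl⟩, _,
        ⟨(nu x t)⁻¹, by simpa, t * t, by simpa, rfl⟩, Prod.ext (rk5 x ht) (hν ▸ rk5 x' ht)⟩
  nontriv i := by
    cases i
    · exact ⟨_, (mem_dX0 hμ hν).2 ⟨1, rfl⟩, fun e =>
        one_ne_zero (a_inj x ((congrArg Prod.fst e).trans (a_zero x).symm))⟩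
    · exact ⟨_, (mem_dX5 hμ hν).2 ⟨1, rfl⟩, fun e =>
        one_ne_zero (b_inj x ((congrArg Prod.fst e).trans (b_zero x).symm))⟩
  norm w i hi c hc hne u hu y hy := by
    have h1 : ¬ (w.1 (hexW.p i)).val < 6 := hi.2
    have h2 : ¬ (w.1 c).val < 6 := hc.2
    have h3 : c.val < 6 := hc.1
    cases i
    · refine gen_mono _ (fun r hr => ?_) (norm0 hμ hν ⟨?_, h3⟩ hu hy)
      · change (r.val < 6 ∧ ¬ (w.1 r).val < 6) ∧ r ≠ 0
        obtain ⟨k, hk | hk⟩ := hexW_W w <;> simp only [hk] at h1 h2 ⊢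
        · exact conv1 k c r h1 h2 h3 hr
        · exact conv2 k c r h1 h2 h3 hr
      · exact (by decide : ∀ c : ZMod 12, c ≠ 0 → 0 < c.val) c hne
    · refine gen_mono _ (fun r hr => ?_) (norm5 hμ hν ?_ hu hy)
      · change (r.val < 6 ∧ ¬ (w.1 r).val < 6) ∧ r ≠ 5
        obtain ⟨k, hk | hk⟩ := hexW_W w <;> simp only [hk] at h1 h2 ⊢
        · exact conv3 k c r h1 h2 h3 hr
        · exact conv4 k c r h1 h2 h3 hr
      · exact (by decide : ∀ c : ZMod 12, c.val < 6 → c ≠ 5 → c.val < 5) c h3 hne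
  map_pos r hr y hy := (hexGRD x).U_le_B ((hexGRD x).X_le_U hr (dX_fst hy))
  map_neg r hr y hy := (hexGRD x).X_le_V hr (dX_fst hy)
  map_H := by
    rintro _ ⟨t, -, y, -, rfl⟩
    exact τ_mem x t y
  Hm_le := (hexGRD x).H_le_B
  n_Hm i h hh := by
    cases i
    · exact x.φ_T h hh
    · exact x.ψ_T h hh
  disj _ := (hexGRD x).eq_one_of_mem_B_V
  inj_p i y hy h1 := by
    cases i
    · obtain ⟨t, rfl⟩ := (mem_dX0 hμ hν).1 hy
      obtain rfl : t = 0 := a_inj x (h1.trans (a_zero x).symm)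
      simp [a_zero, Prod.ext_iff]
    · obtain ⟨t, rfl⟩ := (mem_dX5 hμ hν).1 hy
      obtain rfl : t = 0 := b_inj x (h1.trans (b_zero x).symm)
      simp [b_zero, Prod.ext_iff]

omit hμ hν in
variable (x x') in
/-- The diagonal subgroup. -/
def dG : Subgroup (G × G') :=
  closure (Set.range (dA x x') ∪ Set.range (dB x x') ∪ Set.range (dN x x'))

theorem dG_inj {g : G × G'} (hg : g ∈ dG x x') (h1 : g.1 = 1) : g = 1 := by
  refine (dLD hμ hν).inj ?_ g ?_ h1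
  · rintro _ ⟨t, ht, y, hy, rfl⟩ h
    obtain ⟨rfl, rfl⟩ := τ_inj x ht hy one_ne_zero one_ne_zero (h.trans (τ_one x).symm)
    simp [dT, τ_one, Prod.ext_iff]
  · refine (closure_le (K := (dLD hμ hν).grd.Gp)).2 ?_ hg
    rintro _ ((⟨t, rfl⟩ | ⟨t, rfl⟩) | ⟨i, rfl⟩)
    · exact (dLD hμ hν).grd.X_le_Gp 0 ((mem_dX0 hμ hν).2 ⟨t, rfl⟩)
    · exact (dLD hμ hν).grd.X_le_Gp 5 ((mem_dX5 hμ hν).2 ⟨t, rfl⟩)
    · exact (dLD hμ hν).grd.n_mem_Gp i

omit hμ hν in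
theorem dG_fst : (dG x x').map (MonoidHom.fst G G') = x.G₀ := by
  apply le_antisymm
  · rw [dG, MonoidHom.map_closure, closure_le]
    rintro _ ⟨_, (⟨t, rfl⟩ | ⟨t, rfl⟩) | ⟨i, rfl⟩, rfl⟩
    · exact hex_φ_mem x _
    · exact hex_ψ_mem x _
    · cases i
      · exact hex_φ_mem x _
      · exact hex_ψ_mem x _
  · have hn : ∀ i, (hexGRD x).n i ∈ (dG x x').map (MonoidHom.fst G G') := fun i =>
      ⟨dN x x' i, subset_closure (Or.inr ⟨i, rfl⟩), by cases i <;> rfl⟩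
    have hp : ∀ i, x.X (hexW.p i) ≤ (dG x x').map (MonoidHom.fst G G') := fun i g hg => by
      cases i
      · obtain ⟨t, rfl⟩ := (mem_X0 x).1 hg
        exact ⟨dA x x' t, subset_closure (Or.inl (Or.inl ⟨t, rfl⟩)), rfl⟩
      · obtain ⟨t, rfl⟩ := (mem_X5 x).1 hg
        exact ⟨dB x x' t, subset_closure (Or.inl (Or.inr ⟨t, rfl⟩)), rfl⟩
    refine le_trans (iSup_le fun r => le_gen x.X (Set.mem_univ r))
      ((hexGRD x).gen_univ_le hp fun i g hg => ?_)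
    have := ((hexGRD x).act_n i).inv.conj_mem hg
    rw [hexW.sW_inv, hexW.sW_val, hexW.s_neg_p] at this
    simpa [mul_assoc] using mul_mem (mul_mem (hn i) (hp i this)) (inv_mem (hn i))

theorem dG_equiv : Nonempty (dG x x' ≃* x.G₀) := by
  refine ⟨(MulEquiv.ofBijective ((MonoidHom.fst G G').subgroupMap (dG x x'))
    ⟨(injective_iff_map_eq_one _).2 fun g hg => ?_, MonoidHom.subgroupMap_surjective _ _⟩).trans
    (MulEquiv.subgroupCongr dG_fst)⟩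
  exact Subtype.ext (dG_inj hμ hν g.2 (congrArg Subtype.val hg))

omit hμ hν in
theorem dG_swap : (dG x x').map ((MulEquiv.prodComm : G × G' ≃* G' × G) : G × G' →* G' × G) =
    dG x' x := by
  rw [dG, MonoidHom.map_closure, Set.image_union, Set.image_union, ← Set.range_comp,
    ← Set.range_comp, ← Set.range_comp]
  congr 3
  funext i; cases i <;> rfl

theorem equiv_of_eq : Nonempty (x.G₀ ≃* x'.G₀) := by
  obtain ⟨e⟩ := dG_equiv hμ hν
  obtain ⟨e'⟩ := dG_equiv hμ.symm hν.symm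
  exact ⟨(e.symm.trans ((MulEquiv.prodComm.subgroupMap (dG x x')).trans
    (MulEquiv.subgroupCongr (dG_swap (x := x) (x' := x'))))).trans e'⟩

end H51.Hx
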